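import Cfsg.Agent.H434.LD.K2Span_m3
import Cfsg.Agent.H434.LD.K2Gen_m3
import Cfsg.Agent.H464.L2Num_m3
import Cfsg.Agent.ClassicalGeometry.AutPSL.Auto
import Cfsg.Agent.ClassicalGeometry.AutPSL.Main
import Cfsg.Agent.H909.SpBasic
import Cfsg.Agent.S0242
import Cfsg.Agent.H114.O12.MEleven_mg_m3
import Cfsg.Agent.H614.AMod.Main
import Cfsg.Agent.H114.TyTwo_m3
import Cfsg.Agent.H924.D5F_m3
import Cfsg.Agent.H875.TwoQuad
import Cfsg.Agent.H937.T2Rep_m3
import Cfsg.Agent.H920.Sz12.CoreP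
import Cfsg.Agent.Lib.SL2Lift
import Mathlib.Algebra.QuadraticAlgebra.Basic
import Mathlib.LinearAlgebra.Matrix.ToLin
import Mathlib.LinearAlgebra.FiniteDimensional.Basic
import Mathlib.Tactic
import Cfsg.Prelude.Def_GeometricClasses
import Cfsg.Agent.H464.L2StageOne_m3
import Cfsg.Agent.S2540
import Cfsg.Agent.Lib.AutSL2Out
import Cfsg.Agent.H464.L2TrF_m3
import Cfsg.Agent.H912.FiveList
import Cfsg.Agent.H434.LD.PSp45_m3
import Cfsg.Agent.StdG24.Ord6
import Cfsg.Agent.StdG24.Iso6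
import Cfsg.Agent.H876.UBasic
import Cfsg.Agent.ClassicalGeometry.PSUAutMain
import Cfsg.Agent.Lib.FinFast
import Cfsg.Agent.S1055
import Cfsg.Agent.TwoFusion.U34Sylow
import Cfsg.Agent.S0283
import Cfsg.Agent.ClassicalGeometry.HermParabolic
import Cfsg.Agent.H906.Cover_m3
import Cfsg.Agent.S0397
import Cfsg.Agent.H920.Realise
import Cfsg.Agent.H920.SympA
import Cfsg.Agent.H955.Sp
import Cfsg.Agent.H270.Crit.Base
import Cfsg.Agent.H487.SchurMult
import Cfsg.Agent.S1059
import Cfsg.Agent.S2102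
import Cfsg.Agent.S2121
import Cfsg.Agent.S3974
import Cfsg.Agent.H937.G24.Qk_mg
import Cfsg.Agent.LieClassical.FieldTransfer
import Cfsg.Agent.H937.G24.Row
import Cfsg.Agent.H638.G2Iso
import Cfsg.Agent.H24.M12.Pow
import Cfsg.Agent.H912.CrossList_m3
import Cfsg.Agent.H95.LSx.Sub
import Cfsg.Agent.H906.A7Twelve_mg
import Cfsg.Agent.H936.List12c
import Cfsg.Agent.H936.U33All
import Cfsg.Agent.H36.U52.Main
import Cfsg.Agent.H434.LD.WUniq_m3
import Cfsg.Agent.H916.SpSixK_mg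
import Cfsg.Agent.H918.U43.Main
import Cfsg.Agent.H814.SzEightCore
import Cfsg.Agent.H921.M22.Final_m3
import Cfsg.Agent.H4.LDM.Stage24
import Cfsg.Agent.H659.J1Not11
import Cfsg.Agent.H179.JoneL
import Cfsg.Agent.H95.JT.Core
import Cfsg.Agent.H878.Sz.MainP3
import Cfsg.Agent.H878.Sz.MainThree
import Cfsg.Agent.FastGrp
import Cfsg.Agent.Prune
set_option linter.all false

section
prune_inst 0x7ff0a8fb89f839dedfff7e77a6dccffdf9b93fffa4dff9cbffe061ff0f9f4b00c9c52bad8be810fe0eb6421410e87b03f9ffdeffe06bdc7ffffd5ff41ffbff9ffdf7b508519488340fb40ff603f0778e7f3fffffffffffffffffffffffffffbeffbdffffffff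

-- part: H434/LD/K2Ext
section
prune_inst 0xe4004620700012000000850032000020480004b00000000088800a040209204004400040223001040a828801600c0040000000a0020000000a0004000000002080804200a2480104260099800080000000000000000000000000000000000000000000000
set_option linter.all false
open scoped Cfsg.Agent.FastGrp

/-!
# Extension of the 12-dimensional representation of `SL₂(25)` to `Sp₄(5)` over `F_p`, `p ≡ ±1 mod 5` (helper434)
-/

set_option autoImplicit false
set_option linter.unusedSectionVars false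
open Matrix Module Cfsg.Agent.H162.Weil

namespace Cfsg.Agent.H434.K2

open Cfsg Cfsg.Geo Cfsg.Agent.H915.LD Cfsg.Agent.H434.MRep Cfsg.Agent.H434.WK Cfsg.Agent.H434.PSp45

universe u v

section desc

variable {F : Type*} [Field F] [Fintype F] {𝕜 : Type*} [Field 𝕜] [Algebra F 𝕜] (p : ℕ) [hp : Fact p.Prime] [CharP F p]

theorem mem_range_of_pow (y : 𝕜) (hy : y ^ p = y) : ∃ x : F, algebraMap F 𝕜 x = y := by
  have : CharP 𝕜 p := charP_of_injective_algebraMap (algebraMap F 𝕜).injective p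
  have h1 : y ∈ (⊥ : Subfield 𝕜) := (Subfield.mem_bot_iff_pow_eq_self 𝕜 p).2 hy
  have h2 : (⊥ : Subfield 𝕜) ≤ (algebraMap F 𝕜).fieldRange := bot_le
  exact h2 h1

variable {ι : Type*} [Fintype ι] [DecidableEq ι] {G : Type*} [Group G]

/-- descent of a matrix by traces -/
theorem exists_map (m : G →* Matrix ι ι F) (hm : Submodule.span F (Set.range m) = ⊤) (M : Matrix ι ι 𝕜)
    (htr : ∀ g, ∃ x : F, algebraMap F 𝕜 x = (M * (m g).map (algebraMap F 𝕜)).trace) :
    ∃ M₀ : Matrix ι ι F, M₀.map (algebraMap F 𝕜) = M := by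
  have hall : ∀ N : Matrix ι ι F, ∃ x : F, algebraMap F 𝕜 x = (M * N.map (algebraMap F 𝕜)).trace := by
    intro N
    have hN : N ∈ Submodule.span F (Set.range m) := by rw [hm]; trivial
    induction hN using Submodule.span_induction with
    | mem x hx =>
      obtain ⟨g, rfl⟩ := hx
      exact htr g
    | zero => exact ⟨0, by rw [map_zero, Matrix.map_zero _ (map_zero _), Matrix.mul_zero, Matrix.trace_zero]⟩
    | add x y _ _ hx hy =>
      obtain ⟨a, ha⟩ := hx
      obtain ⟨b, hb⟩ := hy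
      exact ⟨a + b, by rw [map_add, ha, hb, Matrix.map_add _ (map_add _), Matrix.mul_add, Matrix.trace_add]⟩
    | smul c x _ hx =>
      obtain ⟨a, ha⟩ := hx
      refine ⟨c * a, ?_⟩
      have h1 : (c • x).map (algebraMap F 𝕜) = (algebraMap F 𝕜 c) • x.map (algebraMap F 𝕜) := by
        ext i j
        simp
      rw [map_mul, ha, h1, Matrix.mul_smul, Matrix.trace_smul, smul_eq_mul]
  choose f hf using fun i j => hall (Matrix.single j i (1 : F))
  refine ⟨Matrix.of f, ?_⟩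
  ext i j
  rw [Matrix.map_apply, Matrix.of_apply, hf, Matrix.map_single, map_one, Matrix.trace_mul_single]
  simp

end desc

section weil

variable {𝕜 : Type*} [Field 𝕜] [hq : Fact ((Fintype.card (ZMod 5) : 𝕜) ≠ 0)] [hk2 : Fact ((2 : 𝕜) ≠ 0)]

theorem finrank_odd12 : finrank 𝕜 (Es 2 (ZMod 5) (-1 : 𝕜)) = 12 := by
  have h1 := finrank_even_eq (𝕜 := 𝕜) (n := 2) (F := ZMod 5) two_zmod
  have h2 := finrank_sum (𝕜 := 𝕜) (n := 2) (F := ZMod 5) two_zmod
  rw [ZMod.card] at h2
  omega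

variable {K : Type*} [Field K] [Fintype K] [Algebra (ZMod 5) K] (b : Basis (Fin 2) (ZMod 5) K)

include b in
theorem card_25 : Fintype.card K = 25 := by
  rw [card_K b, ZMod.card]
  norm_num

/-- The odd Weil representation of `Sp₄(5)`. -/
theorem exists_odd {ψ : AddChar (ZMod 5) 𝕜} (hψ : ψ.IsPrimitive) :
    ∃ ρ : Representation 𝕜 (Sp 2 (ZMod 5)) (Es 2 (ZMod 5) (-1 : 𝕜)),
      Submodule.span 𝕜 (Set.range (ρ.comp (jj b))) = ⊤ ∧ ∀ S, ρ (uu S) = 1 → S = 0 := by
  obtain ⟨ω, hu, hω, hm, -⟩ := exists_weil hψ two_zmod (one_ne_zero) (0 : Fin 2)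
  refine ⟨oddRep ω hω, span_odd b hω hψ two_zmod hu hm, fun S hS => ?_⟩
  by_contra hS0
  -- `x · S x = 0` for every `x`
  have h1 : ∀ x : Fin 2 → ZMod 5, x ⬝ᵥ (S.1 *ᵥ x) = 0 := by
    intro x
    by_contra hx
    have hx0 : x ≠ 0 := by
      rintro rfl
      exact hx (by simp)
    obtain ⟨s, hs⟩ : ∃ s : ZMod 5, ψ (s * (x ⬝ᵥ (S.1 *ᵥ x))) ≠ 1 := exists_ne_one hψ hx
    obtain ⟨m, rfl⟩ : ∃ m : ℕ, (m : ZMod 5) = s := ⟨s.val, ZMod.natCast_zmod_val s⟩
    apply hs
    have h2 := congrArg (fun T : Module.End 𝕜 (Es 2 (ZMod 5) (-1 : 𝕜)) => (T (dd x)).1 x) hS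
    simp only [Module.End.one_apply] at h2
    rw [oddRep_coe, hu, WK.DS_apply, dd_self two_zmod hx0, mul_one, one_mul] at h2
    rw [← nsmul_eq_mul, AddChar.map_nsmul_eq_pow, h2, one_pow]
  apply hS0
  apply Subtype.ext
  have h2 : (2 : ZMod 5) ≠ 0 := two_zmod
  have hsym : S.1 1 0 = S.1 0 1 := Sym.apply S 1 0
  have e1 := h1 ![1, 0]
  have e2 := h1 ![0, 1]
  have e3 := h1 ![1, 1]
  simp only [dotProduct, mulVec, Fin.sum_univ_two, Matrix.cons_val_zero, Matrix.cons_val_one, mul_one, mul_zero, add_zero,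
    zero_add, one_mul, zero_mul] at e1 e2 e3
  have e4 : S.1 0 1 = 0 := by
    rw [e1, e2, hsym] at e3
    have : (2 : ZMod 5) * S.1 0 1 = 0 := by linear_combination e3
    exact (mul_eq_zero.1 this).resolve_left h2
  ext i j
  fin_cases i <;> fin_cases j
  · exact e1
  · exact e4
  · exact hsym.trans e4
  · exact e2

end weil

theorem toMatrix_neg_one {ι : Type*} [Fintype ι] [DecidableEq ι] {𝕜 : Type*} [Field 𝕜] {V : Type*} [AddCommGroup V]
    [Module 𝕜 V] (b : Basis ι 𝕜 V) {T : Module.End 𝕜 V} (hT : ∀ v, T v = -v) :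
    LinearMap.toMatrix b b T = (-1 : 𝕜) • (1 : Matrix ι ι 𝕜) := by
  have h : T = (-1 : 𝕜) • LinearMap.id := by
    apply LinearMap.ext
    intro v
    rw [hT, LinearMap.smul_apply, LinearMap.id_apply, neg_one_smul]
  rw [h, map_smul, LinearMap.toMatrix_id]

section main

variable {ι : Type} [Fintype ι] [DecidableEq ι] {F : Type u} [Field F] [Fintype F] {P : Subgroup (GL ι F)}
  {K : Type v} [Field K] [Fintype K]

/-- matrices of a homomorphism to `GL` -/
def cm {G : Type*} [Group G] (ρ : G →* GL ι F) : G →* Matrix ι ι F := (Units.coeHom (Matrix ι ι F)).comp ρ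

theorem cm_apply {G : Type*} [Group G] (ρ : G →* GL ι F) (g : G) : cm ρ g = (ρ g : Matrix ι ι F) := rfl

theorem cm_span (hC : Core P) {G : Type*} [Group G] {ρ : G →* GL ι F} (hρ : ρ.range = P) :
    Submodule.span F (Set.range (cm ρ)) = ⊤ := by
  rw [← H920.span_eq_top hC.absIrred]
  congr 1
  ext x
  constructor
  · rintro ⟨g, rfl⟩
    exact ⟨ρ g, hρ ▸ ⟨g, rfl⟩, rfl⟩
  · rintro ⟨y, hy, rfl⟩
    rw [← hρ] at hy
    obtain ⟨g, rfl⟩ := hy
    exact ⟨g, rfl⟩

open ClassicalGeometry.AutPSL.Auto in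
/-- twisting the parametrisation by a diagonal automorphism -/
theorem exists_equiv_dl (e : Soc P ≃* ProjectiveSpecialLinearGroup (Fin 2) K) (ρ₁ : SpecialLinearGroup (Fin 2) K →* GL ι F)
    (he : ∀ (g : SpecialLinearGroup (Fin 2) K) (h : ρ₁ g ∈ P), e (toSoc P ⟨ρ₁ g, h⟩) = QuotientGroup.mk g) (ν : Kˣ) :
    ∃ e' : Soc P ≃* ProjectiveSpecialLinearGroup (Fin 2) K, ∀ (g : SpecialLinearGroup (Fin 2) K)
      (h : ρ₁ (H464.Sl2.dl ν g) ∈ P), e' (toSoc P ⟨ρ₁ (H464.Sl2.dl ν g), h⟩) = QuotientGroup.mk g := by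
  let d : MulAut (SpecialLinearGroup (Fin 2) K) := MulEquiv.ofBijective (H464.Sl2.dl ν)
    ⟨Finite.injective_iff_surjective.2 (H464.Sl2.dl_surjective ν), H464.Sl2.dl_surjective ν⟩
  refine ⟨e.trans (lift d)⁻¹, fun g h => ?_⟩
  change (lift d)⁻¹ (e _) = _
  rw [he]
  change (lift d)⁻¹ ((lift d) (QuotientGroup.mk g)) = _
  exact MulAut.inv_apply_self _ _ _

variable (p : ℕ) [hp : Fact p.Prime] [CharP F p]

/-- **Step 1**: a parametrisation `ρ` of `P` with the same traces as the odd Weil representation. -/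
theorem exists_param (hC : Core P) [Algebra (ZMod 5) K] (b : Basis (Fin 2) (ZMod 5) K) (hp5 : p ≠ 5)
    (hn : Fintype.card ι = 12) (e : Soc P ≃* ProjectiveSpecialLinearGroup (Fin 2) K)
    [hq : Fact ((Fintype.card (ZMod 5) : AlgebraicClosure F) ≠ 0)] [hk2 : Fact ((2 : AlgebraicClosure F) ≠ 0)]
    {ψ : AddChar (ZMod 5) (AlgebraicClosure F)} (hψ : ψ.IsPrimitive)
    (σ : Representation (AlgebraicClosure F) (Sp 2 (ZMod 5)) (Es 2 (ZMod 5) (-1 : AlgebraicClosure F)))
    (hσ : Submodule.span (AlgebraicClosure F) (Set.range (σ.comp (jj b))) = ⊤) :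
    ∃ ρ : SpecialLinearGroup (Fin 2) K →* GL ι F, ρ.range = P ∧
      (∃ e' : Soc P ≃* ProjectiveSpecialLinearGroup (Fin 2) K, ∀ (g : SpecialLinearGroup (Fin 2) K) (h : ρ g ∈ P),
        e' (toSoc P ⟨ρ g, h⟩) = QuotientGroup.mk g) ∧
      ∀ g, algebraMap F (AlgebraicClosure F) (tr (ρ g)) = LinearMap.trace (AlgebraicClosure F) _ (σ (jj b g)) := by
  classical
  have hK25 := card_25 b
  have hpK : ¬ p ∣ Fintype.card K := by
    rw [hK25]
    intro h
    exact hp5 ((Nat.prime_dvd_prime_iff_eq hp.out (by norm_num)).1 (hp.out.dvd_of_dvd_pow (n := 2) (by norm_num; exact h)))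
  obtain ⟨ρ₁, hρ₁, he₁⟩ := H464.Sl2.l2_rep hC (by omega) (by omega) e
  set 𝕜 := AlgebraicClosure F with h𝕜
  have hKF : (Fintype.card K : F) ≠ 0 := H464.Sl2.card_cast_ne p hpK
  have hKk : (Fintype.card K : 𝕜) ≠ 0 := card_K_ne (𝕜 := 𝕜) b
  set ψK : AddChar K 𝕜 := psK K ψ with hψK
  have hψK' : ψK.IsPrimitive := psK_prim hψ
  set R₁ : SpecialLinearGroup (Fin 2) K →* Module.End 𝕜 (ι → 𝕜) := mRep (cm ρ₁) (algebraMap F 𝕜) with hR₁
  set R₂ : SpecialLinearGroup (Fin 2) K →* Module.End 𝕜 (Es 2 (ZMod 5) (-1 : 𝕜)) := σ.comp (jj b) with hR₂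
  have hd₁ : finrank 𝕜 (ι → 𝕜) = 12 := fin12 hn
  have hd₂ : finrank 𝕜 (Es 2 (ZMod 5) (-1 : 𝕜)) = 12 := finrank_odd12
  have hs₁ : Submodule.span 𝕜 (Set.range R₁) = ⊤ := mRep_span (cm ρ₁) (cm_span hC hρ₁) _
  have hn₁ : R₁ ≠ 1 := ne_one_of_span hs₁ (by rw [hd₁]; norm_num)
  have hn₂ : R₂ ≠ 1 := ne_one_of_span hσ (by rw [hd₂]; norm_num)
  obtain ⟨b₁, b₁', hb₁, hb₁', hE₁, hE₁', h0₁⟩ := H464.Sl2.half_cases R₁ hψK' hKk hs₁ hn₁ (by omega) (by omega)
  obtain ⟨b₂, b₂', hb₂, hb₂', hE₂, hE₂', h0₂⟩ := H464.Sl2.half_cases R₂ hψK' hKk hσ hn₂ (by omega) (by omega)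
  have hchar : ringChar K ≠ 2 := by
    intro h
    have h1 := FiniteField.even_card_of_char_two h
    omega
  obtain ⟨ν, hν⟩ := H464.Sl2.half_u_cases R₂ R₁ hψK' hKk hchar (by omega) hb₂' hb₁'
    (H464.Sl2.half_weights R₂ hψK' hKk hσ hb₂ hE₂ hb₂' hE₂') (H464.Sl2.half_weights R₁ hψK' hKk hs₁ hb₁ hE₁ hb₁' hE₁')
  set ρ : SpecialLinearGroup (Fin 2) K →* GL ι F := ρ₁.comp (H464.Sl2.dl ν) with hρdef
  have hρ : ρ.range = P := by
    rw [hρdef, MonoidHom.range_comp, MonoidHom.range_eq_top.2 (H464.Sl2.dl_surjective ν), ← MonoidHom.range_eq_map, hρ₁]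
  refine ⟨ρ, hρ, exists_equiv_dl e ρ₁ he₁ ν, ?_⟩
  set R : SpecialLinearGroup (Fin 2) K →* Module.End 𝕜 (ι → 𝕜) := mRep (cm ρ) (algebraMap F 𝕜) with hR
  have hs : Submodule.span 𝕜 (Set.range R) = ⊤ := mRep_span (cm ρ) (cm_span hC hρ) _
  have htr : ∀ g, LinearMap.trace 𝕜 _ (R g) = algebraMap F 𝕜 (tr (ρ g)) := fun g => mRep_trace _ _ _
  let bA : Basis (Fin 12) 𝕜 (ι → 𝕜) := finBasisOfFinrankEq 𝕜 _ hd₁
  let bB : Basis (Fin 12) 𝕜 (Es 2 (ZMod 5) (-1 : 𝕜)) := finBasisOfFinrankEq 𝕜 _ hd₂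
  set ρA : SpecialLinearGroup (Fin 2) K →* GL (Fin 12) 𝕜 := (toM bA R).toHomUnits with hρA
  set ρB : SpecialLinearGroup (Fin 2) K →* GL (Fin 12) 𝕜 := (toM bB R₂).toHomUnits with hρB
  have hA : ∀ g, (ρA g : Matrix (Fin 12) (Fin 12) 𝕜) = toM bA R g := fun g => rfl
  have hB : ∀ g, (ρB g : Matrix (Fin 12) (Fin 12) 𝕜) = toM bB R₂ g := fun g => rfl
  have hspA : Submodule.span 𝕜 (Set.range fun g => (ρA g : Matrix (Fin 12) (Fin 12) 𝕜)) = ⊤ := toM_span bA hs
  have hspB : Submodule.span 𝕜 (Set.range fun g => (ρB g : Matrix (Fin 12) (Fin 12) 𝕜)) = ⊤ := toM_span bB hσ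
  have key := H464.Sl2.weil_trace_eq ρA ρB hKk
    (by
      intro h
      apply ne_one_of_span hs (by rw [hd₁]; norm_num)
      ext1 g
      apply (LinearMap.toMatrix bA bA).injective
      have h2 := congrArg (fun x : GL (Fin 12) 𝕜 => (x : Matrix (Fin 12) (Fin 12) 𝕜)) (DFunLike.congr_fun h g)
      simp only [MonoidHom.one_apply, Units.val_one] at h2 ⊢
      rw [Module.End.one_eq_id, LinearMap.toMatrix_id]
      exact h2)
    (by
      intro h
      apply hn₂
      ext1 g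
      apply (LinearMap.toMatrix bB bB).injective
      have h2 := congrArg (fun x : GL (Fin 12) 𝕜 => (x : Matrix (Fin 12) (Fin 12) 𝕜)) (DFunLike.congr_fun h g)
      simp only [MonoidHom.one_apply, Units.val_one] at h2 ⊢
      rw [Module.End.one_eq_id, LinearMap.toMatrix_id]
      exact h2)
    hspA hspB (by omega) hchar (by omega)
    (by
      intro x
      rw [hA, hB, toM_trace, toM_trace, htr]
      have h1 := hν x
      rw [H464.Sl2.chi, H464.Sl2.chi] at h1
      rw [h1, hρdef, MonoidHom.comp_apply, H464.Sl2.dl_u]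
      exact (mRep_trace (cm ρ₁) (algebraMap F 𝕜) _).symm)
    (by
      refine ⟨-1, ?_, ?_⟩
      · obtain ⟨c, -, hcc⟩ := H830.Sl2Form.scalar_t ρ (hρ ▸ hC.absIrred)
        obtain ⟨-, h2, -⟩ := H464.Sl2.half_field p hC ρ hρ hpK (by omega) (by omega)
        have h3 := (h2 (by omega)).1 c hcc
        have h4 : H464.Sl2.eta F (-1 : K) = 1 := by
          rw [H464.Sl2.eta, (quadraticChar_one_iff_isSquare (by simp)).2
            (FiniteField.isSquare_neg_one_iff.2 (by omega)), Int.cast_one]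
        rw [h4] at h3
        rw [hA, toM_apply]
        apply toMatrix_neg_one
        intro v
        have h6 : cm ρ (H464.Sl2.t (-1)) = -1 := by
          rw [cm_apply]
          refine hcc.trans ?_
          rw [h3, neg_one_smul]
        rw [hR, mRep_apply, h6]
        have h7 : (-1 : Matrix ι ι F).map (algebraMap F 𝕜) = -1 := by
          rw [Matrix.map_neg _ (map_neg _), Matrix.map_one _ (map_zero _) (map_one _)]
        rw [h7, Matrix.neg_mulVec, Matrix.one_mulVec]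
      · rw [hB, toM_apply]
        have hnt : Nontrivial (Es 2 (ZMod 5) (-1 : 𝕜)) := Module.nontrivial_of_finrank_pos (R := 𝕜) (by rw [hd₂]; norm_num)
        have hirr : σ.IsIrreducible := irr_of_span (span_le_mono (jj b) hσ)
        apply toMatrix_neg_one
        intro v
        have h6 : jj b (H464.Sl2.t (-1)) = mm (-1 : GL (Fin 2) (ZMod 5)) := by
          rw [jj_t]
          congr 1
          apply Units.ext
          change M b ((-1 : Kˣ) : K) = _
          rw [Units.val_neg, Units.val_one, M_neg, M_one]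
          rfl
        rw [hR₂, MonoidHom.comp_apply, h6, neg_one_act hψ hirr hd₂])
  intro g
  have h1 := key g
  rw [hA, hB, toM_trace, toM_trace, htr] at h1
  exact h1

/-- a representation of `Sp₄(5)` of degree 12 has its traces fixed by the Frobenius, `p = ±1 mod 5` -/
theorem trace_frob {𝕜 : Type*} [Field 𝕜] [hq : Fact ((Fintype.card (ZMod 5) : 𝕜) ≠ 0)] (p : ℕ) [hp : Fact p.Prime]
    [CharP 𝕜 p] {ψ : AddChar (ZMod 5) 𝕜} (hψ : ψ.IsPrimitive) (hp5 : p % 5 = 1 ∨ p % 5 = 4) (hn : Fintype.card ι = 12)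
    (m : Sp 2 (ZMod 5) →* Matrix ι ι 𝕜) (hm : Submodule.span 𝕜 (Set.range m) = ⊤) (g : Sp 2 (ZMod 5)) :
    (m g).trace ^ p = (m g).trace := by
  have hne : Nonempty ι := by
    rw [← Fintype.card_pos_iff, hn]; norm_num
  have hd : finrank 𝕜 (ι → 𝕜) = 12 := by rw [Module.finrank_fintype_fun_eq_card, hn]
  have hμ5 := psi_pow_five (ψ := ψ) 1
  have h0 : (m (uu (sD 0 1))).trace ^ p = (m (uu (sD 0 1))).trace := by
    have h1 := tr12 hψ (mRep_irr m hm (RingHom.id 𝕜)) hd
    rw [mRep_trace, RingHom.id_apply] at h1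
    have hfr : ∀ x y : 𝕜, (2 + 5 * (x + y)) ^ p = 2 + 5 * (x ^ p + y ^ p) := by
      intro x y
      have := frob_aux p 1 x y
      rwa [pow_one] at this
    rcases h1 with ⟨-, h1⟩ | ⟨-, h1⟩ <;> rw [h1, hfr] <;> simp only [← pow_mul] <;> rcases hp5 with hk | hk
    · rw [pow_red hμ5 (a := p) (b := 1) (by omega), pow_red hμ5 (a := 4 * p) (b := 4) (by omega), pow_one]
    · rw [pow_red hμ5 (a := p) (b := 4) (by omega), pow_red hμ5 (a := 4 * p) (b := 1) (by omega), pow_one,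
        add_comm (ψ 1 ^ 4)]
    · rw [pow_red hμ5 (a := 2 * p) (b := 2) (by omega), pow_red hμ5 (a := 3 * p) (b := 3) (by omega)]
    · rw [pow_red hμ5 (a := 2 * p) (b := 3) (by omega), pow_red hμ5 (a := 3 * p) (b := 2) (by omega),
        add_comm (ψ 1 ^ 3)]
  have h1 := char_eq_tr hψ (mRep_irr m hm (RingHom.id 𝕜)) (mRep_irr m hm (frobenius 𝕜 p)) hd hd (by
    rw [mRep_trace, mRep_trace, RingHom.id_apply, frobenius_def, h0])
  have h2 := congrFun h1 g
  rw [mRep_character, mRep_character, RingHom.id_apply, frobenius_def] at h2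
  exact h2.symm

/-- **Step 2**: the extension. -/
theorem exists_ext (hC : Core P) [Algebra (ZMod 5) K] (b : Basis (Fin 2) (ZMod 5) K) (hp5 : p % 5 = 1 ∨ p % 5 = 4)
    (hp2 : p ≠ 2) (hF : Fintype.card F = p) (hn : Fintype.card ι = 12)
    (e : Soc P ≃* ProjectiveSpecialLinearGroup (Fin 2) K) :
    ∃ (ρ : SpecialLinearGroup (Fin 2) K →* GL ι F) (R : Sp 2 (ZMod 5) →* GL ι F), ρ.range = P ∧
      (∃ e' : Soc P ≃* ProjectiveSpecialLinearGroup (Fin 2) K, ∀ (g : SpecialLinearGroup (Fin 2) K) (h : ρ g ∈ P),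
        e' (toSoc P ⟨ρ g, h⟩) = QuotientGroup.mk g) ∧
      (∀ g, R (jj b g) = ρ g) ∧ ∀ S, R (uu S) = 1 → S = 0 := by
  classical
  have h5 : p ≠ 5 := by rintro rfl; omega
  have hch : CharP (AlgebraicClosure F) p := charP_of_injective_algebraMap (algebraMap F (AlgebraicClosure F)).injective p
  have hq : Fact ((Fintype.card (ZMod 5) : AlgebraicClosure F) ≠ 0) := fact_card (F := F) p h5
  have hk2 : Fact ((2 : AlgebraicClosure F) ≠ 0) := by
    constructor
    intro h
    have h1 := (CharP.cast_eq_zero_iff (AlgebraicClosure F) p 2).1 (by exact_mod_cast h)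
    exact hp2 ((Nat.prime_dvd_prime_iff_eq hp.out Nat.prime_two).1 h1)
  obtain ⟨ψ, hψ⟩ := exists_psi (F := F) p h5
  obtain ⟨σ, hσ, hσu⟩ := exists_odd b hψ
  obtain ⟨ρ, hρ, he', htr⟩ := exists_param p hC b h5 hn e hψ σ hσ
  set 𝕜 := AlgebraicClosure F with h𝕜
  have hd₂ : finrank 𝕜 (Es 2 (ZMod 5) (-1 : 𝕜)) = 12 := finrank_odd12
  let bV : Basis ι 𝕜 (Es 2 (ZMod 5) (-1 : 𝕜)) :=
    (finBasisOfFinrankEq 𝕜 _ hd₂).reindex (Fintype.equivFinOfCardEq hn).symm
  -- the two representations over `𝕜`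
  set mS : Sp 2 (ZMod 5) →* Matrix ι ι 𝕜 := toM bV σ with hmS
  set gS : Sp 2 (ZMod 5) →* GL ι 𝕜 := mS.toHomUnits with hgS
  set mA : SpecialLinearGroup (Fin 2) K →* Matrix ι ι 𝕜 :=
    ((algebraMap F 𝕜).mapMatrix : Matrix ι ι F →+* Matrix ι ι 𝕜).toMonoidHom.comp (cm ρ) with hmA
  have hmAa : ∀ g, mA g = (cm ρ g).map (algebraMap F 𝕜) := fun g => rfl
  set gA : SpecialLinearGroup (Fin 2) K →* GL ι 𝕜 := mA.toHomUnits with hgA
  have hspS : Submodule.span 𝕜 (Set.range mS) = ⊤ := toM_span bV (span_le_mono (jj b) hσ)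
  have hspB : Submodule.span 𝕜 (Set.range (toM bV (σ.comp (jj b)))) = ⊤ := toM_span bV hσ
  obtain ⟨J, hJ⟩ := H920.exists_conj_of_trace (gS.comp (jj b)) gA
    (by
      rw [eq_top_iff]
      intro x _
      have hx : x ∈ Submodule.span 𝕜 (Set.range (toM bV (σ.comp (jj b)))) := by rw [hspB]; trivial
      exact Algebra.span_le_adjoin 𝕜 _ hx)
    (by
      intro g
      change (mS (jj b g)).trace = (mA g).trace
      rw [hmS, toM_trace, ← htr g, hmAa]
      change algebraMap F 𝕜 (cm ρ g).trace = _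
      simp [Matrix.trace, map_sum])
  -- the conjugated representation
  set gT : Sp 2 (ZMod 5) →* GL ι 𝕜 := (MulAut.conj J).toMonoidHom.comp gS with hgT
  have hTj : ∀ g, gT (jj b g) = gA g := fun g => (hJ g).symm
  have htrT : ∀ x, ((gT x : GL ι 𝕜) : Matrix ι ι 𝕜).trace = (mS x).trace := by
    intro x
    change ((J * gS x * J⁻¹ : GL ι 𝕜) : Matrix ι ι 𝕜).trace = _
    rw [Units.val_mul, Units.val_mul, Matrix.trace_mul_comm, ← Matrix.mul_assoc, ← Units.val_mul, inv_mul_cancel,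
      Units.val_one, Matrix.one_mul]
    rfl
  have hM : ∀ x, ∃ M₀ : Matrix ι ι F, M₀.map (algebraMap F 𝕜) = ((gT x : GL ι 𝕜) : Matrix ι ι 𝕜) := by
    intro x
    apply exists_map (cm ρ) (cm_span hC hρ)
    intro g
    apply mem_range_of_pow p
    have h1 : ((gT x : GL ι 𝕜) : Matrix ι ι 𝕜) * (cm ρ g).map (algebraMap F 𝕜) =
        ((gT (x * jj b g) : GL ι 𝕜) : Matrix ι ι 𝕜) := by
      rw [map_mul, Units.val_mul, hTj]
      rfl
    rw [h1, htrT]
    exact trace_frob p hψ hp5 hn mS hspS _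
  choose f hf using hM
  have hinj : Function.Injective (fun M : Matrix ι ι F => M.map (algebraMap F 𝕜)) :=
    Matrix.map_injective (algebraMap F 𝕜).injective
  let mR : Sp 2 (ZMod 5) →* Matrix ι ι F :=
    { toFun := f
      map_one' := by
        apply hinj
        change (f 1).map _ = (1 : Matrix ι ι F).map _
        rw [hf, map_one, Matrix.map_one _ (map_zero _) (map_one _), Units.val_one]
      map_mul' := by
        intro x y
        apply hinj
        change (f (x * y)).map _ = (f x * f y).map _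
        rw [hf, map_mul, Matrix.map_mul, hf, hf, Units.val_mul] }
  refine ⟨ρ, mR.toHomUnits, hρ, he', fun g => ?_, fun S hS => ?_⟩
  · apply Units.ext
    apply hinj
    change (f (jj b g)).map _ = (cm ρ g).map _
    rw [hf, hTj]
    rfl
  · apply hσu
    have h1 : f (uu S) = 1 := congrArg (fun x : GL ι F => (x : Matrix ι ι F)) hS
    have h2 := hf (uu S)
    rw [h1, Matrix.map_one _ (map_zero _) (map_one _)] at h2
    have h3 : gT (uu S) = 1 := Units.ext h2.symm
    have h4 : J * gS (uu S) * J⁻¹ = 1 := h3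
    have h5 : gS (uu S) = 1 := by
      rw [mul_inv_eq_one] at h4
      exact mul_eq_left.1 h4
    have h6 : mS (uu S) = 1 := congrArg (fun x : GL ι 𝕜 => (x : Matrix ι ι 𝕜)) h5
    apply (LinearMap.toMatrix bV bV).injective
    rw [Module.End.one_eq_id, LinearMap.toMatrix_id]
    exact h6

end main

end Cfsg.Agent.H434.K2

private theorem dce_7a806fce1eef : _root_.True := by
  try have : _root_.True := by simp only [_root_.Cfsg.Agent.H464.Sl2.eta.eq_1]
  try have : _root_.True := by simp only [_root_.Cfsg.Agent.H434.K2.oddRep.congr_simp]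
  exact _root_.True.intro
end

-- part: H434/LD/K2Main
section
prune_inst 0x301007200400100000008082010000006c0004b00003000041000a04020020400d0006402490010000088001400c0000000000a0020000000a000000000400000000020080480000020090000000000000000000000000000000000000000004200000000
set_option linter.all false
open scoped Cfsg.Agent.FastGrp

/-!
# `SL₂(25)` is not maximal in `Sp₁₂(p)`, `p ≡ ±1 mod 5` (helper434)
-/

set_option autoImplicit false
set_option linter.unusedSectionVars false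
open Matrix Module Cfsg.Agent.H162.Weil
open scoped commutatorElement

namespace Cfsg.Agent.H434.K2

open Cfsg Cfsg.Geo Cfsg.Agent.H915.LD Cfsg.Agent.H434.MRep Cfsg.Agent.H434.WK Cfsg.Agent.H434.PSp45

universe u v

section gen

variable {ι : Type} [Fintype ι] [DecidableEq ι] {F : Type u} [Field F]

theorem scalar_comm {z : GL ι F} (hz : z ∈ scalars ι F) (x : GL ι F) : z * x = x * z := by
  rw [mem_scalars_iff] at hz
  obtain ⟨c, hc⟩ := hz
  apply Units.ext
  rw [Units.val_mul, Units.val_mul, hc, mul_smul_comm, smul_mul_assoc, mul_one, one_mul]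

/-- homomorphisms of a perfect group that agree modulo scalars -/
theorem hom_eq_of_scalar {G : Type*} [Group G] (hG : commutator G = ⊤) (f₁ f₂ : G →* GL ι F)
    (h : ∀ g, f₁ g * (f₂ g)⁻¹ ∈ scalars ι F) : f₁ = f₂ := by
  have h1 : commutator G ≤ f₁.eqLocus f₂ := by
    rw [commutator_def, Subgroup.commutator_le]
    intro a _ b _
    change f₁ ⁅a, b⁆ = f₂ ⁅a, b⁆
    obtain ⟨z, hz⟩ : ∃ z, z = f₁ a * (f₂ a)⁻¹ := ⟨_, rfl⟩
    obtain ⟨w, hw⟩ : ∃ w, w = f₁ b * (f₂ b)⁻¹ := ⟨_, rfl⟩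
    have hz' : ∀ x, z * x = x * z := fun x => scalar_comm (hz ▸ h a) x
    have hw' : ∀ x, w * x = x * w := fun x => scalar_comm (hw ▸ h b) x
    have e1 : f₁ a = z * f₂ a := by rw [hz, inv_mul_cancel_right]
    have e2 : f₁ b = w * f₂ b := by rw [hw, inv_mul_cancel_right]
    rw [map_commutatorElement, map_commutatorElement, e1, e2, commutatorElement_def, commutatorElement_def]
    calc z * f₂ a * (w * f₂ b) * (z * f₂ a)⁻¹ * (w * f₂ b)⁻¹
        = z * (f₂ a * w) * f₂ b * ((f₂ a)⁻¹ * z⁻¹) * ((f₂ b)⁻¹ * w⁻¹) := by group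
      _ = z * (w * f₂ a) * f₂ b * ((f₂ a)⁻¹ * z⁻¹) * ((f₂ b)⁻¹ * w⁻¹) := by rw [hw' (f₂ a)]
      _ = (z * w) * (f₂ a * f₂ b * (f₂ a)⁻¹) * z⁻¹ * (f₂ b)⁻¹ * w⁻¹ := by group
      _ = (f₂ a * f₂ b * (f₂ a)⁻¹) * (z * w) * z⁻¹ * (f₂ b)⁻¹ * w⁻¹ := by
          rw [mul_assoc z w, hw', hz' , mul_assoc _ w z, hw' z]
      _ = (f₂ a * f₂ b * (f₂ a)⁻¹) * (z * w * z⁻¹) * (f₂ b)⁻¹ * w⁻¹ := by group
      _ = (f₂ a * f₂ b * (f₂ a)⁻¹) * (w * (f₂ b)⁻¹) * w⁻¹ := by rw [hz' w, mul_inv_cancel_right]; group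
      _ = _ := by rw [hw' ((f₂ b)⁻¹)]; group
  rw [hG] at h1
  ext1 g
  exact h1 (Subgroup.mem_top g)

/-- a matrix commuting with a spanning set is scalar -/
theorem scalar_of_comm {G : Type*} [Group G] {m : G →* Matrix ι ι F} (hm : Submodule.span F (Set.range m) = ⊤)
    {C : Matrix ι ι F} (hC : ∀ g, C * m g = m g * C) : ∃ c : F, C = c • 1 := by
  have hall : ∀ N : Matrix ι ι F, C * N = N * C := by
    intro N
    have hN : N ∈ Submodule.span F (Set.range m) := by rw [hm]; trivial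
    induction hN using Submodule.span_induction with
    | mem x hx => obtain ⟨g, rfl⟩ := hx; exact hC g
    | zero => rw [Matrix.mul_zero, Matrix.zero_mul]
    | add x y _ _ hx hy => rw [Matrix.mul_add, Matrix.add_mul, hx, hy]
    | smul c x _ hx => rw [Matrix.mul_smul, Matrix.smul_mul, hx]
  obtain ⟨c, hc⟩ := Matrix.mem_range_scalar_of_commute_single (M := C) (fun i j _ => (hall _).symm)
  exact ⟨c, by rw [← hc, Matrix.scalar_apply, Matrix.smul_one_eq_diagonal]⟩

end gen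

section ext

variable {F : Type u} [Field F] [Fintype F] (p : ℕ) [hp : Fact p.Prime] [CharP F p]

include p in
/-- **The extension is symplectic.** -/
theorem sp_of_ext (h5 : p ≠ 5) {G : Type*} [Group G] (ρ : G →* GL (Fin 6 ⊕ Fin 6) F) (j : G →* Sp 2 (ZMod 5))
    (R : Sp 2 (ZMod 5) →* GL (Fin 6 ⊕ Fin 6) F) (hR : ∀ g, R (j g) = ρ g) (hspan : Submodule.span F (Set.range (cm ρ)) = ⊤)
    (hsp : ∀ g, ρ g ∈ spGL 6 F) (x : Sp 2 (ZMod 5)) : R x ∈ spGL 6 F := by
  have hn : Fintype.card (Fin 6 ⊕ Fin 6) = 12 := by simp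
  have hm : Submodule.span F (Set.range (cm R)) = ⊤ := by
    rw [eq_top_iff, ← hspan]
    apply Submodule.span_mono
    rintro _ ⟨g, rfl⟩
    exact ⟨j g, by rw [cm_apply, cm_apply, hR]⟩
  have htr : ∀ x, (cm R x).trace = (dual (cm R) x).trace := by
    intro x
    have hfc := fact_card (F := F) p h5
    exact ac_trace_inj (trace_eq p h5 hn hm (dual_span hm) (algebraMap F (AlgebraicClosure F))
      (algebraMap F (AlgebraicClosure F)) (by rw [dual_trace, ← mRep_trace, ← mRep_trace, tr_inv _ rfl]) x)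
  obtain ⟨J₁, hJ₁⟩ := H920.exists_conj_of_trace R (dual (cm R)).toHomUnits
    (by
      rw [eq_top_iff]
      intro x _
      have hx : x ∈ Submodule.span F (Set.range (cm R)) := by rw [hm]; trivial
      exact Algebra.span_le_adjoin F _ hx)
    (fun g => htr g)
  have e1 : ∀ x, (cm R x⁻¹)ᵀ * (J₁ : Matrix _ _ F) = (J₁ : Matrix _ _ F) * cm R x := by
    intro x
    have h1 : (dual (cm R)).toHomUnits x * J₁ = J₁ * R x := by rw [hJ₁, inv_mul_cancel_right]
    exact congrArg (fun y : GL (Fin 6 ⊕ Fin 6) F => (y : Matrix (Fin 6 ⊕ Fin 6) (Fin 6 ⊕ Fin 6) F)) h1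
  set J := Matrix.J (Fin 6) F with hJ
  have hJJ : J * J = -1 := Matrix.J_squared (Fin 6) F
  have e2 : ∀ g, (cm ρ g⁻¹)ᵀ * J = J * cm ρ g := by
    intro g
    have h1 := H909.mem_spGL_iff_transpose.1 (hsp g)
    have h2 : (cm ρ g⁻¹)ᵀ * ((cm ρ g)ᵀ * J * cm ρ g) = J * cm ρ g := by
      rw [← Matrix.mul_assoc, ← Matrix.mul_assoc, ← Matrix.transpose_mul, ← map_mul, mul_inv_cancel, map_one,
        Matrix.transpose_one, Matrix.one_mul]
    rw [← h2]
    congr 1
    exact h1.symm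
  have e3 : ∀ g, (J * (J₁ : Matrix _ _ F)) * cm ρ g = cm ρ g * (J * (J₁ : Matrix _ _ F)) := by
    intro g
    have h1 : cm R (j g) = cm ρ g := by rw [cm_apply, cm_apply, hR]
    have h2 : cm R (j g)⁻¹ = cm ρ g⁻¹ := by rw [← map_inv, cm_apply, cm_apply, hR]
    have h3 := e1 (j g)
    rw [h1, h2] at h3
    have h4 : J * (cm ρ g⁻¹)ᵀ = cm ρ g * J := by
      have h5 := congrArg (fun Y => J * Y * J) (e2 g)
      simp only [← Matrix.mul_assoc] at h5
      rw [Matrix.mul_assoc _ J J, hJJ, Matrix.mul_neg, Matrix.mul_one] at h5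
      simp only [Matrix.neg_mul, Matrix.one_mul] at h5
      exact neg_injective h5
    rw [Matrix.mul_assoc, ← h3, ← Matrix.mul_assoc, h4, Matrix.mul_assoc]
  obtain ⟨c, hc⟩ := scalar_of_comm hspan e3
  have hJ1 : (J₁ : Matrix _ _ F) = (-c) • J := by
    have h1 := congrArg (fun Y => J * Y) hc
    simp only [← Matrix.mul_assoc] at h1
    rw [hJJ, Matrix.neg_mul, Matrix.one_mul, Matrix.mul_smul, Matrix.mul_one] at h1
    rw [neg_smul, ← h1, neg_neg]
  have hc0 : -c ≠ 0 := by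
    intro h
    rw [h, zero_smul] at hJ1
    exact (Units.ne_zero J₁) hJ1
  have e4 : ∀ x, (cm R x⁻¹)ᵀ * J = J * cm R x := by
    intro x
    have h1 := e1 x
    rw [hJ1, Matrix.mul_smul, Matrix.smul_mul] at h1
    exact smul_right_injective _ hc0 h1
  rw [H909.mem_spGL_iff_transpose]
  change (cm R x)ᵀ * J * cm R x = J
  rw [Matrix.mul_assoc, ← e4, ← Matrix.mul_assoc, ← Matrix.transpose_mul, ← map_mul, inv_mul_cancel, map_one,
    Matrix.transpose_one, Matrix.one_mul]

end ext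

section nrm

variable {ι : Type} [Fintype ι] [DecidableEq ι] {F : Type u} [Field F] {P : Subgroup (GL ι F)}
  {K : Type v} [Field K] [Fintype K]

open ClassicalGeometry.AutPSL.Auto in
/-- An element normalising `P` acts on it as a product of a diagonal and a field automorphism. -/
theorem exists_aut (r : ℕ) [Fact r.Prime] [CharP K r] (h4 : 4 ≤ Fintype.card K) {ρ : _root_.Matrix.SpecialLinearGroup (Fin 2) K →* GL ι F}
    (hρ : ρ.range = P)
    (e' : Soc P ≃* ProjectiveSpecialLinearGroup (Fin 2) K) (he' : ∀ (g : _root_.Matrix.SpecialLinearGroup (Fin 2) K) (h : ρ g ∈ P),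
        e' (toSoc P ⟨ρ g, h⟩) = QuotientGroup.mk g) {h : GL ι F} (hh : ∀ x ∈ P, h * x * h⁻¹ ∈ P)
    (hh' : ∀ x ∈ P, h⁻¹ * x * h ∈ P) :
    ∃ (A : GL (Fin 2) K) (σ : K ≃+* K), ∀ g, h * ρ g * h⁻¹ = ρ (cj A (fld σ g)) := by
  have hmem : ∀ g, ρ g ∈ P := fun g => hρ ▸ ⟨g, rfl⟩
  let f₁ : _root_.Matrix.SpecialLinearGroup (Fin 2) K →* GL ι F := (MulAut.conj h).toMonoidHom.comp ρ
  have hf₁ : ∀ g, f₁ g = h * ρ g * h⁻¹ := fun g => rfl
  have hf₁P : ∀ g, f₁ g ∈ P := fun g => hh _ (hmem g)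
  let q : _root_.Matrix.SpecialLinearGroup (Fin 2) K →* ProjectiveSpecialLinearGroup (Fin 2) K :=
    e'.toMonoidHom.comp ((toSoc P).comp (f₁.codRestrict P hf₁P))
  have hq : ∀ g, q g = e' (toSoc P ⟨f₁ g, hf₁P g⟩) := fun g => rfl
  have hqs : Function.Surjective q := by
    refine e'.surjective.comp ((toSoc_surjective P).comp ?_)
    rintro ⟨x, hx⟩
    have h1 := hh' x hx
    rw [← hρ] at h1
    obtain ⟨g, hg⟩ := h1
    refine ⟨g, Subtype.ext ?_⟩
    change h * ρ g * h⁻¹ = x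
    rw [hg]
    group
  have hker : ∀ x : P, toSoc P x = 1 ↔ (x : GL ι F) ∈ scalars ι F := by
    intro x
    rw [← MonoidHom.mem_ker, ker_toSoc]
    exact Iff.rfl
  have hcen : Subgroup.center (_root_.Matrix.SpecialLinearGroup (Fin 2) K) ≤ q.ker := by
    intro g hg
    have h1 : e' (toSoc P ⟨ρ g, hmem g⟩) = 1 := by
      rw [he']
      exact (QuotientGroup.eq_one_iff g).2 hg
    rw [map_eq_one_iff e' e'.injective, hker] at h1
    rw [MonoidHom.mem_ker, hq, map_eq_one_iff e' e'.injective, hker]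
    have h2 : f₁ g = ρ g := by
      rw [hf₁, ← scalar_comm h1 h, mul_inv_cancel_right]
    change f₁ g ∈ _
    rw [h2]
    exact h1
  let qb : ProjectiveSpecialLinearGroup (Fin 2) K →* ProjectiveSpecialLinearGroup (Fin 2) K :=
    QuotientGroup.lift _ q hcen
  have hqbs : Function.Surjective qb := by
    intro x
    obtain ⟨g, rfl⟩ := hqs x
    exact ⟨QuotientGroup.mk g, rfl⟩
  have : Finite (ProjectiveSpecialLinearGroup (Fin 2) K) := Quotient.finite _
  let α : MulAut (ProjectiveSpecialLinearGroup (Fin 2) K) :=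
    MulEquiv.ofBijective qb ⟨Finite.injective_iff_surjective.2 hqbs, hqbs⟩
  obtain ⟨A, σ, hα⟩ := ClassicalGeometry.AutPSL.Main.surj_two r α
  refine ⟨A, σ, ?_⟩
  have key := hom_eq_of_scalar (H464.Sl2.commutator_sl2 h4) f₁ (ρ.comp (cj A * fld σ : MulAut (_root_.Matrix.SpecialLinearGroup (Fin 2) K)).toMonoidHom) (by
    intro g
    have h1 : q g = e' (toSoc P ⟨ρ ((cj A * fld σ : MulAut (_root_.Matrix.SpecialLinearGroup (Fin 2) K)) g), hmem _⟩) := by
      rw [he']
      have h2 : α (QuotientGroup.mk g) = lift (cj A * fld σ) (QuotientGroup.mk g) := by rw [hα]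
      exact h2
    rw [hq] at h1
    have h3 := e'.injective h1
    have h4 : toSoc P (⟨f₁ g, hf₁P g⟩ * ⟨ρ ((cj A * fld σ : MulAut (_root_.Matrix.SpecialLinearGroup (Fin 2) K)) g), hmem _⟩⁻¹) = 1 := by
      rw [map_mul, map_inv, h3, mul_inv_cancel]
    rw [hker] at h4
    exact h4)
  intro g
  exact DFunLike.congr_fun key g

end nrm

section diag

variable {K : Type v} [Field K]

open ClassicalGeometry.AutPSL.Auto

theorem cj_u (A : GL (Fin 2) K) (y : K) : ∃ s : _root_.Matrix.SpecialLinearGroup (Fin 2) K,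
    cj A (H464.Sl2.u y) = s * H464.Sl2.u ((A : Matrix (Fin 2) (Fin 2) K).det * y) * s⁻¹ := by
  set δ := (A : Matrix (Fin 2) (Fin 2) K).det with hδ
  have hδ0 : δ ≠ 0 := by
    rw [hδ]
    exact (Matrix.isUnits_det_units A).ne_zero
  let D : Matrix (Fin 2) (Fin 2) K := !![δ⁻¹, 0; 0, 1]
  let D' : Matrix (Fin 2) (Fin 2) K := !![δ, 0; 0, 1]
  have hDD : D * D' = 1 := by
    ext i j
    (revert i j; simp only [D, D', Matrix.mul_apply, Fin.sum_univ_two, hδ0, _root_.Fin.forall_fin_succ, _root_.Matrix.of_apply, _root_.Matrix.cons_val', _root_.Matrix.cons_val_fin_one, Fin.isValue, _root_.Matrix.cons_val_zero, _root_.Matrix.cons_val_one, _root_.MulZeroClass.mul_zero, _root_.add_zero, _root_.Matrix.cons_val_succ, _root_.mul_one, _root_.zero_add, _root_.IsEmpty.forall_iff, _root_.and_true, _root_.ne_eq, _root_.not_false_eq_true, _root_.inv_mul_cancel₀, _root_.Matrix.one_apply_eq, Nat.reduceAdd, _root_.Fin.succ_zero_eq_one, _root_.zero_ne_one, _root_.Matrix.one_apply_ne,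 _root_.and_self, _root_.MulZeroClass.zero_mul, _root_.Fin.succ_ne_zero, _root_.true_and])
  have hs : ((A : Matrix (Fin 2) (Fin 2) K) * D).det = 1 := by
    rw [Matrix.det_mul, Matrix.det_fin_two_of, mul_one, mul_zero, sub_zero, mul_inv_cancel₀ hδ0]
  let s : _root_.Matrix.SpecialLinearGroup (Fin 2) K := ⟨(A : Matrix (Fin 2) (Fin 2) K) * D, hs⟩
  refine ⟨s, ?_⟩
  rw [eq_mul_inv_iff_mul_eq]
  apply Subtype.ext
  change ((A : Matrix (Fin 2) (Fin 2) K) * (H464.Sl2.u y).1 * ((A⁻¹ : GL (Fin 2) K) : Matrix (Fin 2) (Fin 2) K)) *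
    ((A : Matrix (Fin 2) (Fin 2) K) * D) = (A : Matrix (Fin 2) (Fin 2) K) * D * (H464.Sl2.u (δ * y)).1
  have h1 : (H464.Sl2.u y).1 * D = D * (H464.Sl2.u (δ * y)).1 := by
    change !![1, y; 0, 1] * D = D * !![1, δ * y; 0, 1]
    ext i j
    (revert i j; simp only [D, Matrix.mul_apply, Fin.sum_univ_two, hδ0, _root_.Fin.forall_fin_succ, _root_.Matrix.of_apply, _root_.Matrix.cons_val', _root_.Matrix.cons_val_fin_one, Fin.isValue, _root_.Matrix.cons_val_zero, _root_.Matrix.cons_val_one, _root_.MulZeroClass.mul_zero, _root_.add_zero, _root_.mul_one, _root_.Matrix.cons_val_succ, _root_.zero_add, _root_.forall_const, _root_.one_mul, _root_.ne_eq, _root_.not_false_eq_true, _root_.inv_mul_cancel_left₀, _root_.and_self, _root_.MulZeroClass.zero_mul, _root_.implies_true])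
  calc _ = (A : Matrix (Fin 2) (Fin 2) K) * (H464.Sl2.u y).1 *
        (((A⁻¹ : GL (Fin 2) K) : Matrix (Fin 2) (Fin 2) K) * (A : Matrix (Fin 2) (Fin 2) K)) * D := by
          simp only [Matrix.mul_assoc]
    _ = (A : Matrix (Fin 2) (Fin 2) K) * ((H464.Sl2.u y).1 * D) := by
          rw [← Units.val_mul, inv_mul_cancel, Units.val_one, Matrix.mul_one, Matrix.mul_assoc]
    _ = _ := by rw [h1, ← Matrix.mul_assoc]

theorem cj_of_sq (A : GL (Fin 2) K) (h : IsSquare (A : Matrix (Fin 2) (Fin 2) K).det) :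
    ∃ s : _root_.Matrix.SpecialLinearGroup (Fin 2) K, ∀ g, cj A g = s * g * s⁻¹ := by
  obtain ⟨μ, hμ⟩ := h
  have hδ0 : (A : Matrix (Fin 2) (Fin 2) K).det ≠ 0 := (Matrix.isUnits_det_units A).ne_zero
  have hμ0 : μ ≠ 0 := by
    rintro rfl
    rw [mul_zero] at hμ
    exact hδ0 hμ
  have hs : (μ⁻¹ • (A : Matrix (Fin 2) (Fin 2) K)).det = 1 := by
    rw [Matrix.det_smul, Fintype.card_fin, hμ]
    field_simp
  let s : _root_.Matrix.SpecialLinearGroup (Fin 2) K := ⟨μ⁻¹ • (A : Matrix (Fin 2) (Fin 2) K), hs⟩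
  refine ⟨s, fun g => ?_⟩
  rw [eq_mul_inv_iff_mul_eq]
  apply Subtype.ext
  change ((A : Matrix (Fin 2) (Fin 2) K) * g.1 * ((A⁻¹ : GL (Fin 2) K) : Matrix (Fin 2) (Fin 2) K)) *
    (μ⁻¹ • (A : Matrix (Fin 2) (Fin 2) K)) = (μ⁻¹ • (A : Matrix (Fin 2) (Fin 2) K)) * g.1
  rw [Matrix.mul_smul, Matrix.smul_mul, Matrix.mul_assoc, ← Units.val_mul, inv_mul_cancel, Units.val_one, Matrix.mul_one]

theorem fld_u (σ : K ≃+* K) (y : K) : fld σ (H464.Sl2.u y) = H464.Sl2.u (σ y) := by
  apply Subtype.ext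
  ext i j
  rw [coe_fld_apply]
  change σ (!![1, y; 0, 1] i j) = !![1, σ y; 0, 1] i j
  (revert i j; simp only [_root_.Fin.forall_fin_succ, _root_.Matrix.of_apply, _root_.Matrix.cons_val', _root_.Matrix.cons_val_fin_one, Fin.isValue, _root_.Matrix.cons_val_zero, _root_.Matrix.cons_val_succ, _root_.forall_const, _root_.map_one, _root_.and_self, _root_.map_zero, _root_.implies_true])

end diag

section nrm2

variable {ι : Type} [Fintype ι] [DecidableEq ι] {F : Type u} [Field F] {K : Type v} [Field K] [Fintype K]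

open ClassicalGeometry.AutPSL.Auto in
theorem exists_sl {ρ : _root_.Matrix.SpecialLinearGroup (Fin 2) K →* GL ι F}
    (hdiag : ∀ x y : K, ¬ IsSquare (x * y) → tr (ρ (H464.Sl2.u x)) ≠ tr (ρ (H464.Sl2.u y))) {h : GL ι F}
    {A : GL (Fin 2) K} {σ : K ≃+* K} (hA : ∀ g, h * ρ g * h⁻¹ = ρ (cj A (fld σ g))) :
    ∃ s : _root_.Matrix.SpecialLinearGroup (Fin 2) K, ∀ g, h * ρ g * h⁻¹ = ρ (s * fld σ g * s⁻¹) := by
  have hsq : IsSquare (A : Matrix (Fin 2) (Fin 2) K).det := by
    by_contra hns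
    obtain ⟨s, hs⟩ := cj_u A 1
    have h1 := hA (H464.Sl2.u 1)
    rw [fld_u, map_one, hs, mul_one, map_mul, map_mul, map_inv] at h1
    have h2 := congrArg tr h1
    rw [tr_conj, tr_conj] at h2
    exact hdiag 1 _ (by rwa [one_mul]) h2
  obtain ⟨s, hs⟩ := cj_of_sq A hsq
  exact ⟨s, fun g => by rw [hA, hs]⟩

end nrm2

section fin

variable {F : Type u} [Field F] [Fintype F] {K : Type v} [Field K] [Fintype K]

theorem Su_mul [Algebra (ZMod 5) K] (b : Basis (Fin 2) (ZMod 5) K) (σ τ : K ≃ₐ[ZMod 5] K) :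
    Su b (σ * τ) = Su b σ * Su b τ := by
  apply Units.ext
  rw [Units.val_mul, Su_coe, Su_coe, Su_coe, Sg_mul]

theorem Su_one [Algebra (ZMod 5) K] (b : Basis (Fin 2) (ZMod 5) K) : Su b (1 : K ≃ₐ[ZMod 5] K) = 1 := by
  apply Units.ext
  rw [Su_coe, Sg_one, Units.val_one]

open ClassicalGeometry.AutPSL.Auto in
/-- **Elements of `H` lie in the image of `Sp₄(5)`.** -/
theorem elt_form [Algebra (ZMod 5) K] (b : Basis (Fin 2) (ZMod 5) K)
    (ρ : _root_.Matrix.SpecialLinearGroup (Fin 2) K →* GL (Fin 6 ⊕ Fin 6) F) (R : Sp 2 (ZMod 5) →* GL (Fin 6 ⊕ Fin 6) F)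
    (hR : ∀ g, R (jj b g) = ρ g) (hspan : Submodule.span F (Set.range (cm ρ)) = ⊤) (hRsp : ∀ x, R x ∈ spGL 6 F)
    (hneg : ρ (H464.Sl2.t (-1)) = -1) {h : GL (Fin 6 ⊕ Fin 6) F} (hh : h ∈ spGL 6 F) {s : _root_.Matrix.SpecialLinearGroup (Fin 2) K}
    {σ : K ≃+* K} (hs : ∀ g, h * ρ g * h⁻¹ = ρ (s * fld σ g * s⁻¹)) :
    ∃ (s : _root_.Matrix.SpecialLinearGroup (Fin 2) K) (τ : K ≃ₐ[ZMod 5] K), h = ρ s * R (mm (Su b τ)) := by
  let τ : K ≃ₐ[ZMod 5] K := AlgEquiv.ofRingEquiv (f := σ) (fun r => by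
    have h1 : ((σ : K →+* K).comp (algebraMap (ZMod 5) K)) = algebraMap (ZMod 5) K := Subsingleton.elim _ _
    exact RingHom.congr_fun h1 r)
  have hτ : ∀ g : _root_.Matrix.SpecialLinearGroup (Fin 2) K, SpecialLinearGroup.map (τ : K →+* K) g = fld σ g := by
    intro g
    apply Subtype.ext
    ext i j
    rfl
  set y := R (mm (Su b τ)) with hy
  have h1 : ∀ g, y * ρ g = ρ (fld σ g) * y := by
    intro g
    rw [hy, ← hR, ← map_mul, jj_map, map_mul, hτ, hR]
  set x := ρ s * y with hx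
  have hxsp : x ∈ spGL 6 F := by
    rw [hx, ← hR]
    exact mul_mem (hRsp _) (hRsp _)
  have h2 : ∀ g, (x⁻¹ * h) * ρ g = ρ g * (x⁻¹ * h) := by
    intro g
    have h3 : h * ρ g = ρ s * ρ (fld σ g) * (ρ s)⁻¹ * h := by
      have := hs g
      rw [mul_inv_eq_iff_eq_mul] at this
      rw [this, map_mul, map_mul, map_inv]
    have h4 : x * ρ g = ρ s * ρ (fld σ g) * (ρ s)⁻¹ * x := by
      rw [hx, mul_assoc, h1]
      group
    have h5 : ρ g = x⁻¹ * (ρ s * ρ (fld σ g) * (ρ s)⁻¹) * x := by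
      rw [mul_assoc x⁻¹, ← h4, inv_mul_cancel_left]
    calc (x⁻¹ * h) * ρ g = x⁻¹ * (h * ρ g) := mul_assoc _ _ _
      _ = x⁻¹ * (ρ s * ρ (fld σ g) * (ρ s)⁻¹ * h) := by rw [h3]
      _ = (x⁻¹ * (ρ s * ρ (fld σ g) * (ρ s)⁻¹) * x) * (x⁻¹ * h) := by group
      _ = _ := by rw [← h5]
  obtain ⟨c, hc⟩ := scalar_of_comm (C := ((x⁻¹ * h : GL (Fin 6 ⊕ Fin 6) F) : Matrix _ _ F)) hspan (fun g =>
    congrArg (fun y : GL (Fin 6 ⊕ Fin 6) F => (y : Matrix (Fin 6 ⊕ Fin 6) (Fin 6 ⊕ Fin 6) F)) (h2 g))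
  have h3 : x⁻¹ * h ∈ spGL 6 F := mul_mem (inv_mem hxsp) hh
  rw [H909.mem_spGL_iff_transpose, hc] at h3
  have h4 : c * c = 1 := by
    have h5 := congrFun (congrFun h3 (Sum.inr 0)) (Sum.inl 0)
    rw [Matrix.transpose_smul, Matrix.transpose_one, Matrix.smul_mul, Matrix.one_mul, Matrix.mul_smul, Matrix.mul_one,
      smul_smul, Matrix.smul_apply] at h5
    simp only [Matrix.J, _root_.Fin.isValue, _root_.Matrix.fromBlocks_apply₂₁, _root_.Matrix.one_apply_eq, _root_.smul_eq_mul, _root_.mul_one] at h5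
    exact h5
  rcases mul_self_eq_one_iff.1 h4 with h5 | h5
  · refine ⟨s, τ, ?_⟩
    have h6 : x⁻¹ * h = 1 := by
      apply Units.ext
      rw [hc, h5, one_smul]
      rfl
    rw [inv_mul_eq_one] at h6
    exact h6.symm
  · refine ⟨s * H464.Sl2.t (-1), τ, ?_⟩
    have h6 : x⁻¹ * h = -1 := by
      apply Units.ext
      rw [hc, h5, neg_one_smul]
      rfl
    rw [inv_mul_eq_iff_eq_mul] at h6
    rw [h6, map_mul, hneg, ← hy, hx]
    simp

theorem gal_sq [Algebra (ZMod 5) K] (b : Basis (Fin 2) (ZMod 5) K) (τ : K ≃ₐ[ZMod 5] K) : τ * τ = 1 := by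
  have h1 : Nat.card (K ≃ₐ[ZMod 5] K) = 2 := by
    rw [IsGalois.card_aut_eq_finrank, Module.finrank_eq_card_basis b, Fintype.card_fin]
  have h2 := pow_card_eq_one' (x := τ)
  rwa [h1, sq] at h2

/-- squares of elements of `H` lie in `P` -/
theorem sq_mem [Algebra (ZMod 5) K] (b : Basis (Fin 2) (ZMod 5) K)
    (ρ : _root_.Matrix.SpecialLinearGroup (Fin 2) K →* GL (Fin 6 ⊕ Fin 6) F) (R : Sp 2 (ZMod 5) →* GL (Fin 6 ⊕ Fin 6) F)
    (hR : ∀ g, R (jj b g) = ρ g) {h : GL (Fin 6 ⊕ Fin 6) F} (s : _root_.Matrix.SpecialLinearGroup (Fin 2) K) (τ : K ≃ₐ[ZMod 5] K)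
    (hh : h = ρ s * R (mm (Su b τ))) : h * h ∈ ρ.range := by
  set y := R (mm (Su b τ)) with hy
  have h1 : ∀ g, y * ρ g = ρ (SpecialLinearGroup.map (τ : K →+* K) g) * y := by
    intro g
    rw [hy, ← hR, ← map_mul, jj_map, map_mul, hR]
  have h2 : y * y = 1 := by
    rw [hy, ← map_mul, ← map_mul, ← Su_mul, gal_sq b, Su_one, map_one, map_one]
  refine ⟨s * SpecialLinearGroup.map (τ : K →+* K) s, ?_⟩
  rw [hh, mul_assoc, ← mul_assoc y, h1, mul_assoc, h2, mul_one, map_mul]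

/-- `F_5³ → Sym` -/
def sy : Multiplicative (ZMod 5 × ZMod 5 × ZMod 5) →* Sp 2 (ZMod 5) where
  toFun v := uu ⟨!![(Multiplicative.toAdd v).1, (Multiplicative.toAdd v).2.1; (Multiplicative.toAdd v).2.1,
    (Multiplicative.toAdd v).2.2], by
      rw [mem_Sym]
      ext i j
      fin_cases i <;> fin_cases j <;> rfl⟩
  map_one' := by
    rw [← uu_zero]
    congr 1
    apply Subtype.ext
    ext i j
    fin_cases i <;> fin_cases j <;> rfl
  map_mul' v w := by
    rw [← uu_add]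
    congr 1
    apply Subtype.ext
    ext i j
    fin_cases i <;> fin_cases j <;> rfl

theorem sy_eq (v : Multiplicative (ZMod 5 × ZMod 5 × ZMod 5)) : ∃ S, sy v = uu S ∧ (S = 0 → v = 1) := by
  refine ⟨_, rfl, fun h => ?_⟩
  have h1 := congrArg Subtype.val h
  have e1 := congrFun (congrFun h1 0) 0
  have e2 := congrFun (congrFun h1 0) 1
  have e3 := congrFun (congrFun h1 1) 1
  exact Prod.ext e1 (Prod.ext e2 e3)

/-- `125` divides the order of a group containing the image of the unipotent radical -/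
theorem dvd_card (R : Sp 2 (ZMod 5) →* GL (Fin 6 ⊕ Fin 6) F) (hRu : ∀ S, R (uu S) = 1 → S = 0)
    (P : Subgroup (GL (Fin 6 ⊕ Fin 6) F)) (hP : ∀ S, R (uu S) ∈ P) : 125 ∣ Nat.card P := by
  have h1 : ∀ v, (R.comp sy) v ∈ P := by
    intro v
    obtain ⟨S, hS, -⟩ := sy_eq v
    rw [MonoidHom.comp_apply, hS]
    exact hP S
  have h2 : Function.Injective ((R.comp sy).codRestrict P h1) := by
    rw [injective_iff_map_eq_one]
    intro v hv
    have h3 : R (sy v) = 1 := congrArg Subtype.val hv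
    obtain ⟨S, hS, hS0⟩ := sy_eq v
    rw [hS] at h3
    exact hS0 (hRu S h3)
  have h3 := Subgroup.card_dvd_of_injective _ h2
  have h4 : Nat.card (Multiplicative (ZMod 5 × ZMod 5 × ZMod 5)) = 125 := by
    rw [Nat.card_congr Multiplicative.toAdd, Nat.card_prod, Nat.card_prod, Nat.card_zmod]
  rwa [h4] at h3

theorem uu_five (S : Sym 2 (ZMod 5)) : (uu S) ^ 5 = 1 := by
  have h1 : ∀ m : ℕ, (uu S) ^ m = uu (m • S) := by
    intro m
    induction m with
    | zero => rw [pow_zero, zero_smul, uu_zero]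
    | succ m ih => rw [pow_succ, ih, succ_nsmul, uu_add]
  rw [h1, ← uu_zero]
  congr 1
  apply Subtype.ext
  ext i j
  rw [AddSubgroup.coe_nsmul, Matrix.smul_apply]
  rw [nsmul_eq_mul]
  have h5 : ((5 : ℕ) : ZMod 5) = 0 := rfl
  rw [h5, zero_mul]
  rfl

/-- a lower bound for the order of `Sp₁₂(q)` -/
theorem card_spGL_ge : Fintype.card F ^ 12 ≤ Nat.card (spGL 6 F) := by
  classical
  have hmem : ∀ d d' : Fin 6 → F, fromBlocks (1 + Matrix.diagonal d * Matrix.diagonal d') (Matrix.diagonal d)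
      (Matrix.diagonal d') 1 ∈ Matrix.symplecticGroup (Fin 6) F := by
    intro d d'
    rw [SymplecticGroup.fromBlocks_mem_iff]
    refine ⟨?_, ?_, ?_⟩
    · rw [Matrix.diagonal_mul_diagonal, Matrix.transpose_add, Matrix.transpose_one, Matrix.diagonal_transpose,
        Matrix.diagonal_transpose, Matrix.add_mul, Matrix.mul_add, Matrix.one_mul, Matrix.mul_one,
        Matrix.diagonal_mul_diagonal, Matrix.diagonal_mul_diagonal]
      congr 2
      ext i
      ring
    · rw [Matrix.mul_one, Matrix.transpose_one, Matrix.one_mul, Matrix.diagonal_transpose]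
    · rw [Matrix.mul_one, Matrix.diagonal_mul_diagonal, Matrix.transpose_add, Matrix.transpose_one,
        Matrix.diagonal_transpose, Matrix.diagonal_transpose, Matrix.diagonal_mul_diagonal]
      have h1 : (fun i => d i * d' i) = fun i => d' i * d i := by
        ext i
        ring
      rw [h1, add_sub_cancel_right]
  let f : (Fin 6 → F) × (Fin 6 → F) → spGL 6 F := fun v =>
    ⟨⟨(⟨_, hmem v.1 v.2⟩ : Matrix.symplecticGroup (Fin 6) F).1,
      ((⟨_, hmem v.1 v.2⟩ : Matrix.symplecticGroup (Fin 6) F)⁻¹).1,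
      congrArg Subtype.val (mul_inv_cancel (⟨_, hmem v.1 v.2⟩ : Matrix.symplecticGroup (Fin 6) F)),
      congrArg Subtype.val (inv_mul_cancel (⟨_, hmem v.1 v.2⟩ : Matrix.symplecticGroup (Fin 6) F))⟩,
      H909.mem_spGL_iff_symplectic.2 (hmem v.1 v.2)⟩
  have hf : Function.Injective f := by
    rintro ⟨d, d'⟩ ⟨c, c'⟩ h
    have h1 := congrArg (fun x : spGL 6 F => ((x : GL (Fin 6 ⊕ Fin 6) F) : Matrix (Fin 6 ⊕ Fin 6) (Fin 6 ⊕ Fin 6) F)) h
    change fromBlocks _ _ _ _ = fromBlocks _ _ _ _ at h1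
    rw [Matrix.fromBlocks_inj] at h1
    obtain ⟨-, h2, h3, -⟩ := h1
    exact Prod.ext (Matrix.diagonal_injective h2) (Matrix.diagonal_injective h3)
  have h1 := Nat.card_le_card_of_injective f hf
  rw [Nat.card_prod, Nat.card_eq_fintype_card, Fintype.card_fun, Fintype.card_fin, ← pow_add] at h1
  exact h1

/-- an upper bound for the order of `Sp₄(5)` -/
theorem card_sp_le : Nat.card (Sp 2 (ZMod 5)) ≤ 5 ^ 16 := by
  have h1 := Nat.card_le_card_of_injective
    (fun x : Sp 2 (ZMod 5) => (x.1 : Fin 2 ⊕ Fin 2 → Fin 2 ⊕ Fin 2 → ZMod 5)) Subtype.val_injective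
  refine h1.trans (le_of_eq ?_)
  change Nat.card (Fin 2 ⊕ Fin 2 → Fin 2 ⊕ Fin 2 → ZMod 5) = _
  rw [Nat.card_eq_fintype_card, Fintype.card_fun, Fintype.card_fun, ZMod.card, Fintype.card_sum, Fintype.card_fin,
    ← pow_mul]

theorem card_sl_25 (hK : Fintype.card K = 25) : Nat.card (_root_.Matrix.SpecialLinearGroup (Fin 2) K) = 15600 := by
  have h := S0242.result (F := K) rfl 2 (by norm_num)
  rw [Fin.prod_univ_two, hK] at h
  norm_num at h
  omega

theorem charP_five (hK : Fintype.card K = 25) : CharP K 5 := by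
  have hch : ringChar K = 5 := by
    obtain ⟨n, hn1, hn2⟩ := FiniteField.card K (ringChar K)
    rw [hK] at hn2
    have h10 : ringChar K ∣ 5 ^ 2 := by
      have h11 : ringChar K ∣ 25 := by
        rw [hn2]
        exact dvd_pow_self _ n.ne_zero
      exact h11
    exact (Nat.prime_dvd_prime_iff_eq hn1 (by norm_num)).1 (hn1.dvd_of_dvd_pow h10)
  rw [← hch]
  infer_instance

end fin

/-- **K2**: `2.PSL₂(25)` is not the core of a maximal subgroup of `Sp₁₂(F)` when `p = ±1 mod 5`. -/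
theorem not_maximal {F : Type u} [Field F] [Fintype F] (p : ℕ) [hp : Fact p.Prime] [CharP F p]
    {H P : Subgroup (GL (Fin 6 ⊕ Fin 6) F)} (hH : IsMaximalIn (spGL 6 F) H) (hc : IsResidualCore H P)
    {K : Type v} [Field K] [Fintype K] (hK : Fintype.card K = 25)
    (e : Soc P ≃* ProjectiveSpecialLinearGroup (Fin 2) K) (hp5 : p % 5 = 1 ∨ p % 5 = 4) : False := by
  classical
  have h5 : p ≠ 5 := by rintro rfl; omega
  have hp2 : p ≠ 2 := by rintro rfl; omega
  have hC := core_of_residual hc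
  have hn : Fintype.card (Fin 6 ⊕ Fin 6) = 12 := by simp
  obtain ⟨-, -, hF⟩ := H464.Sl2.l2_25_12 p hC hK h5 e hn
  have hcp := charP_five hK
  have : Fact (Nat.Prime 5) := ⟨by norm_num⟩
  let : Algebra (ZMod 5) K := ZMod.algebra K 5
  have hfr : finrank (ZMod 5) K = 2 := by
    have h1 := Module.card_eq_pow_finrank (K := ZMod 5) (V := K)
    rw [ZMod.card, hK] at h1
    have h2 : (5 : ℕ) ^ 2 = 5 ^ finrank (ZMod 5) K := by rw [← h1]; norm_num
    exact (Nat.pow_right_injective (le_refl 2 |>.trans (by norm_num)) h2).symm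
  let b : Basis (Fin 2) (ZMod 5) K := finBasisOfFinrankEq (ZMod 5) K hfr
  obtain ⟨ρ, R, hρ, ⟨e', he'⟩, hR, hRu⟩ := exists_ext p hC b hp5 hp2 hF hn e
  have hspan := cm_span hC hρ
  have hρP : ∀ g, ρ g ∈ P := fun g => hρ ▸ ⟨g, rfl⟩
  have hρsp : ∀ g, ρ g ∈ spGL 6 F := fun g => hH.1.le (hc.le (hρP g))
  have hRsp : ∀ x, R x ∈ spGL 6 F := sp_of_ext p h5 ρ (jj b) R hR hspan hρsp
  have hpK : ¬ p ∣ Fintype.card K := by
    rw [hK]
    intro h
    exact h5 ((Nat.prime_dvd_prime_iff_eq hp.out (by norm_num)).1 (hp.out.dvd_of_dvd_pow (n := 2) (by norm_num; exact h)))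
  obtain ⟨-, hf2, hf3, -⟩ := H464.Sl2.half_field p hC ρ hρ hpK (by omega) (by omega)
  have hneg : ρ (H464.Sl2.t (-1)) = -1 := by
    obtain ⟨c, -, hcc⟩ := H830.Sl2Form.scalar_t ρ (hρ ▸ hC.absIrred)
    have h3 := (hf2 (by omega)).1 c hcc
    have h4 : H464.Sl2.eta F (-1 : K) = 1 := by
      rw [H464.Sl2.eta, (quadraticChar_one_iff_isSquare (by simp)).2
        (FiniteField.isSquare_neg_one_iff.2 (by omega)), Int.cast_one]
    rw [h4] at h3
    apply Units.ext
    refine hcc.trans ?_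
    rw [h3, neg_one_smul]
    rfl
  -- every element of `H`
  have hform : ∀ h ∈ H, ∃ (s : _root_.Matrix.SpecialLinearGroup (Fin 2) K) (τ : K ≃ₐ[ZMod 5] K), h = ρ s * R (mm (Su b τ)) := by
    intro h hh
    obtain ⟨A, σ, hA⟩ := exists_aut 5 (by omega) hρ e' he' (h := h) (fun x hx => hc.normal h hh x hx) (fun x hx => by
      have h1 := hc.normal h⁻¹ (inv_mem hh) x hx
      rwa [inv_inv] at h1)
    obtain ⟨s, hs⟩ := exists_sl hf3 hA
    exact elt_form b ρ R hR hspan hRsp hneg (hH.1.le hh) hs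
  have hHX : H ≤ R.range := by
    intro h hh
    obtain ⟨s, τ, h1⟩ := hform h hh
    rw [h1, ← hR, ← map_mul]
    exact ⟨_, rfl⟩
  have hXsp : R.range ≤ spGL 6 F := by
    rintro _ ⟨x, rfl⟩
    exact hRsp x
  rcases hH.2 R.range hHX hXsp with hX | hX
  · -- `X = H`
    have h1 : ∀ S, R (uu S) ∈ P := by
      intro S
      have h2 : R (uu S) ∈ H := by
        rw [← hX]
        exact ⟨_, rfl⟩
      obtain ⟨s, τ, h3⟩ := hform _ h2
      have h4 := sq_mem b ρ R hR s τ h3
      rw [hρ] at h4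
      have h6 : R (uu S) = (R (uu S) * R (uu S)) ^ 3 := by
        rw [← sq, ← pow_mul, ← map_pow, pow_succ (uu S) 5, uu_five, one_mul]
      rw [h6]
      exact pow_mem h4 3
    have h2 := dvd_card R hRu P h1
    have h3 : Nat.card P ∣ Nat.card (_root_.Matrix.SpecialLinearGroup (Fin 2) K) := by
      rw [← hρ]
      exact Subgroup.card_range_dvd ρ
    rw [card_sl_25 hK] at h3
    have h4 := h2.trans h3
    norm_num at h4
  · -- `X = Sp`
    have h1 := card_spGL_ge (F := F)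
    rw [← hX] at h1
    have h2 : Nat.card R.range ≤ Nat.card (Sp 2 (ZMod 5)) := Nat.card_le_card_of_surjective R.rangeRestrict
      R.rangeRestrict_surjective
    have h3 := (h1.trans h2).trans card_sp_le
    rw [hF] at h3
    have h4 : 11 ≤ p := by
      by_contra hlt
      push Not at hlt
      have hpr := hp.out
      interval_cases p <;> first | omega | (norm_num at hpr)
    have h6 : 11 ^ 12 ≤ p ^ 12 := Nat.pow_le_pow_left h4 12
    have h7 : (5 : ℕ) ^ 16 < 11 ^ 12 := by norm_num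
    omega

end Cfsg.Agent.H434.K2
end

-- part: H434/LD/K2Main_mg
section

end

-- part: H922/S12/L2_mg
section
prune_inst 0xc1404200006000000000000010000000040004b000000000800000000000400000000000300001040200000100040020020000a00200000000000000000000000000000000000000800080000000000000000000000000000000000000000000200000000
set_option linter.all false
open scoped Cfsg.Agent.FastGrp

-- part: H922/S12/Alt
section
/-!
# S5869: alternating groups (helper922)

* `not_fixA_nat` : the natural module of `A_m`, `m ≥ 5`, `p` odd, fixes no alternating form;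
* `fixQ_nat_two` : the natural module of `A₁₃` in characteristic two fixes a quadratic form;
* `row_alt` : `m ≥ 8`; `row_a5`, `row_a6`.
-/

set_option autoImplicit false
set_option linter.unusedSectionVars false

namespace Cfsg.Agent.H922.S12

open Cfsg Cfsg.Geo Matrix Cfsg.Agent.H915.LD Cfsg.Agent.H964.AltMod

universe u

section nat

variable {ι : Type} [Fintype ι] [DecidableEq ι] {F : Type u} [Field F] {P : Subgroup (GL ι F)} {m : ℕ}
  {φ : P ≃* alternatingGroup (Fin m)} {w : Fin m → Fin m → ι → F}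

theorem w_act (hw : NatM (rep φ) w) (g : alternatingGroup (Fin m)) (i j : Fin m) :
    ((φ.symm g : GL ι F) : Matrix ι ι F) *ᵥ w i j = w ((g : Equiv.Perm (Fin m)) i) ((g : Equiv.Perm (Fin m)) j) := by
  rw [← rep_apply]
  exact hw.act g i j

theorem w_self (hw : NatM (rep φ) w) (i : Fin m) : w i i = 0 := by
  have := hw.tri i i i
  rwa [add_eq_left] at this

theorem w_sub (hw : NatM (rep φ) w) (a i j : Fin m) : w i j = w i a - w j a := by
  rw [← hw.tri i a j, hw.anti j a, sub_eq_add_neg]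

/-- **`p` odd: no alternating form.** -/
theorem not_fixA_nat (h2 : (2 : F) ≠ 0) (hm : 5 ≤ m) (hw : NatM (rep φ) w) : ¬ FixA P := by
  rintro ⟨f, hf, hP⟩
  have hinv : ∀ (g : alternatingGroup (Fin m)) u v, f (((φ.symm g : GL ι F) : Matrix ι ι F) *ᵥ u)
      (((φ.symm g : GL ι F) : Matrix ι ι F) *ᵥ v) = f u v :=
    fun g u v => hP _ ⟨(φ.symm g : GL ι F), (φ.symm g).2, rfl⟩ u v
  let a : Fin m := ⟨0, by omega⟩
  have h0 : ∀ i j, f (w i a) (w j a) = 0 := by
    intro i j
    by_cases hij : i = j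
    · rw [hij]; exact hf.alternating _
    by_cases hia : i = a
    · rw [hia, w_self hw]
      have := hf.bilinear.smul_left 0 0 (w j a)
      rwa [zero_smul, zero_mul] at this
    by_cases hja : j = a
    · rw [hja, w_self hw]
      have := hf.bilinear.smul_right 0 (w i a) 0
      rwa [zero_smul, zero_mul] at this
    obtain ⟨g, hg1, hg2, hg3⟩ := H114.AltNat.exists_three (i := i) (j := j) (k := j) (l := i) (o := a)
      (by rw [Fintype.card_fin]; exact hm) hij (Ne.symm hij) hia hja hja hia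
    have h1 := hinv g (w i a) (w j a)
    rw [w_act hw, w_act hw, hg1, hg2, hg3, hf.skew] at h1
    have h3 : (2 : F) * f (w i a) (w j a) = 0 := by linear_combination -h1
    exact (mul_eq_zero.1 h3).resolve_left h2
  have hsub : ∀ x y z t : ι → F, f (x - y) (z - t) = f x z - f x t - f y z + f y t := by
    intro x y z t
    have hl : ∀ x y z : ι → F, f (x - y) z = f x z - f y z := by
      intro x y z
      have h1 := hf.bilinear.add_left (x - y) y z
      rw [sub_add_cancel] at h1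
      linear_combination -h1
    have hr : ∀ x y z : ι → F, f z (x - y) = f z x - f z y := by
      intro x y z
      have h1 := hf.bilinear.add_right z (x - y) y
      rw [sub_add_cancel] at h1
      linear_combination -h1
    rw [hl, hr, hr]
    ring
  have hall : ∀ p q : Fin m × Fin m, f (w p.1 p.2) (w q.1 q.2) = 0 := by
    intro p q
    rw [w_sub hw a p.1 p.2, w_sub hw a q.1 q.2, hsub, h0, h0, h0, h0]
    ring
  have hzl : ∀ v, f 0 v = 0 := fun v => by
    have := hf.bilinear.smul_left 0 0 v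
    rwa [zero_smul, zero_mul] at this
  have hzr : ∀ v, f v 0 = 0 := fun v => by
    have := hf.bilinear.smul_right 0 v 0
    rwa [zero_smul, zero_mul] at this
  have h1 : ∀ p v, f (w (Prod.fst p) (Prod.snd p)) v = 0 := by
    intro p v
    have hv : v ∈ Submodule.span F (Set.range fun p : Fin m × Fin m => w p.1 p.2) := by rw [hw.span]; trivial
    induction hv using Submodule.span_induction with
    | mem y hy => obtain ⟨z, rfl⟩ := hy; exact hall p z
    | zero => exact hzr _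
    | add a b _ _ ha hb => rw [hf.bilinear.add_right, ha, hb, add_zero]
    | smul c a _ ha => rw [hf.bilinear.smul_right, ha, mul_zero]
  obtain ⟨i, j, hne⟩ := hw.ne
  obtain ⟨-, ⟨u, hu⟩⟩ := hf.nondegenerate _ hne
  exact hu (h1 (i, j) u)

/-- **`A₁₃`, characteristic two: a quadratic form.** -/
theorem fixQ_nat_two (h2 : (2 : F) = 0) (hA : FixA P) (hm : m = 13) (hn : Fintype.card ι = 12)
    (hw : NatM (rep φ) w) : FixQ P := by
  subst hm
  obtain ⟨f, hf, hP⟩ := hA
  have hinv : H919.Q2.InvB P f := H919.Q2.invB_of_fixes hP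
  let v : Fin 13 → ι → F := fun i => ∑ j, w i j
  let a : Fin 13 := 0
  have hact : ∀ (g : alternatingGroup (Fin 13)) i,
      ((φ.symm g : GL ι F) : Matrix ι ι F) *ᵥ v i = v ((g : Equiv.Perm (Fin 13)) i) := by
    intro g i
    change _ *ᵥ (∑ j, w i j) = ∑ j, w ((g : Equiv.Perm (Fin 13)) i) j
    rw [Matrix.mulVec_sum,
      ← Equiv.sum_comp (g : Equiv.Perm (Fin 13)) (fun j => w ((g : Equiv.Perm (Fin 13)) i) j)]
    exact Finset.sum_congr rfl fun j _ => w_act hw g i j
  have h13 : ∀ x : ι → F, (13 : ℕ) • x = x := by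
    intro x
    rw [show 13 = 2 * 6 + 1 from rfl, add_smul, mul_comm, mul_smul, one_smul, two_nsmul, ← two_smul F x, h2, zero_smul,
      smul_zero, zero_add]
  have hv : ∀ i, v i = w i a - ∑ j, w j a := by
    intro i
    change ∑ j, w i j = _
    have h1 : ∑ j, w i j = ∑ j : Fin 13, (w i a - w j a) := Finset.sum_congr rfl fun j _ => w_sub hw a i j
    rw [h1, Finset.sum_sub_distrib, Finset.sum_const, Finset.card_univ, Fintype.card_fin, h13]
  have hvv : ∀ i j, v i - v j = w i j := by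
    intro i j
    rw [hv, hv, w_sub hw a i j]
    abel
  have hsum : ∑ i, v i = 0 := by
    have h1 : ∑ i, v i = ∑ i : Fin 13, (w i a - ∑ j, w j a) := Finset.sum_congr rfl fun i _ => hv i
    rw [h1, Finset.sum_sub_distrib, Finset.sum_const, Finset.card_univ, Fintype.card_fin, h13, sub_self]
  have hspan : Submodule.span F (Set.range v) = ⊤ := by
    rw [eq_top_iff, ← hw.span, Submodule.span_le]
    rintro _ ⟨⟨i, j⟩, rfl⟩
    change w i j ∈ _
    rw [← hvv]
    exact Submodule.sub_mem _ (Submodule.subset_span ⟨i, rfl⟩) (Submodule.subset_span ⟨j, rfl⟩)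
  have hc : ∀ i j, i ≠ j → f (v i) (v j) = f (v 0) (v 1) := by
    intro i j hij
    obtain ⟨g, hg1, hg2⟩ := H114.AltNat.exists_two (i := i) (j := j) (k := (0 : Fin 13)) (l := 1)
      (by rw [Fintype.card_fin]; norm_num) hij (by decide)
    have h1 := hinv (φ.symm g) (φ.symm g).2 (v i) (v j)
    rw [hact, hact, hg1, hg2] at h1
    exact h1.symm
  obtain ⟨Q, hQ, hI⟩ := H919.Q2.alt_nat h2 hf hinv (m := 13) (by decide) (by rw [hn]) v hspan hsum hc (by
    intro g hg i
    refine ⟨((φ ⟨g, hg⟩ : alternatingGroup (Fin 13)) : Equiv.Perm (Fin 13)) i, ?_⟩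
    rw [← hact, MulEquiv.symm_apply_apply])
  exact H919.Q2.fixQ_of hf hQ hI

end nat

variable {F : Type u} [Field F] [Fintype F] {p : ℕ} {H P : Subgroup (GL (Fin 6 ⊕ Fin 6) F)}

theorem card12 : Fintype.card (Fin 6 ⊕ Fin 6) = 12 := rfl

theorem Cx.cast_ne (h : Cx p H P) {r : ℕ} (hr : r.Prime) (hpr : p ≠ r) : (r : F) ≠ 0 := by
  have := h.char
  intro h4
  rw [CharP.cast_eq_zero_iff F p] at h4
  exact hpr ((Nat.prime_dvd_prime_iff_eq h.prime hr).1 h4)

theorem Cx.two_ne (h : Cx p H P) (h2 : p ≠ 2) : (2 : F) ≠ 0 := by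
  have := h.cast_ne Nat.prime_two h2
  exact_mod_cast this

theorem Cx.two_eq (h : Cx 2 H P) : (2 : F) = 0 := by
  have := h.char
  exact_mod_cast CharP.cast_eq_zero F 2

/-- the scalars of `P` have exponent two -/
theorem Cx.scalar_mul (h : Cx p H P) (z : (scalars (Fin 6 ⊕ Fin 6) F).subgroupOf P) : z ^ 2 = 1 := by
  apply Subtype.ext
  apply Subtype.ext
  apply Units.ext
  have h1 := h.scalar_pm z.1.2 (Subgroup.mem_subgroupOf.1 z.2)
  rw [Subgroup.coe_pow, Subgroup.coe_pow, Units.val_pow_eq_pow_val]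
  rcases h1 with h1 | h1 <;> rw [h1]
  · simp only [_root_.one_pow, _root_.OneMemClass.coe_one, _root_.Units.val_one]
  · simp only [_root_.even_two, _root_.Even.neg_pow, _root_.one_pow, _root_.OneMemClass.coe_one, _root_.Units.val_one]

theorem Cx.not_dvd (h : Cx p H P) {r : ℕ} (hr : r.Prime) (hr2 : r ≠ 2) :
    ¬ r ∣ Nat.card ((scalars (Fin 6 ⊕ Fin 6) F).subgroupOf P) := by
  intro hd
  have := Fact.mk hr
  obtain ⟨z, hz⟩ := exists_prime_orderOf_dvd_card' r hd
  have h1 := orderOf_dvd_of_pow_eq_one (h.scalar_mul z)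
  rw [hz] at h1
  exact hr2 ((Nat.prime_dvd_prime_iff_eq hr Nat.prime_two).1 h1)

/-- **`A_m`, `m ≥ 8`** -/
theorem row_alt (h : Cx p H P) {m : ℕ} (hm : 8 ≤ m) (h82 : ¬ (m = 8 ∧ p = 2))
    (e : Soc P ≃* alternatingGroup (Fin m)) : Concl P p := by
  have hpF := Fact.mk h.prime
  have := h.char
  have hC := h.core
  rcases H614.AMod.Main.alt_cases hC p e hm card12.le h82 with hN | hN | hN
  · have hd := hN.dim hC hm p
    rw [card12] at hd
    obtain ⟨φ, -, w, hw⟩ := hN
    have hF : Fintype.card F = p := H964.AltMod.card_eq hC (by rwa [Fintype.card_fin]) hw p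
    by_cases hp2 : p = 2
    · subst hp2
      rcases hd with ⟨-, hm13⟩ | ⟨-, hm14⟩
      · exact (h.hQ (fixQ_nat_two h.two_eq h.fixA (by omega) card12 hw)).elim
      · obtain rfl : m = 14 := by omega
        exact Or.inr (Or.inr (Or.inr (Or.inr (Or.inr (Or.inl ⟨⟨e⟩, hF⟩)))))
    · exact (not_fixA_nat (h.two_ne hp2) (by omega) hw h.fixA).elim
  · have := hN.n8
    rw [card12] at this
    omega
  · have := hN.1
    rw [card12] at this
    omega

/-- **`A₅`** -/
theorem row_a5 (h : Cx p H P) (e : Soc P ≃* alternatingGroup (Fin 5)) : False := by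
  have hpF := Fact.mk h.prime
  have := h.char
  by_cases hp5 : p = 5
  · subst hp5
    obtain ⟨f⟩ := Cfsg.Agent.S0253.result (F := ZMod 5) (ZMod.card 5)
    have := (H875.PslRows.sp_twelve 5 h.hH h.hc (e.trans f.symm)).2
    omega
  · have h1 := H937.T2.a5_dims p h.core e hp5
    rw [card12] at h1
    exact absurd h1 (by decide)

/-- **`A₆`** -/
theorem row_a6 (h : Cx p H P) (e : Soc P ≃* alternatingGroup (Fin 6)) : False := by
  have hpF := Fact.mk h.prime
  have := h.char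
  by_cases hp3 : p = 3
  · subst hp3
    obtain ⟨K, _, _, hK, _, ⟨f⟩⟩ := H937.T2.exists_nine e
    have := (H875.PslRows.sp_twelve 3 h.hH h.hc f).2
    omega
  · have h1 := H937.T2.a6_dims p h.core e (h.not_dvd Nat.prime_three (by norm_num)) hp3
    rw [card12] at h1
    exact absurd h1 (by decide)

end Cfsg.Agent.H922.S12
end

-- part: H1/K3/Dat
section
/-!
# `SL₂(25) < 2.Suz < Sp₁₂(3)`: the matrices (helper1)

* `gx`, `gz`, `gh` : words in the generators `G 0, …, G 6` of `2.Suz`; together with `G 3` they satisfy the relations of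
  `SL₂(25)`;
* `N` : the explicit matrices; `Lt` : the letters; `eqN` : equality of words.
-/

set_option autoImplicit false
set_option Elab.async false

namespace Cfsg.Agent.H1.K3

open Matrix Cfsg Cfsg.Geo
open Cfsg.Agent.H920.Sz12

/-- `x(1)` -/
def xR : List ℕ :=
  [0x000100020002020202010000,
   0x020100000002000100000201,
   0x010200000102000102000101,
   0x000002020001020002000000,
   0x020202020002000102020000,
   0x000102000002010202010001,
   0x010002020000020101010202,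
   0x020200000200000202000000,
   0x000201020002010201000000,
   0x000202010002000102010000,
   0x020002020100010201020202,
   0x020200000101000202000000]

/-- `x(ω)` -/
def zR : List ℕ :=
  [0x020202010002000000020100,
   0x020102010101000000000000,
   0x020100010100020102000201,
   0x020202020002000000010200,
   0x010001000001020101000002,
   0x000101000001010202000001,
   0x010102010002020202000002,
   0x000001010102020102000101,
   0x010201010102000000000000,
   0x010102020002020202000002,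
   0x020202000001010002000000,
   0x020201000002000100000002]

/-- `h(ω)` -/
def hR : List ℕ :=
  [0x000202010100010200000201,
   0x010100010200010201010001,
   0x020202000102010100020000,
   0x020201010102020101020100,
   0x010201010101020102020002,
   0x020201020102020002000000,
   0x010201010001020201000201,
   0x020102020202000201010002,
   0x000002020100020002000100,
   0x010102010201010200010002,
   0x010000020202000000000102,
   0x010202000201010101000000]

/-- the inverse of `h(ω)` -/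
def hiR : List ℕ :=
  [0x010201010000010201000201,
   0x020202020102020202010200,
   0x010202000202000201020201,
   0x020202010001020002020201,
   0x010101010201020001000102,
   0x010201010200010101000201,
   0x000200000101000101000102,
   0x000001000002000200020001,
   0x000202020100000002000200,
   0x020201000100020000010202,
   0x000101010202020001000101,
   0x020202010101020002010001]

/-- the field automorphism -/
def tR : List ℕ :=
  [0x020202000100010100020100,
   0x020001000101020002000102,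
   0x010200000000010201000101,
   0x010200000102010200010101,
   0x000202020002010201000101,
   0x010001010202020200010000,
   0x000202020100020100020202,
   0x000202020202020100020202,
   0x020002000001020202010202,
   0x000200020100000101020000,
   0x010101010002010101020101,
   0x010202020102020100020202]

/-- the inverse of `x(1)` -/
def xiR : List ℕ :=
  [0x010102010101010002020000,
   0x000000020000010100000200,
   0x000101000001000201020002,
   0x010101000000000202010002,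
   0x020100010202020002020200,
   0x000100020100020200000201,
   0x010000010100000100000001,
   0x000000010200000100000001,
   0x010200000001000102000002,
   0x020202020002010201020102,
   0x020100010102010102010102,
   0x010002000002000200020001]

/-- `x - x⁻¹ - h + h⁻¹` -/
def nA : List ℕ :=
  [0x000000010101010201020000,
   0x000202020201000001000200,
   0x000102000201020002010000,
   0x020202020200020001020102,
   0x000002010200010002010200,
   0x020002000000010101010001,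
   0x020001000000000201010102,
   0x000102000100000101010001,
   0x020201020001020102000101,
   0x020102010202000001020101,
   0x020000000001020100010102,
   0x020201010002010200020000]

/-- a partial inverse of `nA` -/
def nB : List ℕ :=
  [0x020100010200000201000102,
   0x000100000200010002020201,
   0x010100020202010202020200,
   0x020100020200000000020000,
   0x010200010200020200010102,
   0x000100010200010200020002,
   0x000200020101000000000201,
   0x010100020202000001020002,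
   0x020100020002020201000101,
   0x000000010102000200010100,
   0x020000020101000202000000,
   0x000000000000000000000000]

/-- `nB * nA` -/
def nBA : List ℕ :=
  [0x010000000000000000000001,
   0x020000000000000000000100,
   0x000000000000000000010000,
   0x010000000000000001000000,
   0x000000000000000100000000,
   0x000000000000010000000000,
   0x010000000001000000000000,
   0x020000000100000000000000,
   0x020000010000000000000000,
   0x000001000000000000000000,
   0x020100000000000000000000,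
   0x000000000000000000000000]

/-- the kernel of `nA` -/
def nV : List ℕ :=
  [0x020000000000000000000000,
   0x010000000000000000000000,
   0x000000000000000000000000,
   0x020000000000000000000000,
   0x000000000000000000000000,
   0x000000000000000000000000,
   0x020000000000000000000000,
   0x010000000000000000000000,
   0x010000000000000000000000,
   0x000000000000000000000000,
   0x010000000000000000000000,
   0x010000000000000000000000]

/-- a basis obtained from the kernel of `nA` -/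
def sR : List ℕ :=
  [0x020201020200020100020202,
   0x020001020100010202000201,
   0x000101010101010102000000,
   0x010101020100000102010202,
   0x020102010201000101000200,
   0x010101020102020002000200,
   0x020100020100010002000202,
   0x020102010100000102020101,
   0x000001000202020002020101,
   0x010001010002010201020200,
   0x020101000001010000020101,
   0x010100010202000200000201]

/-- the inverse of `sR` -/
def siR : List ℕ :=
  [0x010001000201000000020200,
   0x010201020000010201010102,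
   0x020100010000020002010002,
   0x020101000000010100020101,
   0x010001010101000001000001,
   0x010202020101000101020200,
   0x000001020002000200020000,
   0x000100010102010100000200,
   0x020101000002000001020202,
   0x000002020001000002010201,
   0x010000010000000001020200,
   0x020201020002020200000001]

/-- the transpose of `tR` -/
def tT : List ℕ :=
  [0x020100020202000101010200,
   0x020100020202000101010101,
   0x020202010202010001000002,
   0x000101020000000100010200,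
   0x010101020101020202020001,
   0x020100020202020101010201,
   0x020200010200020202000100,
   0x010001000201020001000101,
   0x020102000202010200000000,
   0x020100020202010200000102,
   0x020102000202000202020002,
   0x010100020000010001010202]

/-- the transpose of `nA` -/
def nAT : List ℕ :=
  [0x000201010102010002000000,
   0x000101010001000201000200,
   0x020102000101010102010002,
   0x000001020101010201020101,
   0x020100010102010000000002,
   0x010200020000010102020001,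
   0x020102010000000000010101,
   0x000002000100000202020201,
   0x010001020000000102000201,
   0x010002010201020202020200,
   0x020001020100000002010200,
   0x020202020002020002000000]

/-- the word of `x(1)` -/
def wx : List ℕ :=
  [5, 6, 2, 1, 6, 2, 0, 1, 2, 3, 2, 1, 6, 1, 6, 4, 3, 2, 0, 1, 3, 1, 0, 2, 3, 4, 6, 1, 6, 1, 2, 3, 2, 1, 0, 2, 6, 1, 2, 6,
   5, 1, 0, 2, 3, 4, 6, 1, 6, 1, 2, 3, 2, 1, 0, 2, 6, 1, 2, 6, 5, 3, 5, 6, 2, 1, 6, 2, 0, 1, 2, 3, 2, 1, 6, 1, 6, 4, 3, 2,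
   0, 1, 5, 6, 2, 1, 6, 2, 0, 1, 2, 3, 2, 1, 6, 1, 6, 4, 3, 2, 0, 1, 5, 6, 2, 1, 6, 2, 0, 1, 2, 3, 2, 1, 6, 1, 6, 4, 3, 2,
   0, 1, 3, 5, 6, 2, 1, 6, 2, 0, 1, 2, 3, 2, 1, 6, 1, 6, 4, 3, 2, 0, 1]

/-- the word of `h(ω)` -/
def wh : List ℕ :=
  [3, 1, 0, 2, 3, 4, 6, 1, 6, 1, 2, 3, 2, 1, 0, 2, 6, 1, 2, 6, 5, 3, 1, 0, 2, 3, 4, 6, 1, 6, 1, 2, 3, 2, 1, 0, 2, 6, 1, 2,
   6, 5, 3, 5, 6, 2, 1, 6, 2, 0, 1, 2, 3, 2, 1, 6, 1, 6, 4, 3, 2, 0, 1, 3, 5, 6, 2, 1, 6, 2, 0, 1, 2, 3, 2, 1, 6, 1, 6, 4,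
   3, 2, 0, 1]

/-- the explicit matrices -/
def N : ℕ → List ℕ
  | 0 => aR
  | 1 => bR
  | 2 => cR
  | 3 => dR
  | 4 => eR
  | 5 => fR
  | 6 => gR
  | 7 => xR
  | 8 => zR
  | 9 => hR
  | 10 => hiR
  | 11 => tR
  | 12 => xiR
  | 13 => nA
  | 14 => nB
  | 15 => nBA
  | 16 => nV
  | 17 => sR
  | 18 => siR
  | 19 => tT
  | 20 => nAT
  | 21 => jR
  | _ => idR

private noncomputable def _root_.Cfsg.Agent.LsF.f37324c_0 : {f // @Cfsg.Agent.H920.Sz12.dg = f} := ⟨_, by first | (delta Cfsg.Agent.H920.Sz12.dg; rewrite [Cfsg.Agent.LsF.ndiv_pat, Cfsg.Agent.LsF.nmod_pat, Cfsg.Agent.LsF.npow_pat]; exact rfl) | exact rfl⟩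
private noncomputable def _root_.Cfsg.Agent.LsF.f37324c_1 : {f // @Cfsg.Agent.H920.Sz12.good = f} := ⟨_, by first | (delta Cfsg.Agent.H920.Sz12.good; rewrite [Cfsg.Agent.LsF.f37324c_0.2, Cfsg.Agent.LsF.npow_pat, Cfsg.Agent.LsF.nbeq_pat, Cfsg.Agent.LsF.and_eq, Cfsg.Agent.LsF.decLe_eq, Cfsg.Agent.LsF.decLt_eq, Cfsg.Agent.LsF.all_eq, Cfsg.Agent.LsF.range_eq, Cfsg.Agent.LsF.length_eq, Cfsg.Agent.LsF.decide_eq]; exact rfl) | exact rfl⟩
theorem good_aux : ((List.range 23).all fun i => good (N i)) = true := by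
  ((try (rewrite [Cfsg.Agent.LsF.f37324c_1.2, Cfsg.Agent.LsF.all_eq, Cfsg.Agent.LsF.range_eq])); decide +kernel)

theorem good_N (i : ℕ) : good (N i) = true := by
  rcases lt_or_ge i 23 with hi | hi
  · have h := good_aux
    rw [List.all_eq_true] at h
    exact h i (List.mem_range.2 hi)
  · have h := good_aux
    rw [List.all_eq_true] at h
    have e : N i = N 22 := by
      unfold N
      split <;> first | (clear * - hi; omega) | rfl
    rw [e]
    exact h 22 (by decide)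

/-! ### the elements -/

theorem low (w : List ℕ) (hw : ∀ i ∈ w, i < 7) : (w.map fun i => toM (N i)) = w.map fun i => toM (M i) := by
  apply List.map_congr_left
  intro i hi
  have h := hw i hi
  interval_cases i <;> rfl

/-- `x(1)` -/
def gx : GL I12 (ZMod 3) := (wx.map G).prod

/-- `h(ω)` -/
def gh : GL I12 (ZMod 3) := (wh.map G).prod

private noncomputable def _root_.Cfsg.Agent.LsF.f37324c_2 : {f // @Cfsg.Agent.H920.Sz12.same = f} := ⟨_, by first | (delta Cfsg.Agent.H920.Sz12.same; rewrite [Cfsg.Agent.LsF.f37324c_0.2, Cfsg.Agent.LsF.nmul_pat, Cfsg.Agent.LsF.nmod_pat, Cfsg.Agent.LsF.nbeq_pat, Cfsg.Agent.LsF.all_eq, Cfsg.Agent.LsF.range_eq]; exact rfl) | exact rfl⟩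
private noncomputable def _root_.Cfsg.Agent.LsF.f37324c_3 : {f // @Cfsg.Agent.H920.Sz12.step = f} := ⟨_, by first | (delta Cfsg.Agent.H920.Sz12.step List.brecOn List.brecOn.go Cfsg.Agent.H920.Sz12.step._f; rewrite [Cfsg.Agent.LsF.nadd_pat, Cfsg.Agent.LsF.nmul_pat, Cfsg.Agent.LsF.ndiv_pat, Cfsg.Agent.LsF.nmod_pat]; (try delta Cfsg.Agent.H920.Sz12.step.match_1); (try delta List.casesOn); first | dsimp -zeta only | exact rfl) | exact rfl⟩
private noncomputable def _root_.Cfsg.Agent.LsF.f37324c_4 : {f // @Cfsg.Agent.H920.Sz12.ev = f} := ⟨_, by first | (delta Cfsg.Agent.H920.Sz12.ev List.brecOn List.brecOn.go Cfsg.Agent.H920.Sz12.ev._f; rewrite [Cfsg.Agent.LsF.f37324c_3.2]; (try delta Cfsg.Agent.H920.Sz12.ev.match_1); (try delta List.casesOn); first | dsimp -zeta only | exact rfl) | exact rfl⟩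
private noncomputable def _root_.Cfsg.Agent.LsF.f37324c_5 : {f // @Cfsg.Agent.H920.Sz12.eqB = f} := ⟨_, by first | (delta Cfsg.Agent.H920.Sz12.eqB; rewrite [Cfsg.Agent.LsF.f37324c_2.2, Cfsg.Agent.LsF.f37324c_4.2, Cfsg.Agent.LsF.npow_pat, Cfsg.Agent.LsF.all_eq, Cfsg.Agent.LsF.range_eq]; exact rfl) | exact rfl⟩
theorem chk_x : eqB N 1 wx [7] = true := by ((try (rewrite [Cfsg.Agent.LsF.f37324c_5.2])); decide +kernel)

theorem chk_h : eqB N 1 wh [9] = true := by ((try (rewrite [Cfsg.Agent.LsF.f37324c_5.2])); decide +kernel)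

theorem coe_gx : ((gx : GL I12 (ZMod 3)) : Matrix I12 I12 (ZMod 3)) = toM xR := by
  rw [gx, coe_prod, ← low wx (by decide +kernel), eqB_spec good_N chk_x]
  simp [N]

theorem coe_gh : ((gh : GL I12 (ZMod 3)) : Matrix I12 I12 (ZMod 3)) = toM hR := by
  rw [gh, coe_prod, ← low wh (by decide +kernel), eqB_spec good_N chk_h]
  simp [N]

theorem chk_inv : (eqB N 1 [7, 12] [] && eqB N 1 [9, 10] [] && eqB N 1 [11, 11] []) = true := by decide +kernel

theorem mul_one_of {i j : ℕ} (h : eqB N 1 [i, j] [] = true) : toM (N i) * toM (N j) = 1 := by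
  have h1 := eqB_spec good_N h
  simpa only [_root_.List.map_cons, _root_.List.map_nil, _root_.List.prod_cons, _root_.List.prod_nil, _root_.mul_one, _root_.Nat.cast_one, _root_.one_smul] using h1

theorem coe_gx_inv : ((gx⁻¹ : GL I12 (ZMod 3)) : Matrix I12 I12 (ZMod 3)) = toM xiR := by
  have h := chk_inv
  rw [Bool.and_eq_true, Bool.and_eq_true] at h
  apply Units.inv_eq_of_mul_eq_one_right
  rw [coe_gx]
  exact mul_one_of (i := 7) (j := 12) h.1.1

theorem coe_gh_inv : ((gh⁻¹ : GL I12 (ZMod 3)) : Matrix I12 I12 (ZMod 3)) = toM hiR := by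
  have h := chk_inv
  rw [Bool.and_eq_true, Bool.and_eq_true] at h
  apply Units.inv_eq_of_mul_eq_one_right
  rw [coe_gh]
  exact mul_one_of (i := 9) (j := 10) h.1.2

/-- the field automorphism -/
def gt : GL I12 (ZMod 3) := ⟨toM tR, toM tR,
  mul_one_of (i := 11) (j := 11) (by have h := chk_inv; rw [Bool.and_eq_true] at h; exact h.2),
  mul_one_of (i := 11) (j := 11) (by have h := chk_inv; rw [Bool.and_eq_true] at h; exact h.2)⟩

theorem coe_gt : ((gt : GL I12 (ZMod 3)) : Matrix I12 I12 (ZMod 3)) = toM tR := rfl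

/-- `x(ω)` -/
def gz : GL I12 (ZMod 3) := gx * gx * gh * gx * gh⁻¹

theorem chk_z : eqB N 1 [7, 7, 9, 7, 10] [8] = true := by decide +kernel

theorem coe_gz : ((gz : GL I12 (ZMod 3)) : Matrix I12 I12 (ZMod 3)) = toM zR := by
  have h := eqB_spec good_N chk_z
  simp only [List.map_cons, List.map_nil, List.prod_cons, List.prod_nil, mul_one, Nat.cast_one, one_smul] at h
  rw [gz, Units.val_mul, Units.val_mul, Units.val_mul, Units.val_mul, coe_gx, coe_gh, coe_gh_inv]
  simp only [mul_assoc]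
  exact h

/-- `w` -/
def gw : GL I12 (ZMod 3) := G 3

theorem coe_gw : ((gw : GL I12 (ZMod 3)) : Matrix I12 I12 (ZMod 3)) = toM dR := rfl

/-- the letters -/
def Lt : ℕ → GL I12 (ZMod 3)
  | 0 => gx
  | 1 => gz
  | 2 => gh
  | 3 => gw
  | 4 => gh⁻¹
  | 5 => gt
  | _ => 1

/-- the matrices of the letters -/
def N1 : ℕ → List ℕ
  | 0 => xR
  | 1 => zR
  | 2 => hR
  | 3 => dR
  | 4 => hiR
  | 5 => tR
  | _ => idR

theorem good_N1 (i : ℕ) : good (N1 i) = true := by
  unfold N1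
  split
  · exact good_N 7
  · exact good_N 8
  · exact good_N 9
  · exact good_N 3
  · exact good_N 10
  · exact good_N 11
  · exact good_N 22

theorem coe_Lt (i : ℕ) : ((Lt i : GL I12 (ZMod 3)) : Matrix I12 I12 (ZMod 3)) = toM (N1 i) := by
  unfold Lt N1
  split
  · exact coe_gx
  · exact coe_gz
  · exact coe_gh
  · exact coe_gw
  · exact coe_gh_inv
  · exact coe_gt
  · rw [Units.val_one, toM_id]

theorem coe_Lprod (w : List ℕ) : (((w.map Lt).prod : GL I12 (ZMod 3)) : Matrix I12 I12 (ZMod 3)) =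
    (w.map fun i => toM (N1 i)).prod := by
  induction w with
  | nil => rfl
  | cons i w ih => rw [List.map_cons, List.prod_cons, List.map_cons, List.prod_cons, Units.val_mul, ih, coe_Lt]

/-- equality of words -/
theorem eqL {w w' : List ℕ} (h : eqB N1 1 w w' = true) : (w.map Lt).prod = (w'.map Lt).prod := by
  apply Units.ext
  rw [coe_Lprod, coe_Lprod, eqB_spec good_N1 h, Nat.cast_one, one_smul]

end Cfsg.Agent.H1.K3
end

-- part: H1/K3/Rel
section
/-!
# `SL₂(25) < 2.Suz < Sp₁₂(3)`: the relations (helper1)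

* `K25` : the field with 25 elements, `ω² = 3 + ω`;
* `rel`, `rep` : the homomorphism `SL₂(25) → GL₁₂(3)`.
-/

set_option autoImplicit false
set_option Elab.async false

namespace Cfsg.Agent.H1.K3

open Matrix Cfsg Cfsg.Geo
open Cfsg.Agent.H920.Sz12 Cfsg.Agent.Lib.SL2Lift

/-- the field with 25 elements -/
abbrev K25 : Type := QuadraticAlgebra (ZMod 5) 3 1

instance prime5 : Fact (Nat.Prime 5) := ⟨by norm_num⟩

instance k25Fact : Fact (∀ r : ZMod 5, r ^ 2 ≠ 3 + 1 * r) := ⟨by decide⟩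

instance k25Fintype : Fintype K25 := Fintype.ofEquiv _ (QuadraticAlgebra.equivProd (3 : ZMod 5) 1).symm

theorem card_k25 : Fintype.card K25 = 25 := by
  rw [Fintype.card_congr (QuadraticAlgebra.equivProd (3 : ZMod 5) 1)]
  rfl

/-- the logarithms -/
def lgL : List ℕ := [0, 0, 6, 18, 12, 1, 22, 15, 2, 17, 7, 8, 4, 23, 21, 19, 9, 11, 16, 20, 13, 5, 14, 3, 10]

/-- the logarithm of `a + b ω` -/
def lgab (a b : ZMod 5) : ℕ := lgL.getD (a.val + 5 * b.val) 0

/-- the logarithm -/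
def lg (t : K25) : ℕ := lgab t.re t.im

/-- the generator -/
def om : K25 := ⟨0, 1⟩

/-- the powers of the generator -/
def pwp : ℕ → ZMod 5 × ZMod 5
  | 0 => (1, 0)
  | k + 1 => (3 * (pwp k).2, (pwp k).1 + (pwp k).2)

theorem om_pow (k : ℕ) : om ^ k = ⟨(pwp k).1, (pwp k).2⟩ := by
  induction k with
  | zero => rfl
  | succ k ih =>
    rw [pow_succ', ih]
    unfold om
    ext
    · simp [pwp]
    · simp [pwp]

theorem chk_pw : ∀ a b : ZMod 5, a ≠ 0 ∨ b ≠ 0 → pwp (lgab a b) = (a, b) := by decide +kernel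

theorem om_lg {t : K25} (ht : t ≠ 0) : om ^ lg t = t := by
  have h1 : t.re ≠ 0 ∨ t.im ≠ 0 := by
    by_contra h
    rw [not_or, not_not, not_not] at h
    exact ht (QuadraticAlgebra.ext h.1 h.2)
  rw [om_pow, lg, chk_pw _ _ h1]

private noncomputable def _root_.Cfsg.Agent.LsF.f37324c_6 : {f // @Cfsg.Agent.H1.K3.lgab = f} := ⟨_, by first | (delta Cfsg.Agent.H1.K3.lgab; rewrite [Cfsg.Agent.LsF.nadd_pat, Cfsg.Agent.LsF.nmul_pat, Cfsg.Agent.LsF.zval_eq, Cfsg.Agent.LsF.getD_eq]; exact rfl) | exact rfl⟩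
theorem chk_mul : ∀ a b c d : ZMod 5, a ≠ 0 ∨ b ≠ 0 → c ≠ 0 ∨ d ≠ 0 →
    (lgab a b + lgab c d) % 24 = lgab (a * c + 3 * (b * d)) (a * d + b * c + b * d) := by (refine of_decide_eq_true ?_; (try (rewrite [Cfsg.Agent.LsF.f37324c_6.2, Cfsg.Agent.LsF.nadd_pat, Cfsg.Agent.LsF.nmod_pat, Cfsg.Agent.LsF.zadd_pat, Cfsg.Agent.LsF.zmul_pat, Cfsg.Agent.LsF.zdecEq_eq, Cfsg.Agent.LsF.zFintype_eq, Cfsg.Agent.LsF.dForall_eq, Cfsg.Agent.LsF.instDecEq_eq, Cfsg.Agent.LsF.dOr_eq, Cfsg.Agent.LsF.dNot_eq, Cfsg.Agent.LsF.decide_eq])); decide +kernel)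

theorem ne_iff {t : K25} : t ≠ 0 ↔ t.re ≠ 0 ∨ t.im ≠ 0 := by
  constructor
  · intro ht
    by_contra h
    rw [not_or, not_not, not_not] at h
    exact ht (QuadraticAlgebra.ext h.1 h.2)
  · rintro h rfl
    rcases h with h | h <;> exact h rfl

theorem lg_mul {s t : K25} (hs : s ≠ 0) (ht : t ≠ 0) : lg (s * t) = (lg s + lg t) % 24 := by
  have h := chk_mul _ _ _ _ (ne_iff.1 hs) (ne_iff.1 ht)
  have e1 : (s * t).re = s.re * t.re + 3 * (s.im * t.im) := by
    rw [QuadraticAlgebra.re_mul]; ring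
  have e2 : (s * t).im = s.re * t.im + s.im * t.re + s.im * t.im := by
    rw [QuadraticAlgebra.im_mul]; ring
  unfold lg
  rw [h, e1, e2]

/-- the word of `x(a + b ω)` -/
def xw (a b : ZMod 5) : List ℕ := List.replicate a.val 0 ++ List.replicate b.val 1

/-- `x(t)` -/
def xe (t : K25) : GL I12 (ZMod 3) := gx ^ t.re.val * gz ^ t.im.val

/-- `h(t)` -/
def he (t : K25) : GL I12 (ZMod 3) := gh ^ lg t

theorem xw_prod (a b : ZMod 5) : ((xw a b).map Lt).prod = xe ⟨a, b⟩ := by
  unfold xw xe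
  rw [List.map_append, List.prod_append, List.map_replicate, List.map_replicate, List.prod_replicate,
    List.prod_replicate]
  rfl

theorem chk_a : (eqB N1 1 [0, 1] [1, 0] && eqB N1 1 [0, 0, 0, 0, 0] [] && eqB N1 1 [1, 1, 1, 1, 1] [] &&
    eqB N1 1 [3, 2] [4, 3] && eqB N1 1 (List.replicate 24 2) [] && eqB N1 1 [3, 3] (List.replicate 12 2)) = true := by
  ((try (rewrite [Cfsg.Agent.LsF.f37324c_5.2, Cfsg.Agent.LsF.and_eq, Cfsg.Agent.LsF.replicate_eq])); decide +kernel)

private noncomputable def _root_.Cfsg.Agent.LsF.f37324c_7 : {f // @Cfsg.Agent.H1.K3.xw = f} := ⟨_, by first | (delta Cfsg.Agent.H1.K3.xw; rewrite [Cfsg.Agent.LsF.lappend_pat, Cfsg.Agent.LsF.zval_eq, Cfsg.Agent.LsF.replicate_eq]; exact rfl) | exact rfl⟩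
theorem chk_conj : ∀ a b : ZMod 5, eqB N1 1 (2 :: xw a b) (xw (3 * a + 3 * b) (a + 4 * b) ++ [2]) = true := by
  (refine of_decide_eq_true ?_; (try (rewrite [Cfsg.Agent.LsF.f37324c_5.2, Cfsg.Agent.LsF.f37324c_7.2, Cfsg.Agent.LsF.lappend_pat, Cfsg.Agent.LsF.zadd_pat, Cfsg.Agent.LsF.zmul_pat, Cfsg.Agent.LsF.zFintype_eq, Cfsg.Agent.LsF.dForall_eq, Cfsg.Agent.LsF.dBoolEq_eq, Cfsg.Agent.LsF.decide_eq])); decide +kernel)

/-- the coordinates of `-t⁻¹` -/
def mre (a b : ZMod 5) : ZMod 5 := -(a + b) * (a * a + a * b + 2 * b * b) ^ 3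

/-- the coordinates of `-t⁻¹` -/
def mim (a b : ZMod 5) : ZMod 5 := b * (a * a + a * b + 2 * b * b) ^ 3

theorem chk_m : ∀ a b : ZMod 5, a ≠ 0 ∨ b ≠ 0 → a * mre a b + 3 * (b * mim a b) = -1 ∧
    a * mim a b + b * mre a b + b * mim a b = 0 := by decide +kernel

theorem m_eq {t : K25} (ht : t ≠ 0) : -t⁻¹ = ⟨mre t.re t.im, mim t.re t.im⟩ := by
  have h := chk_m _ _ (ne_iff.1 ht)
  have h1 : t * ⟨mre t.re t.im, mim t.re t.im⟩ = (-1 : K25) := by
    ext
    · rw [QuadraticAlgebra.re_mul]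
      refine Eq.trans ?_ (h.1.trans ?_)
      · ring
      · rfl
    · rw [QuadraticAlgebra.im_mul]
      refine Eq.trans ?_ (h.2.trans ?_)
      · ring
      · rfl
  rw [neg_eq_iff_eq_neg]
  apply inv_eq_of_mul_eq_one_right
  rw [mul_neg, h1, neg_neg]

private noncomputable def _root_.Cfsg.Agent.LsF.f37324c_8 : {f // @Cfsg.Agent.H1.K3.mre = f} := ⟨_, by first | (delta Cfsg.Agent.H1.K3.mre; rewrite [Cfsg.Agent.LsF.zadd_pat, Cfsg.Agent.LsF.zmul_pat, Cfsg.Agent.LsF.zneg_pat]; exact rfl) | exact rfl⟩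
private noncomputable def _root_.Cfsg.Agent.LsF.f37324c_9 : {f // @Cfsg.Agent.H1.K3.mim = f} := ⟨_, by first | (delta Cfsg.Agent.H1.K3.mim; rewrite [Cfsg.Agent.LsF.zadd_pat, Cfsg.Agent.LsF.zmul_pat]; exact rfl) | exact rfl⟩
theorem chk_wx : ∀ a b : ZMod 5, a ≠ 0 ∨ b ≠ 0 → eqB N1 1 (3 :: xw a b ++ [3])
    (xw (mre a b) (mim a b) ++ List.replicate (lgab (mre a b) (mim a b)) 2 ++ [3] ++ xw (mre a b) (mim a b)) = true := by
  (refine of_decide_eq_true ?_; (try (rewrite [Cfsg.Agent.LsF.f37324c_5.2, Cfsg.Agent.LsF.f37324c_7.2, Cfsg.Agent.LsF.f37324c_8.2, Cfsg.Agent.LsF.f37324c_9.2, Cfsg.Agent.LsF.f37324c_6.2, Cfsg.Agent.LsF.lappend_pat, Cfsg.Agent.LsF.zdecEq_eq, Cfsg.Agent.LsF.zFintype_eq, Cfsg.Agent.LsF.dForall_eq, Cfsg.Agent.LsF.replicate_eq, Cfsg.Agent.LsF.dOr_eq, Cfsg.Agent.LsF.dNot_eq, Cfsg.Agent.LsF.dBoolEq_eq, Cfsg.Agent.LsF.decide_eq])); decide +kernel)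

/-! ### the relations -/

theorem parse_a : gx * gz = gz * gx ∧ gx ^ 5 = 1 ∧ gz ^ 5 = 1 ∧ gw * gh = gh⁻¹ * gw ∧ gh ^ 24 = 1 ∧ gw * gw = gh ^ 12 := by
  have h := chk_a
  simp only [Bool.and_eq_true] at h
  obtain ⟨⟨⟨⟨⟨h1, h2⟩, h3⟩, h4⟩, h5⟩, h6⟩ := h
  refine ⟨?_, ?_, ?_, ?_, ?_, ?_⟩
  · have := eqL h1
    simpa only [Lt, _root_.List.map_cons, _root_.List.map_nil, _root_.List.prod_cons, _root_.List.prod_nil, _root_.mul_one] using this
  · have := eqL h2
    simpa only [Lt, pow_succ, mul_assoc, _root_.pow_zero, _root_.one_mul, _root_.List.map_cons, _root_.List.map_nil, _root_.List.prod_cons, _root_.List.prod_nil, _root_.mul_one] using this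
  · have := eqL h3
    simpa only [Lt, pow_succ, mul_assoc, _root_.pow_zero, _root_.one_mul, _root_.List.map_cons, _root_.List.map_nil, _root_.List.prod_cons, _root_.List.prod_nil, _root_.mul_one] using this
  · have := eqL h4
    simpa only [Lt, _root_.List.map_cons, _root_.List.map_nil, _root_.List.prod_cons, _root_.List.prod_nil, _root_.mul_one] using this
  · have := eqL h5
    rw [List.map_replicate, List.prod_replicate] at this
    exact this
  · have := eqL h6
    rw [List.map_replicate, List.prod_replicate] at this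
    simpa only [Lt, _root_.List.map_cons, _root_.List.map_nil, _root_.List.prod_cons, _root_.List.prod_nil, _root_.mul_one] using this

theorem pow_mod' {M : Type*} [Monoid M] {g : M} {n : ℕ} (h : g ^ n = 1) (k : ℕ) : g ^ (k % n) = g ^ k := by
  conv_rhs => rw [← Nat.mod_add_div k n, pow_add, pow_mul, h, one_pow, mul_one]

seal _root_.Nat.mod _root_.List.foldr in
theorem xe_add (s t : K25) : xe (s + t) = xe s * xe t := by
  obtain ⟨h1, h2, h3, -⟩ := parse_a
  have hc : Commute gx gz := h1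
  unfold xe
  rw [QuadraticAlgebra.re_add, QuadraticAlgebra.im_add, ZMod.val_add, ZMod.val_add, pow_mod' h2, pow_mod' h3, pow_add,
    pow_add, mul_assoc, mul_assoc, ← mul_assoc (gx ^ t.re.val), (hc.pow_pow t.re.val s.im.val).eq]
  simp only [mul_assoc]

theorem he_mul {a b : K25} (ha : a ≠ 0) (hb : b ≠ 0) : he (a * b) = he a * he b := by
  obtain ⟨-, -, -, -, h5, -⟩ := parse_a
  unfold he
  rw [lg_mul ha hb, pow_mod' h5, pow_add]

theorem gh_xe (t : K25) : gh * xe t = xe (om ^ 2 * t) * gh := by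
  have h := eqL (chk_conj t.re t.im)
  rw [List.map_cons, List.prod_cons, xw_prod, List.map_append, List.prod_append, xw_prod] at h
  have e : om ^ 2 * t = ⟨3 * t.re + 3 * t.im, t.re + 4 * t.im⟩ := by
    unfold om
    ext
    · simp only [sq, QuadraticAlgebra.re_mul, QuadraticAlgebra.im_mul]
      ring
    · simp only [sq, QuadraticAlgebra.re_mul, QuadraticAlgebra.im_mul]
      ring
  rw [e]
  simpa only [Lt, _root_.QuadraticAlgebra.mk_eta, _root_.List.map_cons, _root_.List.map_nil, _root_.List.prod_cons, _root_.List.prod_nil, _root_.mul_one] using h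

theorem gh_pow_xe (k : ℕ) (t : K25) : gh ^ k * xe t = xe ((om ^ k) ^ 2 * t) * gh ^ k := by
  induction k generalizing t with
  | zero => simp
  | succ k ih =>
    rw [pow_succ, mul_assoc, gh_xe, ← mul_assoc, ih, mul_assoc]
    (with_reducible congr 2)
    ring

theorem gw_gh_pow (k : ℕ) : gw * gh ^ k = (gh ^ k)⁻¹ * gw := by
  obtain ⟨-, -, -, h4, -, -⟩ := parse_a
  induction k with
  | zero => simp
  | succ k ih =>
    rw [pow_succ', ← mul_assoc, h4, mul_assoc, ih, ← mul_assoc, ← _root_.mul_inv_rev, ← pow_succ, ← pow_succ']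

theorem he_one : he 1 = 1 := by
  have h : lg 1 = 0 := by
    show lgab 1 0 = 0
    decide
  unfold he
  rw [h, pow_zero]

theorem he_inv {a : K25} (ha : a ≠ 0) : he a⁻¹ = (he a)⁻¹ := by
  rw [eq_inv_iff_mul_eq_one, ← he_mul (inv_ne_zero ha) ha, inv_mul_cancel₀ ha, he_one]

theorem he_neg_one : he (-1) = gh ^ 12 := by
  have h : lg (-1) = 12 := by
    show lgab (-1) (-0) = 12
    decide
  unfold he
  rw [h]

theorem rel : _root_.Cfsg.Agent.Lib.SL2Lift.Rel xe he gw where
  add := xe_add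
  mul := fun a b ha hb => he_mul ha hb
  conj := fun a t ha => by
    have h := gh_pow_xe (lg a) t
    rw [om_lg ha] at h
    exact h
  wh := fun a ha => by
    rw [he_inv ha]
    exact gw_gh_pow (lg a)
  ww := by
    rw [he_neg_one]
    exact parse_a.2.2.2.2.2
  wx := fun t ht => by
    have h := eqL (chk_wx _ _ (ne_iff.1 ht))
    simp only [List.map_append, List.prod_append, List.map_cons, List.prod_cons, List.map_nil, List.prod_nil, mul_one,
      xw_prod, List.map_replicate, List.prod_replicate] at h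
    rw [m_eq ht]
    simpa only [Lt, he, lg, mul_assoc, _root_.QuadraticAlgebra.mk_eta] using h

/-- the homomorphism -/
noncomputable def rep : _root_.Matrix.SpecialLinearGroup (Fin 2) K25 →* GL I12 (ZMod 3) := hom rel

end Cfsg.Agent.H1.K3
end

-- part: H1/K3/Norton
section
/-!
# Norton's criterion for groups preserving a bilinear form (helper1)

`absIrr_of_cert`: if `P` preserves the non-degenerate form `J`, and `A` is a linear combination of elements of `P`,
skew for `J`, with one-dimensional kernel `⟨v⟩`, and `v` generates the module, then `P` is absolutely irreducible.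
-/

set_option autoImplicit false

namespace Cfsg.Agent.H1.K3

open Matrix Cfsg Cfsg.Geo

variable {F : Type*} [Field F] {ι : Type} [Fintype ι] [DecidableEq ι] {P : Subgroup (GL ι F)}

theorem absIrr_of_cert (J A : Matrix ι ι F) (v e : ι → F)
    (hJ : ∀ g ∈ P, (g : Matrix ι ι F)ᵀ * J * (g : Matrix ι ι F) = J) (hJi : ∀ y, J *ᵥ y = 0 → y = 0)
    (hA : A ∈ Submodule.span F (matrixSet P)) (hadj : Aᵀ * J = -(J * A))
    (hker : ∀ x, A *ᵥ x = 0 → x = (e ⬝ᵥ x) • v) (hv : A *ᵥ v = 0)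
    (hspin : ∀ W : Submodule F (ι → F), (∀ g ∈ P, ∀ x ∈ W, (g : Matrix ι ι F) *ᵥ x ∈ W) → v ∈ W → W = ⊤) :
    ActsAbsolutelyIrreducibly (matrixSet P) := by
  refine ⟨fun W hW => ?_, fun M hM => ?_⟩
  · have hW1 : ∀ g ∈ P, ∀ x ∈ W, (g : Matrix ι ι F) *ᵥ x ∈ W := by
      intro g hg x hx
      exact hW _ ⟨g, hg, rfl⟩ ⟨x, hx, by simp⟩
    have hWA : ∀ x ∈ W, A *ᵥ x ∈ W := by
      intro x hx
      clear hadj hker hv
      induction hA using Submodule.span_induction with
      | mem s hs =>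
        obtain ⟨g, hg, rfl⟩ := hs
        exact hW1 g hg x hx
      | zero => rw [zero_mulVec]; exact W.zero_mem
      | add a b _ _ ha hb => rw [add_mulVec]; exact W.add_mem ha hb
      | smul c a _ ha => rw [smul_mulVec]; exact W.smul_mem _ ha
    by_cases h : ∃ x ∈ W, x ≠ 0 ∧ A *ᵥ x = 0
    · obtain ⟨x, hx, hx0, hAx⟩ := h
      right
      apply hspin W hW1
      have h1 := hker x hAx
      have hc : e ⬝ᵥ x ≠ 0 := by
        intro h
        rw [h, zero_smul] at h1
        exact hx0 h1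
      have h2 : v = (e ⬝ᵥ x)⁻¹ • x := by
        conv_rhs => rw [h1, dotProduct_smul, smul_smul]
        have h3 : e ⬝ᵥ v = 1 := by
          have h4 := congrArg (fun y => e ⬝ᵥ y) h1
          simp only [dotProduct_smul, smul_eq_mul] at h4
          exact mul_left_cancel₀ hc (by rw [← h4, mul_one])
        rw [h3, smul_eq_mul, mul_one, inv_mul_cancel₀ hc, one_smul]
      rw [h2]
      exact W.smul_mem _ hx
    · left
      push Not at h
      let T : W →ₗ[F] W := (toLin' A).restrict (p := W) (q := W) (fun x hx => by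
        rw [toLin'_apply]
        exact hWA x hx)
      have hinj : Function.Injective T := by
        rw [← LinearMap.ker_eq_bot, eq_bot_iff]
        rintro ⟨x, hx⟩ hT
        rw [LinearMap.mem_ker] at hT
        have h1 : A *ᵥ x = 0 := by
          have h2 := congrArg Subtype.val hT
          simpa only [T, _root_.LinearMap.coe_restrict_apply, _root_.Matrix.toLin'_apply, _root_.ZeroMemClass.coe_zero] using h2
        by_contra hne
        exact h x hx (fun h0 => hne (by subst h0; exact Subtype.ext rfl)) h1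
      have hsurj : Function.Surjective T := LinearMap.injective_iff_surjective.1 hinj
      let W' : Submodule F (ι → F) :=
        { carrier := {x | ∀ y ∈ W, x ⬝ᵥ J *ᵥ y = 0}
          add_mem' := fun {a b} ha hb y hy => by rw [add_dotProduct, ha y hy, hb y hy, add_zero]
          zero_mem' := fun y _ => zero_dotProduct _
          smul_mem' := fun c x hx y hy => by rw [smul_dotProduct, hx y hy, smul_zero] }
      have hv' : v ∈ W' := by
        intro y hy
        obtain ⟨⟨z, hz⟩, hzy⟩ := hsurj ⟨y, hy⟩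
        have h1 : A *ᵥ z = y := by
          have h2 := congrArg Subtype.val hzy
          simpa [T] using h2
        rw [← h1, mulVec_mulVec, show J * A = -(Aᵀ * J) by rw [hadj, neg_neg], neg_mulVec, dotProduct_neg,
          ← mulVec_mulVec, dotProduct_mulVec, vecMul_transpose, hv, zero_dotProduct, neg_zero]
      have hW' : ∀ g ∈ P, ∀ x ∈ W', (g : Matrix ι ι F) *ᵥ x ∈ W' := by
        intro g hg x hx y hy
        have h1 : (g : Matrix ι ι F)ᵀ * J = J * ((g⁻¹ : GL ι F) : Matrix ι ι F) := by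
          have h2 := hJ g hg
          calc (g : Matrix ι ι F)ᵀ * J = (g : Matrix ι ι F)ᵀ * J * ((g : Matrix ι ι F) * ((g⁻¹ : GL ι F) : Matrix ι ι F)) := by
                rw [← Units.val_mul, mul_inv_cancel, Units.val_one, mul_one]
            _ = _ := by rw [← mul_assoc, h2]
        have h3 := hx _ (hW1 _ (inv_mem hg) y hy)
        rw [mulVec_mulVec, ← h1, ← mulVec_mulVec, dotProduct_mulVec, vecMul_transpose] at h3
        exact h3
      have htop := hspin W' hW' hv'
      rw [eq_bot_iff]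
      intro y hy
      rw [Submodule.mem_bot]
      apply hJi
      funext i
      have h1 : (Pi.single i 1 : ι → F) ∈ W' := by rw [htop]; exact Submodule.mem_top
      have h2 := h1 y hy
      rwa [single_one_dotProduct] at h2
  · have hMA : M * A = A * M := by
      clear hadj hker hv
      induction hA using Submodule.span_induction with
      | mem s hs => exact hM s hs
      | zero => rw [mul_zero, zero_mul]
      | add a b _ _ ha hb => rw [mul_add, add_mul, ha, hb]
      | smul c a _ ha => rw [Matrix.mul_smul, Matrix.smul_mul, ha]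
    have h1 : A *ᵥ (M *ᵥ v) = 0 := by
      rw [mulVec_mulVec, ← hMA, ← mulVec_mulVec, hv, mulVec_zero]
    have h2 := hker _ h1
    set c := e ⬝ᵥ (M *ᵥ v) with hc
    refine ⟨c, ?_⟩
    have h3 := hspin (LinearMap.ker (toLin' (M - c • (1 : Matrix ι ι F)))) (by
      intro g hg x hx
      rw [LinearMap.mem_ker, toLin'_apply, mulVec_mulVec] at *
      have h4 : (M - c • (1 : Matrix ι ι F)) * (g : Matrix ι ι F) = (g : Matrix ι ι F) * (M - c • (1 : Matrix ι ι F)) := by
        rw [sub_mul, mul_sub, hM _ ⟨g, hg, rfl⟩, Matrix.smul_mul, Matrix.mul_smul, one_mul, mul_one]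
      rw [h4, ← mulVec_mulVec, hx, mulVec_zero]) (by
      rw [LinearMap.mem_ker, toLin'_apply, sub_mulVec, smul_mulVec, one_mulVec, h2, sub_self])
    have h5 : toLin' (M - c • (1 : Matrix ι ι F)) = 0 := LinearMap.ker_eq_top.1 h3
    rw [LinearEquiv.map_eq_zero_iff] at h5
    exact sub_eq_zero.1 h5

end Cfsg.Agent.H1.K3
end

-- part: H1/K3/Irr
section
/-!
# `SL₂(25) < 2.Suz < Sp₁₂(3)`: absolute irreducibility (helper1)
-/

set_option autoImplicit false
set_option Elab.async false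

namespace Cfsg.Agent.H1.K3

open Matrix Cfsg Cfsg.Geo
open Cfsg.Agent.H920.Sz12

/-! ### the checks -/

theorem chk_A : ((List.range 12).all fun i => (List.range 12).all fun j =>
    (dg (nA.getD i 0) j + dg (xiR.getD i 0) j + dg (hR.getD i 0) j) % 3 ==
      (dg (xR.getD i 0) j + dg (hiR.getD i 0) j) % 3) = true := by decide +kernel

theorem chk_adj : (trB nA nAT && eqB N 2 [20, 21] [21, 13] && eqB N 1 [14, 13] [15] && eqB N 0 [13, 16] [] &&
    eqB N 1 [17, 18] []) = true := by decide +kernel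

theorem chk_one : ((List.range 12).all fun i => (List.range 12).all fun j =>
    (dg (nBA.getD i 0) j + dg (nV.getD i 0) j) % 3 == dg (idR.getD i 0) j % 3) = true := by decide +kernel

theorem chk_V : ((List.range 12).all fun i => (List.range 11).all fun j => dg (nV.getD i 0) j == 0) = true := by
  decide +kernel

/-- the columns of the basis -/
def col (k : Fin 12) (i : I12) : ZMod 3 := toM sR i (finSumFinEquiv.symm k)

theorem chk_col0 : ∀ i : I12, toM nV i (Sum.inr 5) = col 0 i := by decide +kernel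

theorem chk_spin : ∀ j : Fin 4, ∀ r : I12, (toM xR *ᵥ col ⟨j.val, by omega⟩) r = col ⟨3 * j.val + 1, by omega⟩ r ∧
    (toM hR *ᵥ col ⟨j.val, by omega⟩) r = col ⟨3 * j.val + 2, by omega⟩ r := by decide +kernel

theorem chk_spin' : ∀ j : Fin 3, ∀ r : I12,
    (toM dR *ᵥ col ⟨j.val, by omega⟩) r = col ⟨3 * j.val + 3, by omega⟩ r := by decide +kernel

/-! ### the matrices -/

theorem cast_of_mod {a b : ℕ} (h : (a % 3 == b % 3) = true) : (a : ZMod 3) = (b : ZMod 3) := by
  rw [beq_iff_eq] at h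
  rw [← ZMod.natCast_mod a, ← ZMod.natCast_mod b, h]

theorem all_spec {p : ℕ → ℕ → Bool} (h : ((List.range 12).all fun i => (List.range 12).all fun j => p i j) = true)
    (i j : I12) : p (ix i) (ix j) = true := by
  rw [List.all_eq_true] at h
  have h1 := h (ix i) (List.mem_range.2 (ix_lt i))
  rw [List.all_eq_true] at h1
  exact h1 (ix j) (List.mem_range.2 (ix_lt j))

theorem A_eq : toM nA = toM xR - toM xiR - toM hR + toM hiR := by
  have h : toM nA + toM xiR + toM hR = toM xR + toM hiR := by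
    refine Matrix.ext fun i j => ?_
    have h := cast_of_mod (all_spec chk_A i j)
    push_cast at h
    exact h
  rw [eq_sub_of_add_eq (eq_sub_of_add_eq h)]
  abel

theorem parse_adj : (toM nA)ᵀ * toM jR = -(toM jR * toM nA) ∧ toM nB * toM nA = toM nBA ∧ toM nA * toM nV = 0 ∧
    toM sR * toM siR = 1 := by
  have h := chk_adj
  simp only [Bool.and_eq_true] at h
  obtain ⟨⟨⟨⟨h1, h2⟩, h3⟩, h4⟩, h5⟩ := h
  have e2 : ((2 : ℕ) : ZMod 3) = -1 := by decide
  refine ⟨?_, ?_, ?_, ?_⟩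
  · rw [trB_spec h1]
    have := eqB_spec good_N h2
    simp only [List.map_cons, List.map_nil, List.prod_cons, List.prod_nil, mul_one, e2, neg_one_smul] at this
    exact this
  · have := eqB_spec good_N h3
    simp only [List.map_cons, List.map_nil, List.prod_cons, List.prod_nil, mul_one, Nat.cast_one, one_smul] at this
    exact this
  · have := eqB_spec good_N h4
    simp only [List.map_cons, List.map_nil, List.prod_cons, List.prod_nil, mul_one, Nat.cast_zero, zero_smul] at this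
    exact this
  · have := eqB_spec good_N h5
    simp only [List.map_cons, List.map_nil, List.prod_cons, List.prod_nil, mul_one, Nat.cast_one, one_smul] at this
    exact this

theorem one_eq : toM nBA + toM nV = 1 := by
  rw [← toM_id]
  refine Matrix.ext fun i j => ?_
  have h := cast_of_mod (all_spec chk_one i j)
  push_cast at h
  exact h

theorem V_zero (i : I12) {j : I12} (hj : j ≠ Sum.inr 5) : toM nV i j = 0 := by
  have h := chk_V
  rw [List.all_eq_true] at h
  have h1 := h (ix i) (List.mem_range.2 (ix_lt i))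
  rw [List.all_eq_true] at h1
  have h2 : ix j < 11 := by
    have h3 := ix_lt j
    have h4 : ix j ≠ 11 := fun h => hj (ix_inj (h.trans (by decide)))
    omega
  have h3 := h1 (ix j) (List.mem_range.2 h2)
  rw [beq_iff_eq] at h3
  unfold toM
  rw [h3, Nat.cast_zero]

section field

variable {F : Type*} [Field F] (f : ZMod 3 →+* F)

theorem map_mulVec (A : Matrix I12 I12 (ZMod 3)) (x : I12 → ZMod 3) :
    f.mapMatrix A *ᵥ (f ∘ x) = f ∘ (A *ᵥ x) := by
  funext i
  simp only [mulVec, dotProduct, Function.comp_apply, map_sum, map_mul, RingHom.mapMatrix_apply, map_apply]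

theorem V_mulVec_map (x : I12 → F) : f.mapMatrix (toM nV) *ᵥ x = x (Sum.inr 5) • (f ∘ col 0) := by
  funext i
  rw [mulVec, dotProduct, Finset.sum_eq_single (Sum.inr 5)]
  · rw [RingHom.mapMatrix_apply, map_apply, chk_col0, Pi.smul_apply, smul_eq_mul, mul_comm]
    rfl
  · intro j _ hj
    rw [RingHom.mapMatrix_apply, map_apply, V_zero i hj, map_zero, zero_mul]
  · intro h
    exact absurd (Finset.mem_univ _) h

theorem spin {W : Submodule F (I12 → F)} (hx : ∀ x ∈ W, f.mapMatrix (toM xR) *ᵥ x ∈ W)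
    (hh : ∀ x ∈ W, f.mapMatrix (toM hR) *ᵥ x ∈ W) (hw : ∀ x ∈ W, f.mapMatrix (toM dR) *ᵥ x ∈ W)
    (hv : f ∘ col 0 ∈ W) : W = ⊤ := by
  have key : ∀ n : ℕ, ∀ hn : n < 12, f ∘ col ⟨n, hn⟩ ∈ W := by
    intro n
    induction n using Nat.strong_induction_on with
    | _ n ih =>
      intro hn
      rcases Nat.eq_zero_or_pos n with rfl | hpos
      · exact hv
      · obtain ⟨j, t, ht, rfl⟩ : ∃ j t : ℕ, t < 3 ∧ n = 3 * j + (t + 1) := ⟨(n - 1) / 3, (n - 1) % 3, by omega, by omega⟩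
        have hj := ih j (by omega) (by omega)
        interval_cases t
        · have h1 : f.mapMatrix (toM xR) *ᵥ (f ∘ col ⟨j, by omega⟩) = f ∘ col ⟨3 * j + 1, hn⟩ := by
            rw [map_mulVec]
            (with_reducible congr 1)
            funext r
            exact (chk_spin ⟨j, by omega⟩ r).1
          have h2 := hx _ hj
          rwa [h1] at h2
        · have h1 : f.mapMatrix (toM hR) *ᵥ (f ∘ col ⟨j, by omega⟩) = f ∘ col ⟨3 * j + 2, hn⟩ := by
            rw [map_mulVec]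
            (with_reducible congr 1)
            funext r
            exact (chk_spin ⟨j, by omega⟩ r).2
          have h2 := hh _ hj
          rwa [h1] at h2
        · have h1 : f.mapMatrix (toM dR) *ᵥ (f ∘ col ⟨j, by omega⟩) = f ∘ col ⟨3 * j + 3, hn⟩ := by
            rw [map_mulVec]
            (with_reducible congr 1)
            funext r
            exact chk_spin' ⟨j, by omega⟩ r
          have h2 := hw _ hj
          rwa [h1] at h2
  -- every vector is a combination of the columns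
  rw [eq_top_iff]
  intro x _
  have h1 : f.mapMatrix (toM sR) * f.mapMatrix (toM siR) = 1 := by rw [← map_mul, parse_adj.2.2.2, map_one]
  have h2 : x = f.mapMatrix (toM sR) *ᵥ (f.mapMatrix (toM siR) *ᵥ x) := by rw [mulVec_mulVec, h1, one_mulVec]
  have h3 : ∀ y : I12 → F, f.mapMatrix (toM sR) *ᵥ y = ∑ k : I12, y k • (f ∘ col (finSumFinEquiv k)) := by
    intro y
    funext i
    rw [Finset.sum_apply]
    simp only [mulVec, dotProduct, Pi.smul_apply, smul_eq_mul, Function.comp_apply, RingHom.mapMatrix_apply, map_apply]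
    refine Finset.sum_congr rfl fun k _ => ?_
    unfold col
    rw [Equiv.symm_apply_apply, mul_comm]
  rw [h2, h3]
  refine W.sum_mem fun k _ => W.smul_mem _ ?_
  exact key _ (finSumFinEquiv k).isLt

end field

end Cfsg.Agent.H1.K3
end

-- part: H1/K3/Core
section
/-!
# `SL₂(25) < 2.Suz < Sp₁₂(3)`: the core (helper1)

* `Q0` : the range of `rep`; `QF f` : its image over `F`;
* `core_QF`, `soc_QF`, `QF_le`.
-/

set_option autoImplicit false
set_option linter.style.haveILetI false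
set_option Elab.async false

namespace Cfsg.Agent.H1.K3

open Matrix Cfsg Cfsg.Geo
open Cfsg.Agent.H915.LD (Core Soc toSoc toSoc_surjective tr)
open Cfsg.Agent.H920.Sz12 (I12 toM G GF WF aR bR cR dR jR G_mem_W map_injective map_mem_scalars soc_map perfect_map
  subfield_eq_top WF_le)
open Cfsg.Agent.Lib.SL2Lift (X hom_X hom_W hom_H hom_mem)

local notation "S25" => SpecialLinearGroup (Fin 2) K25

theorem rep_X (t : K25) : rep (X t) = xe t := hom_X rel t

theorem rep_W : rep Cfsg.Agent.Lib.SL2Lift.W = gw := hom_W rel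

theorem rep_H (a : K25) (ha : a ≠ 0) : rep (Cfsg.Agent.Lib.SL2Lift.H a ha) = he a := hom_H rel a ha

/-- `SL₂(25)` -/
noncomputable def Q0 : Subgroup (GL I12 (ZMod 3)) := rep.range

theorem xe_one : xe 1 = gx := by
  show gx ^ (1 : ZMod 5).val * gz ^ (0 : ZMod 5).val = gx
  rw [show (1 : ZMod 5).val = 1 from rfl, show (0 : ZMod 5).val = 0 from rfl, pow_one, pow_zero, mul_one]

theorem xe_om : xe om = gz := by
  show gx ^ (0 : ZMod 5).val * gz ^ (1 : ZMod 5).val = gz
  rw [show (1 : ZMod 5).val = 1 from rfl, show (0 : ZMod 5).val = 0 from rfl, pow_one, pow_zero, one_mul]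

theorem he_om : he om = gh := by
  have h : lg om = 1 := by
    show lgab 0 1 = 1
    decide
  unfold he
  rw [h, pow_one]

theorem gx_mem : gx ∈ Q0 := ⟨X 1, by rw [rep_X, xe_one]⟩

theorem gw_mem : gw ∈ Q0 := ⟨_, rep_W⟩

theorem om_ne : om ≠ 0 := fun h => absurd (congrArg QuadraticAlgebra.im h) (by decide)

theorem gh_mem : gh ∈ Q0 := ⟨_, (rep_H om om_ne).trans he_om⟩

theorem word_mem (w : List ℕ) (hw : ∀ i ∈ w, i < 7) : (w.map G).prod ∈ Cfsg.Agent.H920.Sz12.W := by
  refine Subgroup.list_prod_mem _ fun g hg => ?_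
  obtain ⟨i, hi, rfl⟩ := List.mem_map.1 hg
  exact G_mem_W (hw i hi)

theorem Q0_le : Q0 ≤ Cfsg.Agent.H920.Sz12.W := by
  have h1 : gx ∈ Cfsg.Agent.H920.Sz12.W := word_mem wx (by decide +kernel)
  have h2 : gh ∈ Cfsg.Agent.H920.Sz12.W := word_mem wh (by decide +kernel)
  have h3 : gz ∈ Cfsg.Agent.H920.Sz12.W :=
    mul_mem (mul_mem (mul_mem (mul_mem h1 h1) h2) h1) (inv_mem h2)
  rintro _ ⟨g, rfl⟩
  refine hom_mem rel _ (fun t => ?_) (fun a _ => ?_) ?_ g
  · exact mul_mem (pow_mem h1 _) (pow_mem h3 _)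
  · exact pow_mem h2 _
  · exact G_mem_W (by norm_num)

theorem card_k25' : 4 ≤ Fintype.card K25 := by rw [card_k25]; norm_num

theorem perfect_Q0 : ⁅Q0, Q0⁆ = Q0 := by
  unfold Q0
  rw [MonoidHom.range_eq_map, ← Subgroup.map_commutator, ← commutator_def,
    Cfsg.Agent.H464.Sl2.commutator_sl2 card_k25']

/-! ### the quotient -/

theorem simple_psl : IsSimpleGroup (ProjectiveSpecialLinearGroup (Fin 2) K25) :=
  Matrix.ProjectiveSpecialLinearGroup.rank_two_simple (by rw [Nat.card_eq_fintype_card]; exact card_k25')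

theorem gx_not_scalar : gx ∉ scalars I12 (ZMod 3) := by
  rintro ⟨c, hc⟩
  have h1 : ∀ i : I12, toM xR i i = c := by
    intro i
    rw [← coe_gx, ← hc]
    simp
  have h2 : toM xR (Sum.inl 0) (Sum.inl 1) = 0 := by
    rw [← coe_gx, ← hc]
    simp
  have h3 : toM xR (Sum.inl 0) (Sum.inl 2) = 0 := by
    rw [← coe_gx, ← hc]
    simp
  have h4 : toM xR (Sum.inl 0) (Sum.inl 3) = 0 := by
    rw [← coe_gx, ← hc]
    simp
  revert h2 h3 h4
  decide +kernel

theorem neg_mem_scalars : (-1 : GL I12 (ZMod 3)) ∈ scalars I12 (ZMod 3) := by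
  refine ⟨-1, ?_⟩
  apply Units.ext
  simp only [_root_.RingHom.toMonoidHom_eq_coe, _root_.Units.map_neg, _root_.map_one, _root_.Units.val_neg, _root_.Units.val_one]

theorem gw_sq : gw * gw = -1 := by
  have h := Cfsg.Agent.H920.Sz12.word_neg (w := [3, 3]) (w' := []) (by decide +kernel)
  simpa only [gw, _root_.List.map_cons, _root_.List.map_nil, _root_.List.prod_cons, _root_.List.prod_nil, _root_.mul_one] using h

/-- the map to the quotient -/
noncomputable def toS : S25 →* Soc Q0 := (toSoc Q0).comp rep.rangeRestrict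

theorem toS_surj : Function.Surjective toS := (toSoc_surjective Q0).comp rep.rangeRestrict_surjective

theorem toS_ker {g : S25} : g ∈ toS.ker ↔ rep g ∈ scalars I12 (ZMod 3) := by
  rw [MonoidHom.mem_ker]
  show toSoc Q0 ⟨rep g, ⟨g, rfl⟩⟩ = 1 ↔ _
  rw [← MonoidHom.mem_ker, Cfsg.Agent.H915.LD.ker_toSoc, Subgroup.mem_subgroupOf]

theorem W_sq : (Cfsg.Agent.Lib.SL2Lift.W : S25) * Cfsg.Agent.Lib.SL2Lift.W = -1 := by
  have h : (!![0, 1; -1, 0] : Matrix (Fin 2) (Fin 2) K25) * (!![0, 1; -1, 0] : Matrix (Fin 2) (Fin 2) K25) = -1 := by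
    refine Matrix.ext fun i j => ?_
    (revert i j; simp only [Matrix.mul_apply, Fin.sum_univ_two, _root_.Fin.forall_fin_succ, _root_.Matrix.of_apply, _root_.Matrix.cons_val', _root_.Matrix.cons_val_fin_one, Fin.isValue, _root_.Matrix.cons_val_zero, _root_.Matrix.cons_val_one, _root_.Matrix.neg_apply, _root_.MulZeroClass.mul_zero, _root_.mul_neg, _root_.mul_one, _root_.zero_add, _root_.neg_inj, _root_.Matrix.cons_val_succ, _root_.add_zero, _root_.IsEmpty.forall_iff, _root_.and_true, _root_.Matrix.one_apply_eq, Nat.reduceAdd, _root_.Fin.succ_zero_eq_one, _root_.ne_eq, _root_.zero_ne_one, _root_.not_false_eq_true, _root_.Matrix.one_apply_ne, _root_.neg_zero, _root_.and_self, _root_.Fin.succ_ne_zero, _root_.true_and])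
  exact Subtype.ext h

theorem rep_neg_one : rep (-1) = -1 := by
  rw [← W_sq, map_mul, rep_W, gw_sq]

theorem ker_toS : toS.ker = Subgroup.center S25 := by
  rcases Cfsg.Agent.S2540.normal_dichotomy (Cfsg.Agent.H464.Sl2.commutator_sl2 card_k25') simple_psl toS.ker with h | h
  · refine le_antisymm h fun g hg => ?_
    rw [Matrix.SpecialLinearGroup.mem_center_iff] at hg
    obtain ⟨r, hr1, hr2⟩ := hg
    rw [Fintype.card_fin, sq, mul_self_eq_one_iff] at hr1
    rw [toS_ker]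
    rcases hr1 with rfl | rfl
    · have : g = 1 := by
        apply Subtype.ext
        rw [← hr2]
        simp
      rw [this, map_one]
      exact one_mem _
    · have : g = -1 := by
        apply Subtype.ext
        rw [← hr2]
        refine Matrix.ext fun i j => ?_
        (revert i j; simp only [Matrix.scalar_apply, _root_.Fin.forall_fin_succ, _root_.Matrix.SpecialLinearGroup.coe_neg, _root_.Matrix.SpecialLinearGroup.coe_one, _root_.Matrix.neg_apply, Fin.isValue, _root_.Fin.succ_zero_eq_one, _root_.IsEmpty.forall_iff, _root_.and_true, _root_.Matrix.diagonal_apply_eq, _root_.Matrix.one_apply_eq, _root_.ne_eq, _root_.zero_ne_one, _root_.not_false_eq_true, _root_.Matrix.diagonal_apply_ne, Nat.reduceAdd, _root_.Matrix.one_apply_ne, _root_.neg_zero, _root_.and_self, _root_.Fin.succ_ne_zero, _root_.true_and])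
      rw [this, rep_neg_one]
      exact neg_mem_scalars
  · exfalso
    have h1 : (X 1 : S25) ∈ toS.ker := by rw [h]; exact Subgroup.mem_top _
    rw [toS_ker, rep_X, xe_one] at h1
    exact gx_not_scalar h1

theorem soc_Q0 : Nonempty (Soc Q0 ≃* ProjectiveSpecialLinearGroup (Fin 2) K25) :=
  ⟨((QuotientGroup.quotientMulEquivOfEq ker_toS).symm.trans
    (QuotientGroup.quotientKerEquivOfSurjective toS toS_surj)).symm⟩

/-! ### over `F` -/

variable {F : Type*} [Field F] (f : ZMod 3 →+* F)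

/-- `SL₂(25)` over `F` -/
noncomputable def QF : Subgroup (GL I12 F) := Q0.map (Matrix.GeneralLinearGroup.map f)

theorem soc_QF : Nonempty (Soc (QF f) ≃* ProjectiveSpecialLinearGroup (Fin 2) K25) := by
  haveI : Nonempty I12 := ⟨Sum.inl 0⟩
  obtain ⟨e⟩ := soc_map f Q0
  obtain ⟨e'⟩ := soc_Q0
  exact ⟨e.symm.trans e'⟩

theorem QF_le : QF f ≤ WF f := Subgroup.map_mono Q0_le

theorem mem_QF {g : GL I12 (ZMod 3)} (hg : g ∈ Q0) : Matrix.GeneralLinearGroup.map f g ∈ QF f :=
  Subgroup.mem_map_of_mem _ hg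

theorem absIrred_QF : ActsAbsolutelyIrreducibly (matrixSet (QF f)) := by
  have hx : f.mapMatrix (toM xR) ∈ matrixSet (QF f) :=
    ⟨_, mem_QF f gx_mem, by rw [← coe_gx]; rfl⟩
  have hxi : f.mapMatrix (toM xiR) ∈ matrixSet (QF f) :=
    ⟨_, mem_QF f (inv_mem gx_mem), by rw [← coe_gx_inv]; rfl⟩
  have hh : f.mapMatrix (toM hR) ∈ matrixSet (QF f) :=
    ⟨_, mem_QF f gh_mem, by rw [← coe_gh]; rfl⟩
  have hhi : f.mapMatrix (toM hiR) ∈ matrixSet (QF f) :=
    ⟨_, mem_QF f (inv_mem gh_mem), by rw [← coe_gh_inv]; rfl⟩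
  have hw : f.mapMatrix (toM dR) ∈ matrixSet (QF f) :=
    ⟨_, mem_QF f gw_mem, by rw [← coe_gw]; rfl⟩
  have hact : ∀ {s : Matrix I12 I12 F} {W : Submodule F (I12 → F)}, s ∈ matrixSet (QF f) →
      (∀ g ∈ QF f, ∀ x ∈ W, (g : Matrix I12 I12 F) *ᵥ x ∈ W) → ∀ x ∈ W, s *ᵥ x ∈ W := by
    rintro s W ⟨g, hg, rfl⟩ hW x hx
    exact hW g hg x hx
  refine absIrr_of_cert (Matrix.J (Fin 6) F) (f.mapMatrix (toM nA)) (f ∘ col 0) (Pi.single (Sum.inr 5) 1) ?_ ?_ ?_ ?_ ?_
    ?_ ?_
  · intro g hg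
    exact Cfsg.Agent.H914.S6.transpose_J (WF_le f (QF_le f hg))
  · intro y hy
    have h1 : Matrix.J (Fin 6) F *ᵥ (Matrix.J (Fin 6) F *ᵥ y) = 0 := by rw [hy, mulVec_zero]
    rw [mulVec_mulVec, Matrix.J_squared, neg_mulVec, one_mulVec, neg_eq_zero] at h1
    exact h1
  · rw [A_eq, map_add, map_sub, map_sub]
    exact Submodule.add_mem _ (Submodule.sub_mem _ (Submodule.sub_mem _ (Submodule.subset_span hx)
      (Submodule.subset_span hxi)) (Submodule.subset_span hh)) (Submodule.subset_span hhi)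
  · have h := congrArg f.mapMatrix parse_adj.1
    rw [Cfsg.Agent.H920.Sz12.J_eq, map_mul, map_neg, map_mul, Cfsg.Agent.H920.Sz12.map_J] at h
    exact h
  · intro x hx
    have h1 : f.mapMatrix (toM nB) * f.mapMatrix (toM nA) + f.mapMatrix (toM nV) = 1 := by
      rw [← map_mul, parse_adj.2.1, ← map_add, one_eq, map_one]
    have h2 : x = (f.mapMatrix (toM nB) * f.mapMatrix (toM nA) + f.mapMatrix (toM nV)) *ᵥ x := by
      rw [h1, one_mulVec]
    rw [add_mulVec, ← mulVec_mulVec, hx, mulVec_zero, zero_add, V_mulVec_map] at h2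
    rw [single_one_dotProduct]
    exact h2
  · have h1 := congrArg f.mapMatrix parse_adj.2.2.1
    rw [map_mul, map_zero] at h1
    have h2 : f.mapMatrix (toM nA) *ᵥ (f.mapMatrix (toM nV) *ᵥ (Pi.single (Sum.inr 5) 1)) = 0 := by
      rw [mulVec_mulVec, h1, zero_mulVec]
    rw [V_mulVec_map, Pi.single_eq_same, one_smul] at h2
    exact h2
  · intro W hW hv
    exact spin f (hact hx hW) (hact hh hW) (hact hw hW) hv

theorem core_QF (hF : Nat.card F = 3) : Core (QF f) := by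
  obtain ⟨e⟩ := soc_QF f
  have h1 := simple_psl
  refine ⟨perfect_map f perfect_Q0, ?_, fun h => ?_, absIrred_QF f, fun K hK => (hK (subfield_eq_top f hF K)).elim⟩
  · haveI := h1
    haveI : Nontrivial (Soc (QF f)) := e.toEquiv.nontrivial
    exact IsSimpleGroup.isSimpleGroup_of_surjective e.symm.toMonoidHom e.symm.surjective
  · -- a commutative quotient of a perfect group is trivial
    have h2 : ∀ a b : ProjectiveSpecialLinearGroup (Fin 2) K25, a * b = b * a := by
      intro a b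
      apply e.symm.injective
      rw [map_mul, map_mul]
      exact h.is_comm.comm _ _
    have h3 := Cfsg.Agent.H464.Sl2.commutator_sl2 card_k25'
    have h4 : commutator (ProjectiveSpecialLinearGroup (Fin 2) K25) = ⊥ := by
      rw [eq_bot_iff, commutator_def, Subgroup.commutator_le]
      intro a _ b _
      rw [Subgroup.mem_bot, commutatorElement_def, h2 a b, mul_inv_cancel_right, mul_inv_cancel]
    have h5 : (commutator S25).map (QuotientGroup.mk' (Subgroup.center S25)) =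
        commutator (ProjectiveSpecialLinearGroup (Fin 2) K25) := by
      rw [commutator_def, Subgroup.map_commutator, ← MonoidHom.range_eq_map,
        MonoidHom.range_eq_top.2 (QuotientGroup.mk'_surjective _)]
      rfl
    rw [h3, h4, ← MonoidHom.range_eq_map, MonoidHom.range_eq_top.2 (QuotientGroup.mk'_surjective _)] at h5
    haveI := h1.toNontrivial
    exact top_ne_bot h5

end Cfsg.Agent.H1.K3
end

-- part: H1/K3/Aut
section
/-!
# `SL₂(25) < 2.Suz < Sp₁₂(3)`: the normaliser (helper1)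

* `exists_sigma` : an element normalising a 12-dimensional `SL₂(25)` induces a field automorphism modulo inner ones;
* `out_two` : the normaliser modulo `P ⊔ scalars` has at most two elements;
* `gt_norm` : the explicit field automorphism.
-/

set_option autoImplicit false
set_option linter.style.haveILetI false

namespace Cfsg.Agent.H1.K3

open Matrix Cfsg Cfsg.Geo
open Cfsg.Agent.H915.LD (Core Soc toSoc toSoc_surjective tr tr_conj tr_mul_comm)
open Cfsg.Agent.H920.Sz12 (I12 toM)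
open Cfsg.Agent.Lib.SL2Lift (X hom_X hom_W hom_H hom_mem)
open Cfsg.Agent.Lib.SL2Mat

local notation "S25" => SpecialLinearGroup (Fin 2) K25

/-- a finite group is normalised by an element which conjugates it into itself -/
noncomputable def conjAut {G : Type*} [Group G] (P : Subgroup G) [Finite P] (a : G) (ha : ∀ x ∈ P, a * x * a⁻¹ ∈ P) :
    MulAut P :=
  MulEquiv.ofBijective
    ({ toFun := fun x => ⟨a * x * a⁻¹, ha x x.2⟩
       map_one' := Subtype.ext (by simp)
       map_mul' := fun x y => Subtype.ext (by simp only [mul_assoc, _root_.Subgroup.coe_mul, _root_.MulMemClass.mk_mul_mk, _root_.inv_mul_cancel_left]) } : P →* P)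
    (Finite.injective_iff_bijective.1 (fun x y h => by
      have h1 := congrArg Subtype.val h
      apply Subtype.ext
      simpa only [_root_.SetLike.coe_eq_coe, _root_.MonoidHom.coe_mk, _root_.OneHom.coe_mk, _root_.mul_left_inj, _root_.mul_right_inj] using h1))

section gl2

variable {K : Type*} [Field K]

/-- the diagonal matrix `(d, 1)` -/
def dg2 (d : K) (hd : d ≠ 0) : GL (Fin 2) K :=
  ⟨!![d, 0; 0, 1], !![d⁻¹, 0; 0, 1], by
    refine Matrix.ext fun i j => ?_
    (revert i j; simp only [Matrix.mul_apply, Fin.sum_univ_two, hd, _root_.Fin.forall_fin_succ, _root_.Matrix.of_apply, _root_.Matrix.cons_val', _root_.Matrix.cons_val_fin_one, Fin.isValue, _root_.Matrix.cons_val_zero, _root_.Matrix.cons_val_one, _root_.MulZeroClass.mul_zero, _root_.add_zero, _root_.Matrix.cons_val_succ, _root_.mul_one, _root_.zero_add, _root_.IsEmpty.forall_iff, _root_.and_true, _root_.ne_eq, _root_.not_false_eq_true, _root_.mul_inv_cancel₀, _root_.Matrix.one_apply_eq,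 Nat.reduceAdd, _root_.Fin.succ_zero_eq_one, _root_.zero_ne_one, _root_.Matrix.one_apply_ne, _root_.and_self, _root_.MulZeroClass.zero_mul, _root_.Fin.succ_ne_zero, _root_.true_and]), by
    refine Matrix.ext fun i j => ?_
    (revert i j; simp only [Matrix.mul_apply, Fin.sum_univ_two, hd, _root_.Fin.forall_fin_succ, _root_.Matrix.of_apply, _root_.Matrix.cons_val', _root_.Matrix.cons_val_fin_one, Fin.isValue, _root_.Matrix.cons_val_zero, _root_.Matrix.cons_val_one, _root_.MulZeroClass.mul_zero, _root_.add_zero, _root_.Matrix.cons_val_succ, _root_.mul_one, _root_.zero_add, _root_.IsEmpty.forall_iff, _root_.and_true, _root_.ne_eq, _root_.not_false_eq_true, _root_.inv_mul_cancel₀, _root_.Matrix.one_apply_eq, Nat.reduceAdd, _root_.Fin.succ_zero_eq_one, _root_.zero_ne_one, _root_.Matrix.one_apply_ne, _root_.and_self, _root_.MulZeroClass.zero_mul, _root_.Fin.succ_ne_zero, _root_.true_and])⟩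

theorem conjGL_dg2 (d : K) (hd : d ≠ 0) (t : K) : conjGL (dg2 d hd) (X t) = X (d * t) := by
  apply Subtype.ext
  rw [conjGL_val]
  show (!![d, 0; 0, 1] : Matrix (Fin 2) (Fin 2) K) * (!![1, t; 0, 1] : Matrix (Fin 2) (Fin 2) K) *
    (!![d⁻¹, 0; 0, 1] : Matrix (Fin 2) (Fin 2) K) = (!![1, d * t; 0, 1] : Matrix (Fin 2) (Fin 2) K)
  refine Matrix.ext fun i j => ?_
  (revert i j; simp only [Matrix.mul_apply, Fin.sum_univ_two, hd, _root_.Fin.forall_fin_succ, _root_.Matrix.cons_mul, _root_.Nat.succ_eq_add_one, Nat.reduceAdd, _root_.Matrix.vecMul_cons, _root_.Matrix.head_cons, _root_.Matrix.smul_cons, _root_.smul_eq_mul, _root_.mul_one, _root_.Matrix.smul_empty, _root_.Matrix.tail_cons, _root_.zero_smul, _root_.Matrix.empty_vecMul, _root_.add_zero, _root_.one_smul, _root_.zero_add, _root_.Matrix.empty_mul, _root_.Equiv.symm_apply_apply, _root_.Matrix.of_apply, _root_.Matrix.cons_val', _root_.Matrix.cons_val_fin_one, Fin.isValue, _root_.Matrix.cons_val_zero,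 _root_.Matrix.cons_val_one, _root_.MulZeroClass.mul_zero, _root_.Matrix.cons_val_succ, _root_.implies_true, _root_.and_true, _root_.ne_eq, _root_.not_false_eq_true, _root_.mul_inv_cancel₀, _root_.MulZeroClass.zero_mul, _root_.and_self])

/-- conjugation of transvections -/
theorem conjGL_X (g : GL (Fin 2) K) : ∃ s : _root_.Matrix.SpecialLinearGroup (Fin 2) K, conjGL g (X 1) = s * X g.1.det * s⁻¹ := by
  have hd : g.1.det ≠ 0 := by
    have h := g.isUnit
    rw [Matrix.isUnit_iff_isUnit_det] at h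
    exact h.ne_zero
  have h1 : (g * (dg2 g.1.det hd)⁻¹).1.det = 1 ^ 2 := by
    have h2 : (dg2 g.1.det hd).1.det = g.1.det := by
      show (!![g.1.det, 0; 0, 1] : Matrix (Fin 2) (Fin 2) K).det = _
      rw [det_fin_two_of]
      ring
    have h3 : (g * (dg2 g.1.det hd)⁻¹).1.det * (dg2 g.1.det hd).1.det = g.1.det := by
      rw [← det_mul, ← Units.val_mul, inv_mul_cancel_right]
    rw [h2] at h3
    rw [one_pow]
    exact mul_right_cancel₀ hd (by rw [h3, one_mul])
  obtain ⟨s, hs⟩ := Cfsg.Agent.Lib.AutSL2Out.conjGL_of_det_sq (g * (dg2 g.1.det hd)⁻¹) 1 one_ne_zero h1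
  refine ⟨s, ?_⟩
  have h4 : conjGL g (X 1) = conjGL (g * (dg2 g.1.det hd)⁻¹) (conjGL (dg2 g.1.det hd) (X 1)) := by
    rw [← MulAut.mul_apply, ← map_mul, inv_mul_cancel_right]
  rw [h4, conjGL_dg2, hs, mul_one]

end gl2

/-! ### automorphisms of the field -/

theorem ringEquiv_natCast (σ : K25 ≃+* K25) (a : ZMod 5) : σ ⟨a, 0⟩ = ⟨a, 0⟩ := by
  have h : (⟨a, 0⟩ : K25) = ((a.val : ℕ) : K25) := by
    ext
    · rw [QuadraticAlgebra.re_natCast, ZMod.natCast_zmod_val]
    · rw [QuadraticAlgebra.im_natCast]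
  rw [h, map_natCast]

theorem om_sq : om ^ 2 = om + 3 := by
  unfold om
  ext <;> simp [sq] <;> decide

theorem sigma_om (σ : K25 ≃+* K25) : σ om = om ∨ σ om = 1 - om := by
  have h1 : σ om ^ 2 = σ om + 3 := by rw [← map_pow, om_sq, map_add, map_ofNat]
  have h2 : (σ om - om) * (σ om - (1 - om)) = 0 := by
    linear_combination h1 - om_sq
  rcases mul_eq_zero.1 h2 with h | h
  · left; exact sub_eq_zero.1 h
  · right; exact sub_eq_zero.1 h

theorem decomp (t : K25) : t = ⟨t.re, 0⟩ + ⟨t.im, 0⟩ * om := by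
  unfold om
  ext <;> simp

theorem sigma_eq {σ τ : K25 ≃+* K25} (h : σ om = τ om) : σ = τ := by
  ext1 t
  rw [decomp t, map_add, map_add, map_mul, map_mul, h, ringEquiv_natCast, ringEquiv_natCast, ringEquiv_natCast,
    ringEquiv_natCast]

theorem sigma_mul {σ τ : K25 ≃+* K25} (hσ : σ ≠ 1) (hτ : τ ≠ 1) : σ * τ = 1 := by
  have h1 : σ om = 1 - om := (sigma_om σ).resolve_left fun h => hσ (sigma_eq h)
  have h2 : τ om = 1 - om := (sigma_om τ).resolve_left fun h => hτ (sigma_eq h)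
  apply sigma_eq
  show σ (τ om) = om
  rw [h2, map_sub, map_one, h1]
  ring

/-! ### the normaliser -/

section norm

variable {F : Type*} [Field F] {ρ : S25 →* GL I12 F}

theorem tr_X_sq (d : K25) (hd : d ≠ 0) (t : K25) : tr (ρ (X (d ^ 2 * t))) = tr (ρ (X t)) := by
  have h1 : (Cfsg.Agent.Lib.SL2Lift.H d hd : S25) * X t * (Cfsg.Agent.Lib.SL2Lift.H d hd)⁻¹ = X (d ^ 2 * t) := by
    rw [mul_inv_eq_iff_eq_mul]
    apply Subtype.ext
    show (!![d, 0; 0, d⁻¹] : Matrix (Fin 2) (Fin 2) K25) * (!![1, t; 0, 1] : Matrix (Fin 2) (Fin 2) K25) =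
      (!![1, d ^ 2 * t; 0, 1] : Matrix (Fin 2) (Fin 2) K25) * (!![d, 0; 0, d⁻¹] : Matrix (Fin 2) (Fin 2) K25)
    refine Matrix.ext fun i j => ?_
    (revert i j; simp only [Matrix.mul_apply, Fin.sum_univ_two, _root_.Fin.forall_fin_succ, _root_.Matrix.of_apply, _root_.Matrix.cons_val', _root_.Matrix.cons_val_fin_one, Fin.isValue, _root_.Matrix.cons_val_zero, _root_.Matrix.cons_val_one, _root_.mul_one, _root_.MulZeroClass.mul_zero, _root_.add_zero, _root_.Matrix.cons_val_succ, _root_.zero_add, _root_.forall_const, _root_.one_mul, _root_.MulZeroClass.zero_mul, _root_.implies_true, _root_.and_true, _root_.true_and]) <;> (repeat' with_reducible apply And.intro)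
    field_simp
  rw [← h1, map_mul, map_mul, map_inv, tr_conj]

theorem sq_or (d : K25) (hd : d ≠ 0) : ∃ c : K25, c ≠ 0 ∧ (d = c ^ 2 ∨ d = c ^ 2 * om) := by
  have h := om_lg hd
  rcases Nat.even_or_odd' (lg d) with ⟨k, hk | hk⟩
  · refine ⟨om ^ k, pow_ne_zero _ om_ne, Or.inl ?_⟩
    rw [← pow_mul, mul_comm k 2, ← hk, h]
  · refine ⟨om ^ k, pow_ne_zero _ om_ne, Or.inr ?_⟩
    rw [← pow_mul, mul_comm k 2, ← pow_succ, ← hk, h]

theorem exists_sigma [Finite F] (hk : ρ.ker ≤ Subgroup.center S25) (ht : tr (ρ (X 1)) ≠ tr (ρ (X om))) {a : GL I12 F}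
    (ha : ∀ x ∈ ρ.range, a * x * a⁻¹ ∈ ρ.range) :
    ∃ (s : S25) (σ : K25 ≃+* K25), ∀ x : S25, a * ρ x * a⁻¹ = ρ (s * fieldAut σ x * s⁻¹) := by
  obtain ⟨g, σ, h⟩ := Cfsg.Agent.Lib.AutSL2.exists_gl_ringEquiv ρ.rangeRestrict ρ.rangeRestrict_surjective
    (by rw [MonoidHom.ker_rangeRestrict]; exact hk) (conjAut ρ.range a ha)
  have h' : ∀ x : S25, a * ρ x * a⁻¹ = ρ (conjGL g (fieldAut σ x)) := fun x => congrArg Subtype.val (h x)
  have hdet : ∃ c : K25, c ≠ 0 ∧ g.1.det = c ^ 2 := by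
    have hd : g.1.det ≠ 0 := by
      have h := g.isUnit
      rw [Matrix.isUnit_iff_isUnit_det] at h
      exact h.ne_zero
    obtain ⟨c, hc, h1 | h1⟩ := sq_or _ hd
    · exact ⟨c, hc, h1⟩
    · exfalso
      apply ht
      have h2 : fieldAut σ (X 1) = X 1 := by
        apply Subtype.ext
        refine Matrix.ext fun i j => ?_
        show σ ((!![1, 1; 0, 1] : Matrix (Fin 2) (Fin 2) K25) i j) = (!![1, 1; 0, 1] : Matrix (Fin 2) (Fin 2) K25) i j
        (revert i j; simp only [_root_.Fin.forall_fin_succ, _root_.Matrix.of_apply, _root_.Matrix.cons_val', _root_.Matrix.cons_val_fin_one, Fin.isValue, _root_.Matrix.cons_val_zero, _root_.Matrix.cons_val_succ, _root_.forall_const, _root_.map_one, _root_.and_self, _root_.map_zero, _root_.implies_true])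
      obtain ⟨s, hs⟩ := conjGL_X g
      have h3 := h' (X 1)
      rw [h2, hs, h1, map_mul, map_mul, map_inv] at h3
      have h4 := congrArg tr h3
      rw [tr_conj, tr_conj, tr_X_sq c hc] at h4
      exact h4
  obtain ⟨c, hc, hd⟩ := hdet
  obtain ⟨s, hs⟩ := Cfsg.Agent.Lib.AutSL2Out.conjGL_of_det_sq g c hc hd
  exact ⟨s, σ, fun x => by rw [h', hs]⟩

theorem mem_sup_of_comm (hirr : ActsAbsolutelyIrreducibly (matrixSet ρ.range)) {a : GL I12 F}
    {s : S25} (h : ∀ x : S25, a * ρ x * a⁻¹ = ρ (s * x * s⁻¹)) : a ∈ ρ.range ⊔ scalars I12 F := by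
  set! b : GL I12 F := (ρ s)⁻¹ * a with hb
  have h1 : ∀ x ∈ ρ.range, b * x = x * b := by
    rintro _ ⟨x, rfl⟩
    have h2 := h x
    rw [map_mul, map_mul, map_inv] at h2
    have h3 : a * ρ x = ρ s * ρ x * (ρ s)⁻¹ * a := by rw [← h2]; group
    rw [hb, mul_assoc, h3]
    group
  obtain ⟨c, hc⟩ := hirr.2 (b : Matrix I12 I12 F) (by
    rintro _ ⟨x, hx, rfl⟩
    exact congrArg Units.val (h1 x hx))
  have hc0 : c ≠ 0 := by
    rintro rfl
    rw [zero_smul] at hc
    exact b.ne_zero hc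
  have hb' : b ∈ scalars I12 F := by
    refine ⟨Units.mk0 c hc0, ?_⟩
    apply Units.ext
    rw [hc]
    refine Matrix.ext fun i j => ?_
    show (Matrix.scalar I12 c) i j = (c • (1 : Matrix I12 I12 F)) i j
    rw [Matrix.scalar_apply, Matrix.smul_apply, Matrix.diagonal_apply, Matrix.one_apply, smul_eq_mul, mul_ite, mul_one,
      mul_zero]
  have h3 : a = ρ s * b := by rw [hb, mul_inv_cancel_left]
  rw [h3]
  exact Subgroup.mul_mem_sup ⟨s, rfl⟩ hb'

theorem out_two [Finite F] (hirr : ActsAbsolutelyIrreducibly (matrixSet ρ.range)) (hk : ρ.ker ≤ Subgroup.center S25)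
    (ht : tr (ρ (X 1)) ≠ tr (ρ (X om))) {a b : GL I12 F} (ha : ∀ x ∈ ρ.range, a * x * a⁻¹ ∈ ρ.range)
    (hb : ∀ x ∈ ρ.range, b * x * b⁻¹ ∈ ρ.range) (ha' : a ∉ ρ.range ⊔ scalars I12 F)
    (hb' : b ∉ ρ.range ⊔ scalars I12 F) : a * b ∈ ρ.range ⊔ scalars I12 F := by
  obtain ⟨s, σ, hs⟩ := exists_sigma hk ht ha
  obtain ⟨s', τ, hs'⟩ := exists_sigma hk ht hb
  have h1 : σ ≠ 1 := by
    rintro rfl
    exact ha' (mem_sup_of_comm hirr (s := s) (fun x => by rw [hs, map_one, MulAut.one_apply]))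
  have h2 : τ ≠ 1 := by
    rintro rfl
    exact hb' (mem_sup_of_comm hirr (s := s') (fun x => by rw [hs', map_one, MulAut.one_apply]))
  refine mem_sup_of_comm hirr (s := s * fieldAut σ s') (fun x => ?_)
  have h3 : a * b * ρ x * (a * b)⁻¹ = a * (b * ρ x * b⁻¹) * a⁻¹ := by group
  have h4 : fieldAut σ (fieldAut τ x) = x := by
    rw [← MulAut.mul_apply, ← map_mul, sigma_mul h1 h2, map_one, MulAut.one_apply]
  have h5 : fieldAut σ (s' * fieldAut τ x * s'⁻¹) = fieldAut σ s' * x * (fieldAut σ s')⁻¹ := by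
    rw [map_mul, map_mul, map_inv, h4]
  have h6 : s * (fieldAut σ s' * x * (fieldAut σ s')⁻¹) * s⁻¹ =
      (s * fieldAut σ s') * x * (s * fieldAut σ s')⁻¹ := by
    rw [_root_.mul_inv_rev]
    simp only [mul_assoc]
  rw [h3, hs', hs, h5, h6]

end norm

/-! ### the explicit field automorphism -/

theorem chk_t : (Cfsg.Agent.H920.Sz12.eqB N1 1 [5, 0] [0, 5] && Cfsg.Agent.H920.Sz12.eqB N1 1 [5, 1] [0, 1, 1, 1, 1, 5] &&
    Cfsg.Agent.H920.Sz12.eqB N1 1 [5, 2] [2, 2, 2, 2, 2, 5] && Cfsg.Agent.H920.Sz12.eqB N1 1 [5, 3] [3, 5]) = true := by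
  decide +kernel

theorem gt_norm {x : GL I12 (ZMod 3)} (hx : x ∈ Q0) : gt * x * gt⁻¹ ∈ Q0 := by
  have h := chk_t
  simp only [Bool.and_eq_true] at h
  obtain ⟨⟨⟨h1, h2⟩, h3⟩, h4⟩ := h
  have e1 : gt * gx * gt⁻¹ = gx := by
    have := eqL h1
    rw [mul_inv_eq_iff_eq_mul]
    simpa only [Lt, _root_.List.map_cons, _root_.List.map_nil, _root_.List.prod_cons, _root_.List.prod_nil, _root_.mul_one] using this
  have e2 : gt * gz * gt⁻¹ = gx * gz * gz * gz * gz := by
    have := eqL h2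
    rw [mul_inv_eq_iff_eq_mul]
    simpa only [Lt, mul_assoc, _root_.List.map_cons, _root_.List.map_nil, _root_.List.prod_cons, _root_.List.prod_nil, _root_.mul_one] using this
  have e3 : gt * gh * gt⁻¹ = gh * gh * gh * gh * gh := by
    have := eqL h3
    rw [mul_inv_eq_iff_eq_mul]
    simpa only [Lt, mul_assoc, _root_.List.map_cons, _root_.List.map_nil, _root_.List.prod_cons, _root_.List.prod_nil, _root_.mul_one] using this
  have e4 : gt * gw * gt⁻¹ = gw := by
    have := eqL h4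
    rw [mul_inv_eq_iff_eq_mul]
    simpa only [Lt, _root_.List.map_cons, _root_.List.map_nil, _root_.List.prod_cons, _root_.List.prod_nil, _root_.mul_one] using this
  have hz : gz ∈ Q0 := ⟨X om, by rw [rep_X, xe_om]⟩
  obtain ⟨g, rfl⟩ := hx
  have key := hom_mem rel (Q0.comap (MulAut.conj gt).toMonoidHom) (fun t => ?_) (fun a _ => ?_) ?_ g
  · exact key
  · show MulAut.conj gt (gx ^ t.re.val * gz ^ t.im.val) ∈ Q0
    rw [map_mul, map_pow, map_pow, MulAut.conj_apply, MulAut.conj_apply, e1, e2]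
    exact mul_mem (pow_mem gx_mem _) (pow_mem (mul_mem (mul_mem (mul_mem (mul_mem gx_mem hz) hz) hz) hz) _)
  · show MulAut.conj gt (gh ^ lg a) ∈ Q0
    rw [map_pow, MulAut.conj_apply, e3]
    exact pow_mem (mul_mem (mul_mem (mul_mem (mul_mem gh_mem gh_mem) gh_mem) gh_mem) gh_mem) _
  · show MulAut.conj gt gw ∈ Q0
    rw [MulAut.conj_apply, e4]
    exact gw_mem

end Cfsg.Agent.H1.K3
end

-- part: H1/K3/Kill
section
/-!
# K3: `SL₂(25)` is not the core of a maximal subgroup of `Sp₁₂(3)` (helper1)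

`k3` : `H` maximal in `spGL 6 F`, `|F| = 3`, `P` a residual core of `H`, `Soc P ≃* PSL₂(K)`, `|K| = 25` ⟹ `False`.
-/

set_option autoImplicit false
set_option linter.style.haveILetI false

namespace Cfsg.Agent.H1.K3

open Matrix Cfsg Cfsg.Geo
open Cfsg.Agent.H915.LD (Core Soc toSoc toSoc_surjective tr tr_conj tr_mul_comm core_of_residual)
open Cfsg.Agent.H920.Sz12 (I12 toM WF jR eqB_spec trB_spec trB eqB map_form sympForm_of map_injective map_mem_scalars
  kill_pair exists_ratio tform)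
open Cfsg.Agent.Lib.SL2Lift (X)

universe u v

local notation "S25" => SpecialLinearGroup (Fin 2) K25

/-! ### the group `PSL₂` of isomorphic fields -/

section psl

variable {A : Type u} {B : Type v} [Field A] [Field B] (e : A ≃+* B)

/-- the isomorphism of the special linear groups -/
def slEquiv : _root_.Matrix.SpecialLinearGroup (Fin 2) A ≃* _root_.Matrix.SpecialLinearGroup (Fin 2) B where
  toFun x := Matrix.SpecialLinearGroup.map e.toRingHom x
  invFun x := Matrix.SpecialLinearGroup.map e.symm.toRingHom x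
  left_inv x := by
    refine Matrix.SpecialLinearGroup.ext _ _ fun i j => ?_
    exact e.symm_apply_apply (x.1 i j)
  right_inv x := by
    refine Matrix.SpecialLinearGroup.ext _ _ fun i j => ?_
    exact e.apply_symm_apply (x.1 i j)
  map_mul' x y := map_mul _ x y

include e in
theorem psl_equiv : Nonempty (ProjectiveSpecialLinearGroup (Fin 2) A ≃* ProjectiveSpecialLinearGroup (Fin 2) B) := by
  refine ⟨QuotientGroup.congr _ _ (slEquiv e) ?_⟩
  ext y
  constructor
  · rintro ⟨x, hx, rfl⟩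
    rw [Subgroup.mem_center_iff]
    intro z
    obtain ⟨w, rfl⟩ := (slEquiv e).surjective z
    show slEquiv e w * slEquiv e x = slEquiv e x * slEquiv e w
    rw [← map_mul, ← map_mul, Subgroup.mem_center_iff.1 hx w]
  · intro hy
    obtain ⟨x, rfl⟩ := (slEquiv e).surjective y
    refine ⟨x, ?_, rfl⟩
    show x ∈ Subgroup.center _
    rw [Subgroup.mem_center_iff]
    intro z
    apply (slEquiv e).injective
    rw [map_mul, map_mul, Subgroup.mem_center_iff.1 hy]

theorem card_psl_le [Finite A] : Nat.card (ProjectiveSpecialLinearGroup (Fin 2) A) ≤ Nat.card A ^ 4 := by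
  have h1 : Nat.card (ProjectiveSpecialLinearGroup (Fin 2) A) ≤ Nat.card (_root_.Matrix.SpecialLinearGroup (Fin 2) A) :=
    Nat.card_le_card_of_surjective _ (QuotientGroup.mk'_surjective (Subgroup.center (_root_.Matrix.SpecialLinearGroup (Fin 2) A)))
  have h2 : Nat.card (_root_.Matrix.SpecialLinearGroup (Fin 2) A) ≤ Nat.card (Fin 2 → Fin 2 → A) :=
    Nat.card_le_card_of_injective (fun x => x.1) Subtype.val_injective
  have h3 : Nat.card (Fin 2 → Fin 2 → A) = Nat.card A ^ 4 := by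
    rw [Nat.card_fun, Nat.card_fun, Nat.card_eq_fintype_card (α := Fin 2), Fintype.card_fin, ← pow_mul]
  omega

end psl

/-! ### traces and the form -/

theorem tr_gx : tr gx = 2 := by
  unfold tr
  rw [coe_gx]
  decide +kernel

theorem tr_gz : tr gz = 0 := by
  unfold tr
  rw [coe_gz]
  decide +kernel

theorem chk_tt : (trB tR tT && eqB N 2 [19, 21, 11] [21]) = true := by decide +kernel

theorem form_t : (toM tR)ᵀ * Matrix.J (Fin 6) (ZMod 3) * toM tR = (-1 : ZMod 3) • Matrix.J (Fin 6) (ZMod 3) := by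
  have h := chk_tt
  rw [Bool.and_eq_true] at h
  have h1 := eqB_spec good_N h.2
  simp only [List.map_cons, List.map_nil, List.prod_cons, List.prod_nil, mul_one] at h1
  have e2 : ((2 : ℕ) : ZMod 3) = -1 := by decide
  rw [trB_spec h.1, ← Cfsg.Agent.H920.Sz12.J_eq, mul_assoc, ← e2]
  exact h1

variable {F : Type u} [Field F] (f : ZMod 3 →+* F)

theorem tr_map (g : GL I12 (ZMod 3)) : tr (Matrix.GeneralLinearGroup.map f g) = f (tr g) := by
  unfold tr
  simp only [Matrix.trace, Matrix.diag_apply, map_sum]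
  rfl

theorem gt_form (u v : I12 → F) : sympForm 6 F ((Matrix.GeneralLinearGroup.map f gt : Matrix I12 I12 F) *ᵥ u)
    ((Matrix.GeneralLinearGroup.map f gt : Matrix I12 I12 F) *ᵥ v) = -sympForm 6 F u v := by
  have h := map_form f form_t
  have h1 := sympForm_of h u v
  rw [map_neg, map_one, neg_one_mul] at h1
  exact h1

theorem gt_norm_QF {x : GL I12 F} (hx : x ∈ QF f) :
    Matrix.GeneralLinearGroup.map f gt * x * (Matrix.GeneralLinearGroup.map f gt)⁻¹ ∈ QF f := by
  obtain ⟨y, hy, rfl⟩ := hx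
  refine ⟨gt * y * gt⁻¹, gt_norm hy, ?_⟩
  rw [map_mul, map_mul, map_inv]

/-- the homomorphism over `F`, conjugated -/
noncomputable def rho (g : GL I12 F) : S25 →* GL I12 F :=
  (MulAut.conj g).toMonoidHom.comp ((Matrix.GeneralLinearGroup.map f).comp rep)

theorem rho_apply (g : GL I12 F) (x : S25) : rho f g x = g * Matrix.GeneralLinearGroup.map f (rep x) * g⁻¹ := rfl

theorem rho_range (g : GL I12 F) : (rho f g).range = (QF f).map (MulAut.conj g).toMonoidHom := by
  unfold rho QF Q0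
  rw [MonoidHom.range_comp, MonoidHom.range_comp]

theorem rho_ker (g : GL I12 F) : (rho f g).ker ≤ Subgroup.center S25 := by
  intro x hx
  rw [MonoidHom.mem_ker, rho_apply, mul_inv_eq_one, mul_eq_left] at hx
  have h1 : rep x = 1 := by
    apply _root_.Cfsg.Agent.H920.Sz12.map_injective f
    rw [hx, map_one]
  rw [← ker_toS, toS_ker, h1]
  exact one_mem _

theorem rho_tr (g : GL I12 F) : tr (rho f g (X 1)) ≠ tr (rho f g (X om)) := by
  rw [rho_apply, rho_apply, tr_conj, tr_conj, tr_map, tr_map, rep_X, rep_X, xe_one, xe_om, tr_gx, tr_gz]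
  intro h
  exact absurd (f.injective h) (by decide)

include f in
/-- **K3**, with a ring homomorphism. -/
theorem k3' (hF : Nat.card F = 3) {H P : Subgroup (GL I12 F)} (hH : IsMaximalIn (spGL 6 F) H)
    (hc : IsResidualCore H P) {K : Type v} [Field K] [Fintype K] (hK : Fintype.card K = 25)
    (e : Soc P ≃* ProjectiveSpecialLinearGroup (Fin 2) K) : False := by
  haveI : Finite F := Nat.finite_of_card_ne_zero (by rw [hF]; norm_num)
  haveI : CharP F 3 := charP_of_injective_ringHom f.injective 3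
  haveI : Fact (Nat.Prime 3) := ⟨by norm_num⟩
  have hPs : P ≤ spGL 6 F := hc.le.trans hH.1.le
  obtain ⟨e1⟩ := soc_QF f
  obtain ⟨e2⟩ := psl_equiv (FiniteField.ringEquivOfCardEq (K := K25) (K' := K) (by rw [card_k25, hK]))
  obtain ⟨g, hg⟩ := Cfsg.Agent.H464.Sl2.half_conj (p := 3) (core_QF f hF) (core_of_residual hc) (K := K)
    (by rw [hK]; norm_num) (by rw [hK]; norm_num) (by rw [hK]; norm_num) (e1.trans e2) e
    (Or.inl (by rw [hK]; rfl))
  have hg' : ∀ x ∈ P, g⁻¹ * x * g ∈ QF f := by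
    intro x hx
    rw [hg] at hx
    obtain ⟨y, hy, rfl⟩ := hx
    show g⁻¹ * (g * y * g⁻¹) * g ∈ QF f
    rwa [show g⁻¹ * (g * y * g⁻¹) * g = y by group]
  have hg'' : ∀ x ∈ P, g⁻¹ * x * g ∈ WF f := fun x hx => QF_le f (hg' x hx)
  obtain ⟨c, hc0, hcf⟩ := exists_ratio f hc.absIrred hPs hg''
  have hr : (rho f g).range = P := by rw [rho_range, hg]
  have hirr : ActsAbsolutelyIrreducibly (matrixSet (rho f g).range) := by rw [hr]; exact hc.absIrred
  refine kill_pair f hF hH hc hg'' (n := g * Matrix.GeneralLinearGroup.map f gt * g⁻¹) ?_ ?_ ?_ ?_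
  · intro a b ha hb ha' hb'
    rw [← hr] at ha hb ha' hb' ⊢
    exact out_two hirr (rho_ker f g) (rho_tr f g) ha hb ha' hb'
  · intro x hx
    rw [hg]
    refine ⟨_, gt_norm_QF f (hg' x hx), ?_⟩
    show g * (Matrix.GeneralLinearGroup.map f gt * (g⁻¹ * x * g) * (Matrix.GeneralLinearGroup.map f gt)⁻¹) * g⁻¹ =
      g * Matrix.GeneralLinearGroup.map f gt * g⁻¹ * x * (g * Matrix.GeneralLinearGroup.map f gt * g⁻¹)⁻¹
    group
  · intro u v
    apply mul_left_cancel₀ hc0
    rw [← hcf, mul_neg, ← hcf]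
    unfold tform
    rw [mulVec_mulVec, mulVec_mulVec, ← Units.val_mul,
      show g⁻¹ * (g * Matrix.GeneralLinearGroup.map f gt * g⁻¹) = Matrix.GeneralLinearGroup.map f gt * g⁻¹ by group,
      Units.val_mul, ← mulVec_mulVec, ← mulVec_mulVec, gt_form]
  · have h1 : Nat.card (Soc P) ≤ 25 ^ 4 := by
      rw [Nat.card_congr e.toEquiv]
      refine card_psl_le.trans ?_
      rw [Nat.card_eq_fintype_card, hK]
    intro h2
    rw [h2] at h1
    norm_num at h1

/-- **K3.** -/
theorem k3 (hF : Nat.card F = 3) {H P : Subgroup (GL I12 F)} (hH : IsMaximalIn (spGL 6 F) H)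
    (hc : IsResidualCore H P) {K : Type v} [Field K] [Fintype K] (hK : Fintype.card K = 25)
    (e : Soc P ≃* ProjectiveSpecialLinearGroup (Fin 2) K) : False := by
  haveI : Finite F := Nat.finite_of_card_ne_zero (by rw [hF]; norm_num)
  haveI : Fact (Nat.Prime 3) := ⟨by norm_num⟩
  letI := Fintype.ofFinite F
  haveI : CharP F 3 := charP_of_card_eq_prime (by rw [← Nat.card_eq_fintype_card]; exact hF)
  exact k3' (ZMod.castHom dvd_rfl F) hF hH hc hK e

end Cfsg.Agent.H1.K3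
end

-- part: H922/S12/L2
section
/-!
# S5869: `L₂(q)` and `PSp₄(5)`, cross characteristic (helper922)
-/

set_option autoImplicit false
set_option linter.unusedSectionVars false

namespace Cfsg.Agent.H922.S12

open Cfsg Cfsg.Geo Matrix Cfsg.Agent.H915.LD Cfsg.Agent.H464.Sl2

universe u

variable {F : Type u} [Field F] [Fintype F] {p : ℕ} {H P : Subgroup (GL (Fin 6 ⊕ Fin 6) F)}

theorem mod20 (h2 : p % 2 = 1) (h : p % 5 = 1 ∨ p % 5 = 4) :
    p % 20 = 9 ∨ p % 20 = 11 ∨ p % 20 = 1 ∨ p % 20 = 19 := by (solve | lia | omega)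

theorem mod28 (h2 : p % 2 = 1) (h : p % 7 = 1 ∨ p % 7 = 6) :
    p % 28 = 13 ∨ p % 28 = 15 ∨ p % 28 = 1 ∨ p % 28 = 27 := by (solve | lia | omega)

theorem odd_of (hp : p.Prime) (h2 : p ≠ 2) : p % 2 = 1 := by
  rcases hp.eq_two_or_odd with h | h
  · exact absurd h h2
  · exact h

/-- **`L₂(11)`** -/
theorem row_eleven (h : Cx p H P) {K : Type} [Field K] [Fintype K] (hK : Fintype.card K = 11)
    (hp11 : p ≠ 11) (e : Soc P ≃* ProjectiveSpecialLinearGroup (Fin 2) K) : Concl P p := by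
  have hpF := Fact.mk h.prime
  have := h.char
  have hC := h.core
  have he : Nonempty (Soc P ≃* ProjectiveSpecialLinearGroup (Fin 2) (ZMod 11)) :=
    H912.Five.psl_zmod (by norm_num) ⟨K, inferInstance, inferInstance, hK, ⟨e⟩⟩
  obtain ⟨hp5, -, hF⟩ := l2_11_12 p hC hK hp11 e card12
  have hp2 : p ≠ 2 := by
    rintro rfl
    exact h.hQ (l2_fixQ_two hC (by rw [hK]; norm_num) (by rw [hK]; norm_num) (by rw [hK]; decide) e
      (Or.inr (by rw [hK, card12])))
  refine Or.inl ⟨he, ?_⟩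
  rcases hF with ⟨hF, h1⟩ | ⟨hF, h1⟩
  · exact Or.inl ⟨hF, hp11, mod20 (odd_of h.prime hp2) h1⟩
  · exact Or.inr ⟨hF, hp2, h1⟩

/-- **`L₂(13)`** -/
theorem row_thirteen (h : Cx p H P) {K : Type} [Field K] [Fintype K] (hK : Fintype.card K = 13)
    (hp13 : p ≠ 13) (e : Soc P ≃* ProjectiveSpecialLinearGroup (Fin 2) K) : Concl P p := by
  have hpF := Fact.mk h.prime
  have := h.char
  have hC := h.core
  have he : Nonempty (Soc P ≃* ProjectiveSpecialLinearGroup (Fin 2) (ZMod 13)) :=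
    H912.Five.psl_zmod (by norm_num) ⟨K, inferInstance, inferInstance, hK, ⟨e⟩⟩
  obtain ⟨hbot, hF⟩ := l2_13_12 p hC hK hp13 e card12
  have hp2 : p ≠ 2 := by
    rintro rfl
    exact h.hQ (l2_fixQ_two hC (by rw [hK]; norm_num) (by rw [hK]; norm_num) (by rw [hK]; decide) e
      (Or.inl (by rw [hK, card12])))
  have hpK : ¬ p ∣ Fintype.card K := by
    rw [hK]
    intro hd
    exact hp13 ((Nat.prime_dvd_prime_iff_eq h.prime (by norm_num)).1 hd)
  have hne : (scalars (Fin 6 ⊕ Fin 6) F).subgroupOf P ≠ ⊥ := fun hb =>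
    ((H830.Sl2Form.l2_type p hp2 hC (by rw [hK]; norm_num) (by rw [hK]; norm_num) hpK e).1 hb).1 h.fixA
  have hp7 := (hbot hne).2
  refine Or.inr (Or.inl ⟨he, ?_⟩)
  rcases hF with ⟨hF, h1⟩ | ⟨hF, h1⟩
  · exact Or.inl ⟨hF, hp13, mod28 (odd_of h.prime hp2) (by itauto)⟩
  · exact Or.inr ⟨hF, hp2, by itauto⟩

/-- **`L₂(25)`** -/
theorem row_twentyfive (h : Cx p H P) {K : Type} [Field K] [Fintype K] (hK : Fintype.card K = 25)
    (hp5 : p ≠ 5) (e : Soc P ≃* ProjectiveSpecialLinearGroup (Fin 2) K) : Concl P p := by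
  have hpF := Fact.mk h.prime
  have := h.char
  have hC := h.core
  obtain ⟨-, -, hF⟩ := l2_25_12 p hC hK hp5 e card12
  refine Or.inr (Or.inr (Or.inl ⟨⟨K, inferInstance, inferInstance, hK, ⟨e⟩⟩, hF, ?_, ?_⟩))
  · rintro rfl
    exact H1.K3.k3 (by rw [Nat.card_eq_fintype_card, hF]) h.hH h.hc hK e
  · have h5 : p % 5 ≠ 0 := fun h0 =>
      hp5 ((Nat.prime_dvd_prime_iff_eq (by norm_num) h.prime).1 (Nat.dvd_of_mod_eq_zero h0)).symm
    by_contra hcon
    exact H434.K2.not_maximal p h.hH h.hc hK e (by omega)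

/-- **`L₂(q)`, `p ∤ q`** -/
theorem row_l2 (h : Cx p H P) {K : Type} [Field K] [Fintype K] (h5 : 5 ≤ Fintype.card K)
    (h9 : Fintype.card K ≠ 9) (hpK : ¬ p ∣ Fintype.card K) (e : Soc P ≃* ProjectiveSpecialLinearGroup (Fin 2) K) :
    Concl P p := by
  have hpF := Fact.mk h.prime
  have := h.char
  have hC := h.core
  have hd := l2_degrees p hC h5 h9 hpK e card12.le
  simp only [card12] at hd
  rcases hd with ⟨hK, hd⟩ | ⟨hK, hd⟩ | ⟨hK, hd⟩ | ⟨hK, hd⟩ | ⟨hK, hd⟩ | ⟨hK, hd⟩ | ⟨hK, hd⟩ | ⟨hK, hd⟩ | ⟨hK, hd⟩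
  · exact absurd hd (by decide)
  · exact absurd hd (by decide)
  · exact absurd hd (by decide)
  · refine row_eleven h hK ?_ e
    rintro rfl
    exact hpK (by rw [hK])
  · refine row_thirteen h hK ?_ e
    rintro rfl
    exact hpK (by rw [hK])
  · exact absurd hd (by decide)
  · exact absurd hd (by decide)
  · have hp23 : p ≠ 23 := by
      rintro rfl
      exact hpK (by rw [hK])
    exact absurd h.sd (l2_23_12 p hC hK hp23 e card12).2.1
  · refine row_twentyfive h hK ?_ e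
    rintro rfl
    exact hpK (by rw [hK]; norm_num)

/-- **`PSp₄(5)`** -/
theorem row_s45 (h : Cx p H P) (hp5 : p ≠ 5) (hT : H912.Bd.IsS 2 5 (Soc P)) : Concl P p := by
  have hpF := Fact.mk h.prime
  have := h.char
  refine Or.inr (Or.inr (Or.inr (Or.inl ⟨hT, ?_⟩)))
  rcases H434.PSp45.card_cases p h.core hT hp5 card12 with ⟨h1, h2, -⟩ | ⟨h1, h2, -⟩
  · exact Or.inl ⟨h2, h1⟩
  · exact Or.inr ⟨h2, h1⟩

end Cfsg.Agent.H922.S12
end

-- part: H931/K1F16
section
/-!
# The field with sixteen elements over `F4` and the linear bijection `F16³ → F4⁶` (helper931)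
-/

set_option autoImplicit false

namespace Cfsg.Agent.H931.K1F16

open Cfsg.Agent.SporRec.GF4 Cfsg.Agent.StdG24.Mod6

/-- `F4[t] / (t² + t + w)` -/
@[ext] structure F16 where
  /-- the first coordinate -/
  a : F4
  /-- the second coordinate -/
  b : F4
deriving DecidableEq

namespace F16

instance : Fintype F16 :=
  Fintype.ofEquiv (F4 × F4) ⟨fun p => ⟨p.1, p.2⟩, fun x => (x.a, x.b), fun _ => rfl, fun _ => rfl⟩

/-- multiplication -/
def mul' (x y : F16) : F16 := ⟨x.a * y.a + F4.w * (x.b * y.b), x.a * y.b + x.b * y.a + x.b * y.b⟩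

instance : Zero F16 := ⟨⟨0, 0⟩⟩
instance : One F16 := ⟨⟨1, 0⟩⟩
instance : Add F16 := ⟨fun x y => ⟨x.a + y.a, x.b + y.b⟩⟩
instance : Neg F16 := ⟨fun x => ⟨-x.a, -x.b⟩⟩
instance : Mul F16 := ⟨mul'⟩

instance instCommRing : CommRing F16 where
  nsmul := nsmulRec
  zsmul := zsmulRec
  add_assoc x y z := by
    apply F16.ext
    · exact add_assoc x.a y.a z.a
    · exact add_assoc x.b y.b z.b
  zero_add x := by
    apply F16.ext
    · exact zero_add x.a
    · exact zero_add x.b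
  add_zero x := by
    apply F16.ext
    · exact add_zero x.a
    · exact add_zero x.b
  neg_add_cancel x := by
    apply F16.ext
    · exact neg_add_cancel x.a
    · exact neg_add_cancel x.b
  add_comm x y := by
    apply F16.ext
    · exact add_comm x.a y.a
    · exact add_comm x.b y.b
  left_distrib x y z := by
    apply F16.ext
    · show x.a * (y.a + z.a) + F4.w * (x.b * (y.b + z.b)) =
        (x.a * y.a + F4.w * (x.b * y.b)) + (x.a * z.a + F4.w * (x.b * z.b))
      ring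
    · show x.a * (y.b + z.b) + x.b * (y.a + z.a) + x.b * (y.b + z.b) =
        (x.a * y.b + x.b * y.a + x.b * y.b) + (x.a * z.b + x.b * z.a + x.b * z.b)
      ring
  right_distrib x y z := by
    apply F16.ext
    · show (x.a + y.a) * z.a + F4.w * ((x.b + y.b) * z.b) =
        (x.a * z.a + F4.w * (x.b * z.b)) + (y.a * z.a + F4.w * (y.b * z.b))
      ring
    · show (x.a + y.a) * z.b + (x.b + y.b) * z.a + (x.b + y.b) * z.b =
        (x.a * z.b + x.b * z.a + x.b * z.b) + (y.a * z.b + y.b * z.a + y.b * z.b)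
      ring
  zero_mul x := by
    apply F16.ext
    · show (0 : F4) * x.a + F4.w * (0 * x.b) = 0
      ring
    · show (0 : F4) * x.b + 0 * x.a + 0 * x.b = 0
      ring
  mul_zero x := by
    apply F16.ext
    · show x.a * (0 : F4) + F4.w * (x.b * 0) = 0
      ring
    · show x.a * (0 : F4) + x.b * 0 + x.b * 0 = 0
      ring
  mul_assoc x y z := by
    apply F16.ext
    · show (x.a * y.a + F4.w * (x.b * y.b)) * z.a + F4.w * ((x.a * y.b + x.b * y.a + x.b * y.b) * z.b) =
        x.a * (y.a * z.a + F4.w * (y.b * z.b)) + F4.w * (x.b * (y.a * z.b + y.b * z.a + y.b * z.b))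
      ring
    · show (x.a * y.a + F4.w * (x.b * y.b)) * z.b + (x.a * y.b + x.b * y.a + x.b * y.b) * z.a +
        (x.a * y.b + x.b * y.a + x.b * y.b) * z.b =
        x.a * (y.a * z.b + y.b * z.a + y.b * z.b) + x.b * (y.a * z.a + F4.w * (y.b * z.b)) +
          x.b * (y.a * z.b + y.b * z.a + y.b * z.b)
      ring
  one_mul x := by
    apply F16.ext
    · show (1 : F4) * x.a + F4.w * (0 * x.b) = x.a
      ring
    · show (1 : F4) * x.b + 0 * x.a + 0 * x.b = x.b
      ring
  mul_one x := by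
    apply F16.ext
    · show x.a * (1 : F4) + F4.w * (x.b * 0) = x.a
      ring
    · show x.a * (0 : F4) + x.b * 1 + x.b * 0 = x.b
      ring
  mul_comm x y := by
    apply F16.ext
    · show x.a * y.a + F4.w * (x.b * y.b) = y.a * x.a + F4.w * (y.b * x.b)
      ring
    · show x.a * y.b + x.b * y.a + x.b * y.b = y.a * x.b + y.b * x.a + y.b * x.b
      ring

theorem mul_a (x y : F16) : (x * y).a = x.a * y.a + F4.w * (x.b * y.b) := rfl
theorem mul_b (x y : F16) : (x * y).b = x.a * y.b + x.b * y.a + x.b * y.b := rfl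

/-- inverses -/
def inv' (x : F16) : F16 :=
  let n := (x.a * x.a + x.a * x.b + F4.w * (x.b * x.b))⁻¹
  ⟨n * (x.a + x.b), n * x.b⟩

instance instField : Field F16 where
  inv := inv'
  exists_pair_ne := ⟨0, 1, by decide⟩
  mul_inv_cancel := by decide +kernel
  inv_zero := by decide
  nnqsmul := _
  nnqsmul_def := fun _ _ => rfl
  qsmul := _
  qsmul_def := fun _ _ => rfl

theorem card : Fintype.card F16 = 16 := rfl

instance instAlgebra : Algebra F4 F16 := RingHom.toAlgebra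
  { toFun := fun a => ⟨a, 0⟩
    map_one' := rfl
    map_zero' := rfl
    map_add' := fun _ _ => rfl
    map_mul' := by decide }

theorem smul_a (c : F4) (x : F16) : (c • x).a = c * x.a := by
  show ((⟨c, 0⟩ : F16) * x).a = _
  rw [mul_a]; simp

theorem smul_b (c : F4) (x : F16) : (c • x).b = c * x.b := by
  show ((⟨c, 0⟩ : F16) * x).b = _
  rw [mul_b]; simp

/-- the Frobenius automorphism `x ↦ x²` -/
def fr : F16 ≃+* F16 where
  toFun x := x * x
  invFun x := (x * x) * (x * x) * ((x * x) * (x * x))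
  left_inv := by decide +kernel
  right_inv := by decide +kernel
  map_mul' := by decide +kernel
  map_add' := by decide +kernel

end F16

/-! ### The bijection -/

open F4 (z o w v)

/-- the matrix of the basis -/
def S0 : Mat := ![![z, z, z, v, o, z], ![z, z, o, w, o, v], ![o, o, z, z, z, z], ![z, o, z, z, z, z], ![z, z, o, v, o, v], ![z, z, z, o, z, o]]

/-- its inverse -/
def S1 : Mat := ![![z, z, o, o, z, z], ![z, z, z, o, z, z], ![o, v, z, z, w, v], ![z, o, z, z, o, z], ![o, v, z, z, v, z], ![z, o, z, z, o, o]]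

theorem S01 : S0 * S1 = 1 := by decide +kernel
theorem S10 : S1 * S0 = 1 := by decide +kernel

/-- coordinates over `F4` -/
def flat (u : Fin 3 → F16) : Vec := ![(u 0).a, (u 0).b, (u 1).a, (u 1).b, (u 2).a, (u 2).b]

/-- the inverse of `flat` -/
def unflat (x : Vec) : Fin 3 → F16 := ![⟨x 0, x 1⟩, ⟨x 2, x 3⟩, ⟨x 4, x 5⟩]

/-- `F16³ → F4⁶` -/
def S : (Fin 3 → F16) ≃ₗ[F4] Vec where
  toFun u := S0.mulVec (flat u)
  invFun x := unflat (S1.mulVec x)
  map_add' u u' := by
    rw [← Matrix.mulVec_add]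
    congr 1
    funext i
    fin_cases i <;> rfl
  map_smul' c u := by
    rw [RingHom.id_apply, ← Matrix.mulVec_smul]
    congr 1
    funext i
    fin_cases i
    · exact F16.smul_a c _
    · exact F16.smul_b c _
    · exact F16.smul_a c _
    · exact F16.smul_b c _
    · exact F16.smul_a c _
    · exact F16.smul_b c _
  left_inv u := by
    show unflat (S1.mulVec (S0.mulVec (flat u))) = u
    rw [Matrix.mulVec_mulVec, S10, Matrix.one_mulVec]
    funext i
    fin_cases i <;> rfl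
  right_inv x := by
    show S0.mulVec (flat (unflat (S1.mulVec x))) = x
    have h : flat (unflat (S1.mulVec x)) = S1.mulVec x := by
      funext i
      fin_cases i <;> rfl
    rw [h, Matrix.mulVec_mulVec, S01, Matrix.one_mulVec]

end Cfsg.Agent.H931.K1F16
end

-- part: H931/K1Psi
section
/-!
# The homomorphism from the six-dimensional `G₂(4)` to `Co₁` (helper931)
-/

set_option autoImplicit false

namespace Cfsg.Agent.H931.K1Psi

open Cfsg Cfsg.Agent.SporRec Cfsg.Agent.SporRec.GF4 Cfsg.Agent.StdG24 Cfsg.Agent.StdG24.Mod6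
  Cfsg.Agent.StdG24.Ord6 Cfsg.Agent.CoOneType.CoEval Cfsg.Agent.SporadicStructure.Co0Matrix
open Cfsg.Agent.SporRec.G24Match (wx)

/-- Six elements satisfying the relators: a homomorphism from the six-dimensional `G₂(4)`. -/
theorem exists_hom {G : Type*} [Group G] (x : Fin 6 → G) (hx : ∀ w ∈ G24Rel.R6, (w.map x).prod = 1) :
    ∃ ψ : L →* G, ∀ i, ψ ⟨B i, B_mem i⟩ = x i := by
  classical
  obtain ⟨hfin, hcard⟩ := G24Upper.card_closure_le (fun i => (B i, x i)) (fun w hw => by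
    rw [Cfsg.Agent.S1679.prod_pair, B_rel w hw, hx w hw]; rfl)
  set D := Subgroup.closure (Set.range fun i => (B i, x i)) with hD
  have e1 : D.map (MonoidHom.fst _ G) = L := by
    rw [hD, MonoidHom.map_closure, ← Set.range_comp]; exact closure_B
  let f1 : D →* L := ((MonoidHom.fst _ G).comp D.subtype).codRestrict L
    (fun d => by rw [← e1]; exact ⟨d, d.2, rfl⟩)
  have s1 : Function.Surjective f1 := by
    rintro ⟨g, hg⟩
    rw [← e1] at hg
    obtain ⟨d, hd, rfl⟩ := hg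
    exact ⟨⟨d, hd⟩, rfl⟩
  have b1 : Function.Bijective f1 := by
    refine (Nat.bijective_iff_surjective_and_card f1).2 ⟨s1, le_antisymm ?_ ?_⟩
    · exact hcard.trans card_L.ge
    · exact Nat.card_le_card_of_surjective f1 s1
  refine ⟨((MonoidHom.snd _ G).comp D.subtype).comp (MulEquiv.ofBijective f1 b1).symm.toMonoidHom, fun i => ?_⟩
  set! d : D := ⟨(B i, x i), Subgroup.subset_closure ⟨i, rfl⟩⟩ with hd
  have h1 : (MulEquiv.ofBijective f1 b1) d = ⟨B i, B_mem i⟩ := rfl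
  have h2 : (MulEquiv.ofBijective f1 b1).symm ⟨B i, B_mem i⟩ = d := by
    rw [← h1, MulEquiv.symm_apply_apply]
  show ((((MulEquiv.ofBijective f1 b1).symm ⟨B i, B_mem i⟩ : D) : GL6 × G)).2 = x i
  rw [h2]

/-- two homomorphisms from `L` agreeing on the letters -/
theorem hom_ext {G : Type*} [Group G] {α β : L →* G} (h : ∀ i, α ⟨B i, B_mem i⟩ = β ⟨B i, B_mem i⟩) : α = β := by
  have h1 : ∀ g : GL6, ∀ hg : g ∈ Subgroup.closure (Set.range B), ∀ hg' : g ∈ L, α ⟨g, hg'⟩ = β ⟨g, hg'⟩ := by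
    intro g hg
    induction hg using Subgroup.closure_induction with
    | mem g hg =>
      obtain ⟨i, rfl⟩ := hg
      intro hg'
      exact h i
    | one => intro hg'; exact (map_one α).trans (map_one β).symm
    | mul a b ha hb iha ihb =>
      intro hg'
      rw [closure_B] at ha hb
      have e1 : (⟨a * b, hg'⟩ : L) = ⟨a, ha⟩ * ⟨b, hb⟩ := rfl
      rw [e1, map_mul, map_mul, iha, ihb]
    | inv a ha iha =>
      intro hg'
      rw [closure_B] at ha
      have e1 : (⟨a⁻¹, hg'⟩ : L) = ⟨a, ha⟩⁻¹ := rfl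
      rw [e1, map_inv, map_inv, iha]
  ext ⟨g, hg⟩
  exact h1 g (by rw [closure_B]; exact hg) hg

/-- the value of a word in the letters -/
theorem map_prod_B {G : Type*} [Group G] (α : L →* G) (w : List (Fin 6)) (hw : (w.map B).prod ∈ L) :
    α ⟨(w.map B).prod, hw⟩ = (w.map fun i => α ⟨B i, B_mem i⟩).prod := by
  induction w with
  | nil => exact map_one α
  | cons i w ih =>
    have h1 : (w.map B).prod ∈ L := by
      refine Subgroup.list_prod_mem _ ?_
      intro x hx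
      obtain ⟨j, -, rfl⟩ := List.mem_map.1 hx
      exact B_mem j
    have e1 : (⟨((i :: w).map B).prod, hw⟩ : L) = ⟨B i, B_mem i⟩ * ⟨(w.map B).prod, h1⟩ := rfl
    rw [e1, map_mul, ih h1, List.map_cons, List.prod_cons]

/-! ### The Frobenius map of `GL₆(4)` -/

/-- the Frobenius map of the field with four elements -/
def fr : F4 →+* F4 where
  toFun x := x * x
  map_one' := rfl
  map_mul' := by decide
  map_zero' := rfl
  map_add' := by decide

theorem fr_fr (x : F4) : fr (fr x) = x := by revert x; decide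

/-- the entrywise Frobenius map -/
def sg : GL6 →* GL6 := Matrix.GeneralLinearGroup.map fr

/-- the action of the Frobenius map on the parameters -/
def sw : Fin 3 → Fin 3
  | 0 => 0
  | 1 => 2
  | 2 => 1

private noncomputable def _root_.Cfsg.Agent.LsF.f37324c_10 : {f // @Cfsg.Agent.StdG24.Mod6.dec = f} := ⟨_, by first | (delta Cfsg.Agent.StdG24.Mod6.dec; rewrite [Cfsg.Agent.LsF.nadd_pat, Cfsg.Agent.LsF.nmul_pat, Cfsg.Agent.LsF.testBit_eq]; exact rfl) | exact rfl⟩
private noncomputable def _root_.Cfsg.Agent.LsF.f37324c_11 : {f // @Cfsg.Agent.StdG24.Mod6.matOf = f} := ⟨_, by first | (delta Cfsg.Agent.StdG24.Mod6.matOf; rewrite [Cfsg.Agent.LsF.f37324c_10.2, Cfsg.Agent.LsF.nmul_pat, Cfsg.Agent.LsF.getD_eq]; exact rfl) | exact rfl⟩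
private noncomputable def _root_.Cfsg.Agent.LsF.f37324c_12 : {f // @Cfsg.Agent.StdG24.Mod6.xc = f} := ⟨_, by first | (delta Cfsg.Agent.StdG24.Mod6.xc; rewrite [Cfsg.Agent.LsF.nadd_pat, Cfsg.Agent.LsF.nmul_pat, Cfsg.Agent.LsF.getD_eq]; exact rfl) | exact rfl⟩
theorem sg_gx : ∀ (r : Fin 12) (t : Fin 3), (matOf (xc r t)).map fr = matOf (xc r (sw t)) := by
  (refine of_decide_eq_true ?_; (try (rewrite [Cfsg.Agent.LsF.f37324c_11.2, Cfsg.Agent.LsF.f37324c_12.2, Cfsg.Agent.LsF.finFintype_eq, Cfsg.Agent.LsF.dMat_eq, Cfsg.Agent.LsF.dForallFin_eq, Cfsg.Agent.LsF.decide_eq])); decide +kernel)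

theorem sg_gx' (r : Fin 12) (t : Fin 3) : sg (gx r t) = gx r (sw t) := Units.ext (sg_gx r t)

theorem sg_ev (w : Wd) : sg (ev w) = ev (w.map fun p => (p.1, sw p.2)) := by
  unfold ev
  rw [map_list_prod, List.map_map, List.map_map]
  congr 1
  apply List.map_congr_left
  intro p _
  exact sg_gx' _ _

theorem sg_mem {g : GL6} (hg : g ∈ L) : sg g ∈ L := by
  obtain ⟨w, rfl⟩ := exists_ev hg
  rw [sg_ev]
  exact ev_mem _

/-! ### The element `g0` -/

/-- the element `g0` -/
def g0w : Wd := [(11, 2), (7, 2)]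

/-- the automorphism `g ↦ g0 σ(g) g0⁻¹` -/
def tau : L →* L where
  toFun g := ⟨ev g0w * sg g * (ev g0w)⁻¹, L.mul_mem (L.mul_mem (ev_mem _) (sg_mem g.2)) (L.inv_mem (ev_mem _))⟩
  map_one' := by
    apply Subtype.ext
    show ev g0w * sg 1 * (ev g0w)⁻¹ = 1
    rw [map_one, mul_one, mul_inv_cancel]
  map_mul' := by
    intro a b
    apply Subtype.ext
    show ev g0w * sg (a * b) * (ev g0w)⁻¹ = ev g0w * sg a * (ev g0w)⁻¹ * (ev g0w * sg b * (ev g0w)⁻¹)
    rw [map_mul]; group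

theorem tau_coe (g : L) : (tau g : GL6) = ev g0w * sg g * (ev g0w)⁻¹ := rfl

private noncomputable def _root_.Cfsg.Agent.LsF.f37324c_13 : {f // @Cfsg.Agent.SporRec.G24Code.app = f} := ⟨_, by first | (delta Cfsg.Agent.SporRec.G24Code.app List.brecOn List.brecOn.go Cfsg.Agent.SporRec.G24Code.app._f; rewrite [Cfsg.Agent.LsF.nmul_pat, Cfsg.Agent.LsF.ndiv_pat, Cfsg.Agent.LsF.nmod_pat, Cfsg.Agent.LsF.nxor_pat]; (try delta Cfsg.Agent.SporRec.G24Code.app.match_1); (try delta List.casesOn); first | dsimp -zeta only | exact rfl) | exact rfl⟩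
private noncomputable def _root_.Cfsg.Agent.LsF.f37324c_14 : {f // @Cfsg.Agent.StdG24.Mod6.mulC = f} := ⟨_, by first | (delta Cfsg.Agent.StdG24.Mod6.mulC; rewrite [Cfsg.Agent.LsF.f37324c_13.2, Cfsg.Agent.LsF.map_eq]; exact rfl) | exact rfl⟩
private noncomputable def _root_.Cfsg.Agent.LsF.f37324c_15 : {f // @Cfsg.Agent.StdG24.Mod6.cw = f} := ⟨_, by first | (delta Cfsg.Agent.StdG24.Mod6.cw; rewrite [Cfsg.Agent.LsF.f37324c_14.2, Cfsg.Agent.LsF.f37324c_12.2, Cfsg.Agent.LsF.foldr_eq]; exact rfl) | exact rfl⟩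
theorem aw_chk : ∀ i : Fin 6, cw (g0w ++ (bw i).map (fun p => (p.1, sw p.2)) ++ g0w.reverse) =
    cw ((K1Co.aw i).flatMap bw) := by (refine of_decide_eq_true ?_; (try (rewrite [Cfsg.Agent.LsF.f37324c_15.2, Cfsg.Agent.LsF.lappend_pat, Cfsg.Agent.LsF.instDecEq_eq, Cfsg.Agent.LsF.map_eq, Cfsg.Agent.LsF.flatMap_eq, Cfsg.Agent.LsF.reverse_eq, Cfsg.Agent.LsF.dListEq_eq, Cfsg.Agent.LsF.dForallFin_eq, Cfsg.Agent.LsF.decide_eq])); decide +kernel)

theorem tau_B (i : Fin 6) : (tau ⟨B i, B_mem i⟩ : GL6) = ((K1Co.aw i).map B).prod := by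
  rw [tau_coe, prod_B]
  show ev g0w * sg (ev (bw i)) * (ev g0w)⁻¹ = _
  rw [sg_ev, ← ev_reverse, ← ev_append, ← ev_append]
  exact ev_eq_of (aw_chk i)

/-! ### The homomorphism -/

/-- the letters in `Co₁` -/
noncomputable def cl (i : Fin 6) : Spor.Co1 := pr (K1Co.e i.val)

theorem cl_rel : ∀ w ∈ G24Rel.R6, (w.map cl).prod = 1 := by
  intro w hw
  have h := eq_one_of_relB K1Co.hM (List.all_eq_true.1 K1Co.chk_R6 w hw)
  rw [List.map_map] at h
  exact h

/-- the homomorphism `G₂(4) → Co₁` -/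
noncomputable def psi : L →* Spor.Co1 := (exists_hom cl cl_rel).choose

theorem psi_B (i : Fin 6) : psi ⟨B i, B_mem i⟩ = cl i := (exists_hom cl cl_rel).choose_spec i

/-- the element of `Co₁` inducing `tau` -/
noncomputable def nn : Spor.Co1 := pr (K1Co.e 6)

theorem nn_inv : pr (K1Co.e 7) = nn⁻¹ := map_inv (QuotientGroup.mk' (Subgroup.center Co0)) _

theorem nn_cl (i : Fin 6) : nn * cl i * nn⁻¹ = ((K1Co.aw i).map cl).prod := by
  have h := eq_of_sameB K1Co.hM (K1Co.chk_n i)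
  rw [List.map_map] at h
  rw [← nn_inv]
  have h1 : (([6, i.val, 7] : List ℕ).map fun i => pr (K1Co.e i)).prod = nn * cl i * pr (K1Co.e 7) := by
    simp [nn, cl, mul_assoc]
  rw [← h1, h]
  rfl

theorem psi_tau (g : L) : nn * psi g * nn⁻¹ = psi (tau g) := by
  have h : (MulAut.conj nn).toMonoidHom.comp psi = psi.comp tau := by
    apply hom_ext
    intro i
    show nn * psi ⟨B i, B_mem i⟩ * nn⁻¹ = psi (tau ⟨B i, B_mem i⟩)
    rw [psi_B, nn_cl]
    have h2 : ((K1Co.aw i).map B).prod ∈ L := by rw [← tau_B]; exact (tau _).2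
    have h1 : tau ⟨B i, B_mem i⟩ = ⟨((K1Co.aw i).map B).prod, h2⟩ := Subtype.ext (tau_B i)
    rw [h1, map_prod_B]
    congr 1
    apply List.map_congr_left
    intro j _
    exact (psi_B j).symm
  exact DFunLike.congr_fun h g

end Cfsg.Agent.H931.K1Psi
end

-- part: H931/K1SU
section
/-!
# `SU₃(4)` in the six-dimensional `G₂(4)` (helper931)
-/

set_option autoImplicit false
set_option maxRecDepth 20000

namespace Cfsg.Agent.H931.K1SU

open Cfsg Matrix Cfsg.Agent.SporRec Cfsg.Agent.SporRec.GF4 Cfsg.Agent.StdG24.Mod6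
  Cfsg.Agent.StdG24.Ord6 Cfsg.Agent.H931.K1F16 Cfsg.Agent.H876
open F4 (z o w v)
open Cfsg.Agent.SporRec.G24Code (app)

/-- the linear map of a matrix over `F16` on `F4⁶` -/
noncomputable def rlin (A : Matrix (Fin 3) (Fin 3) F16) : Vec →ₗ[F4] Vec :=
  S.toLinearMap ∘ₗ (A.mulVecLin.restrictScalars F4) ∘ₗ S.symm.toLinearMap

theorem rlin_apply (A : Matrix (Fin 3) (Fin 3) F16) (x : Vec) : rlin A x = S (A.mulVec (S.symm x)) := rfl

/-- restriction of scalars -/
noncomputable def rmat : Matrix (Fin 3) (Fin 3) F16 →* Mat where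
  toFun A := LinearMap.toMatrix' (rlin A)
  map_one' := by
    have h : rlin 1 = LinearMap.id := by
      apply LinearMap.ext
      intro x
      rw [rlin_apply, Matrix.one_mulVec, LinearEquiv.apply_symm_apply]
      rfl
    rw [h, LinearMap.toMatrix'_id]
  map_mul' A B := by
    rw [← LinearMap.toMatrix'_comp]
    (with_reducible congr 1)
    apply LinearMap.ext
    intro x
    rw [LinearMap.comp_apply, rlin_apply, rlin_apply, rlin_apply, LinearEquiv.symm_apply_apply,
      Matrix.mulVec_mulVec]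

theorem rmat_mulVec (A : Matrix (Fin 3) (Fin 3) F16) (x : Vec) : (rmat A).mulVec x = S (A.mulVec (S.symm x)) := by
  show (LinearMap.toMatrix' (rlin A)).mulVec x = _
  rw [LinearMap.toMatrix'_mulVec]
  rfl

/-- restriction of scalars -/
noncomputable def res : GL (Fin 3) F16 →* GL6 := Units.map rmat

theorem act_res (A : GL (Fin 3) F16) (x : Vec) :
    act (res A) x = S ((A : Matrix (Fin 3) (Fin 3) F16).mulVec (S.symm x)) := rmat_mulVec _ _

theorem res_injective : Function.Injective res := by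
  intro A B h
  apply Units.ext
  apply Matrix.ext
  intro i j
  have h1 : ∀ y : Fin 3 → F16, (A : Matrix (Fin 3) (Fin 3) F16).mulVec y = (B : Matrix (Fin 3) (Fin 3) F16).mulVec y := by
    intro y
    have h2 := congrArg (fun g => act g (S y)) h
    simp only [act_res, LinearEquiv.symm_apply_apply] at h2
    exact S.injective h2
  have h3 := congrFun (h1 (Pi.single j 1)) i
  simpa using h3

/-- the subgroup of `GL₃(16)` of elements in `G₂(4)` -/
noncomputable def M : Subgroup (GL (Fin 3) F16) := L.comap res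

/-- the transvection with centre `u` on `F4⁶`, on the basis vectors -/
def tchk (u : Fin 3 → F16) (c : F16) (wd : Wd) : Bool :=
  (List.range 6).all fun p =>
    decide (S (S.symm (dec (4 ^ p)) + (c * hermForm 3 F16 4 (S.symm (dec (4 ^ p))) u) • u) =
      dec (app (cw wd) (4 ^ p)))

theorem mem_M_of_tchk {u : Fin 3 → F16} {c : F16} {wd : Wd} (h : tchk u c wd = true) {g : GL (Fin 3) F16}
    (hg : ∀ x, (g : Matrix (Fin 3) (Fin 3) F16) *ᵥ x = x + (c * hermForm 3 F16 4 x u) • u) : g ∈ M := by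
  have h1 : res g = ev wd := by
    apply Units.ext
    apply mat_ext
    intro p hp
    have h2 := of_decide_eq_true (List.all_eq_true.1 h p (List.mem_range.2 hp))
    have h3 : ((res g : GL6) : Mat).mulVec (dec (4 ^ p)) = S ((g : Matrix (Fin 3) (Fin 3) F16).mulVec (S.symm (dec (4 ^ p)))) :=
      act_res g _
    rw [h3, hg, h2]
    exact (isCode_ev wd).spec _ (by interval_cases p <;> norm_num)
  show res g ∈ L
  rw [h1]
  exact ev_mem _

/-- the elements of trace zero -/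
theorem c_cases : ∀ c : F16, c + c ^ 4 = 0 → c = 0 ∨ c = 1 ∨ c = ⟨w, z⟩ ∨ c = ⟨v, z⟩ := by decide +kernel

theorem InS_of {u : Fin 3 → F16} (hu : hermForm 3 F16 4 u u = 0) (w1 w2 w3 : Wd) (h1 : tchk u 1 w1 = true)
    (h2 : tchk u ⟨w, z⟩ w2 = true) (h3 : tchk u ⟨v, z⟩ w3 = true) : InS 4 M u := by
  refine ⟨hu, fun c hc g hg => ?_⟩
  rcases c_cases c hc with rfl | rfl | rfl | rfl
  · have : g = 1 := by
      apply Units.ext
      apply Matrix.ext
      intro i j
      have := congrFun (hg (Pi.single j 1)) i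
      simpa [Matrix.one_apply, Pi.single_apply] using this
    rw [this]
    exact M.one_mem
  · exact mem_M_of_tchk h1 hg
  · exact mem_M_of_tchk h2 hg
  · exact mem_M_of_tchk h3 hg

/-- the isotropic points -/
def PL : List (Fin 3 → F16) := [![⟨z, z⟩, ⟨o, z⟩, ⟨o, z⟩],
  ![⟨z, z⟩, ⟨o, z⟩, ⟨z, w⟩],
  ![⟨o, z⟩, ⟨z, z⟩, ⟨o, v⟩],
  ![⟨z, z⟩, ⟨o, z⟩, ⟨w, w⟩],
  ![⟨z, z⟩, ⟨o, z⟩, ⟨w, v⟩],
  ![⟨z, z⟩, ⟨o, z⟩, ⟨o, v⟩],
  ![⟨o, z⟩, ⟨o, v⟩, ⟨z, z⟩],
  ![⟨o, z⟩, ⟨w, o⟩, ⟨v, w⟩],
  ![⟨o, z⟩, ⟨v, w⟩, ⟨w, o⟩],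
  ![⟨o, z⟩, ⟨z, o⟩, ⟨w, o⟩],
  ![⟨o, z⟩, ⟨z, w⟩, ⟨z, z⟩],
  ![⟨o, z⟩, ⟨z, v⟩, ⟨v, w⟩],
  ![⟨o, z⟩, ⟨w, v⟩, ⟨z, z⟩],
  ![⟨o, z⟩, ⟨o, w⟩, ⟨w, o⟩],
  ![⟨o, z⟩, ⟨v, o⟩, ⟨v, w⟩],
  ![⟨o, z⟩, ⟨v, v⟩, ⟨v, w⟩],
  ![⟨o, z⟩, ⟨w, w⟩, ⟨z, z⟩],
  ![⟨o, z⟩, ⟨o, o⟩, ⟨w, o⟩],
  ![⟨o, z⟩, ⟨o, z⟩, ⟨z, z⟩],
  ![⟨o, z⟩, ⟨v, z⟩, ⟨w, o⟩],
  ![⟨o, z⟩, ⟨w, z⟩, ⟨v, w⟩],
  ![⟨o, z⟩, ⟨z, z⟩, ⟨w, v⟩],
  ![⟨o, z⟩, ⟨v, w⟩, ⟨v, o⟩],
  ![⟨o, z⟩, ⟨w, o⟩, ⟨o, w⟩],
  ![⟨o, z⟩, ⟨z, z⟩, ⟨z, w⟩],
  ![⟨o, z⟩, ⟨v, w⟩, ⟨z, v⟩],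
  ![⟨o, z⟩, ⟨w, o⟩, ⟨z, o⟩],
  ![⟨o, z⟩, ⟨z, z⟩, ⟨o, z⟩],
  ![⟨o, z⟩, ⟨v, w⟩, ⟨w, z⟩],
  ![⟨o, z⟩, ⟨w, o⟩, ⟨v, z⟩],
  ![⟨o, z⟩, ⟨z, z⟩, ⟨w, w⟩],
  ![⟨o, z⟩, ⟨v, w⟩, ⟨v, v⟩],
  ![⟨o, z⟩, ⟨w, o⟩, ⟨o, o⟩],
  ![⟨o, z⟩, ⟨v, o⟩, ⟨v, z⟩],
  ![⟨o, z⟩, ⟨z, o⟩, ⟨v, o⟩],
  ![⟨o, z⟩, ⟨o, o⟩, ⟨v, v⟩],
  ![⟨o, z⟩, ⟨v, z⟩, ⟨w, z⟩],
  ![⟨o, z⟩, ⟨z, v⟩, ⟨o, o⟩],
  ![⟨o, z⟩, ⟨o, w⟩, ⟨z, v⟩],
  ![⟨o, z⟩, ⟨v, o⟩, ⟨o, o⟩],
  ![⟨o, z⟩, ⟨z, o⟩, ⟨z, v⟩],
  ![⟨o, z⟩, ⟨o, o⟩, ⟨w, z⟩],
  ![⟨o, z⟩, ⟨v, z⟩, ⟨v, v⟩],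
  ![⟨o, z⟩, ⟨z, v⟩, ⟨v, z⟩],
  ![⟨o, z⟩, ⟨o, w⟩, ⟨v, o⟩],
  ![⟨o, z⟩, ⟨w, z⟩, ⟨v, z⟩],
  ![⟨o, z⟩, ⟨o, o⟩, ⟨z, v⟩],
  ![⟨o, z⟩, ⟨z, v⟩, ⟨o, w⟩],
  ![⟨o, z⟩, ⟨v, v⟩, ⟨o, o⟩],
  ![⟨o, z⟩, ⟨v, z⟩, ⟨v, o⟩],
  ![⟨o, z⟩, ⟨v, o⟩, ⟨z, o⟩],
  ![⟨o, z⟩, ⟨v, v⟩, ⟨v, z⟩],
  ![⟨o, z⟩, ⟨v, z⟩, ⟨z, v⟩],
  ![⟨o, z⟩, ⟨v, o⟩, ⟨o, w⟩],
  ![⟨o, z⟩, ⟨w, z⟩, ⟨o, o⟩],
  ![⟨o, z⟩, ⟨o, o⟩, ⟨v, o⟩],
  ![⟨o, z⟩, ⟨z, v⟩, ⟨z, o⟩],
  ![⟨o, z⟩, ⟨w, z⟩, ⟨z, o⟩],
  ![⟨o, z⟩, ⟨w, z⟩, ⟨o, w⟩],
  ![⟨o, z⟩, ⟨o, w⟩, ⟨w, z⟩],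
  ![⟨o, z⟩, ⟨v, v⟩, ⟨o, w⟩],
  ![⟨o, z⟩, ⟨z, o⟩, ⟨w, z⟩],
  ![⟨o, z⟩, ⟨z, o⟩, ⟨v, v⟩],
  ![⟨o, z⟩, ⟨o, w⟩, ⟨v, v⟩],
  ![⟨o, z⟩, ⟨v, v⟩, ⟨z, o⟩]]

/-- the point with a given number -/
def P (k : ℕ) : Fin 3 → F16 := PL.getD k 0

/-- parents -/
def par : List (ℕ × ℕ × F16 × F16) := [(1, 0, ⟨w, w⟩, ⟨v, w⟩),
  (1, 0, ⟨z, o⟩, ⟨o, o⟩),
  (1, 0, ⟨o, w⟩, ⟨z, w⟩),
  (2, 0, ⟨o, z⟩, ⟨o, v⟩),
  (2, 0, ⟨o, z⟩, ⟨w, o⟩),
  (2, 0, ⟨o, z⟩, ⟨v, w⟩),
  (2, 1, ⟨o, z⟩, ⟨z, o⟩),
  (2, 1, ⟨o, z⟩, ⟨z, w⟩),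
  (2, 1, ⟨o, z⟩, ⟨z, v⟩),
  (3, 2, ⟨w, v⟩, ⟨o, z⟩),
  (3, 2, ⟨o, w⟩, ⟨o, z⟩),
  (3, 2, ⟨v, o⟩, ⟨o, z⟩),
  (4, 2, ⟨v, v⟩, ⟨o, z⟩),
  (4, 2, ⟨w, w⟩, ⟨o, z⟩),
  (4, 2, ⟨o, o⟩, ⟨o, z⟩),
  (5, 2, ⟨o, z⟩, ⟨o, z⟩),
  (5, 2, ⟨v, z⟩, ⟨o, z⟩),
  (5, 2, ⟨w, z⟩, ⟨o, z⟩),
  (6, 1, ⟨o, z⟩, ⟨o, v⟩),
  (6, 1, ⟨o, z⟩, ⟨w, o⟩),
  (6, 1, ⟨o, z⟩, ⟨v, w⟩),
  (6, 3, ⟨o, z⟩, ⟨o, v⟩),
  (6, 3, ⟨o, z⟩, ⟨w, o⟩),
  (6, 3, ⟨o, z⟩, ⟨v, w⟩),
  (6, 4, ⟨o, z⟩, ⟨o, v⟩),
  (6, 4, ⟨o, z⟩, ⟨w, o⟩),
  (6, 4, ⟨o, z⟩, ⟨v, w⟩),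
  (6, 5, ⟨o, z⟩, ⟨o, v⟩),
  (6, 5, ⟨o, z⟩, ⟨w, o⟩),
  (6, 5, ⟨o, z⟩, ⟨v, w⟩),
  (7, 1, ⟨o, z⟩, ⟨o, z⟩),
  (7, 1, ⟨o, z⟩, ⟨w, z⟩),
  (7, 1, ⟨o, z⟩, ⟨v, z⟩),
  (7, 3, ⟨o, z⟩, ⟨o, o⟩),
  (7, 3, ⟨o, z⟩, ⟨w, w⟩),
  (7, 3, ⟨o, z⟩, ⟨v, v⟩),
  (7, 4, ⟨o, z⟩, ⟨o, z⟩),
  (7, 4, ⟨o, z⟩, ⟨w, z⟩),
  (7, 4, ⟨o, z⟩, ⟨v, z⟩),
  (7, 5, ⟨o, z⟩, ⟨o, o⟩),
  (7, 5, ⟨o, z⟩, ⟨w, w⟩),
  (7, 5, ⟨o, z⟩, ⟨v, v⟩),
  (8, 1, ⟨o, z⟩, ⟨o, w⟩),
  (8, 1, ⟨o, z⟩, ⟨w, v⟩),
  (8, 1, ⟨o, z⟩, ⟨v, o⟩),
  (8, 3, ⟨o, z⟩, ⟨z, o⟩),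
  (8, 3, ⟨o, z⟩, ⟨z, w⟩),
  (8, 3, ⟨o, z⟩, ⟨z, v⟩),
  (8, 4, ⟨o, z⟩, ⟨z, o⟩),
  (8, 4, ⟨o, z⟩, ⟨z, w⟩),
  (8, 4, ⟨o, z⟩, ⟨z, v⟩),
  (8, 5, ⟨o, z⟩, ⟨o, w⟩),
  (8, 5, ⟨o, z⟩, ⟨w, v⟩),
  (8, 5, ⟨o, z⟩, ⟨v, o⟩),
  (9, 4, ⟨o, z⟩, ⟨w, o⟩),
  (9, 5, ⟨o, z⟩, ⟨w, o⟩),
  (9, 6, ⟨w, v⟩, ⟨v, v⟩),
  (9, 7, ⟨v, o⟩, ⟨w, o⟩),
  (10, 3, ⟨o, z⟩, ⟨z, v⟩),
  (10, 4, ⟨o, z⟩, ⟨z, v⟩),
  (11, 5, ⟨o, z⟩, ⟨o, o⟩),
  (11, 8, ⟨v, o⟩, ⟨w, o⟩)]

/-- check of a point -/
def pchk (k : ℕ) : Bool :=
  let p := par.getD k (0, 0, 0, 0)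
  Nat.blt p.1 (k + 3) && Nat.blt p.2.1 (k + 3) && !(decide (hermForm 3 F16 4 (P p.1) (P p.2.1) = 0)) &&
    decide (P (k + 3) = p.2.2.1 • P p.1 + p.2.2.2 • P p.2.1) && decide (hermForm 3 F16 4 (P (k + 3)) (P (k + 3)) = 0)

theorem pchk_all : ∀ k < 62, pchk k = true := by decide +kernel

theorem InS0 : InS 4 M (P 0) := InS_of (by decide +kernel) [(11, 0)] [(11, 1)] [(11, 2)] (by decide +kernel)
  (by decide +kernel) (by decide +kernel)

theorem InS1 : InS 4 M (P 1) := InS_of (by decide +kernel) [(0, 1)] [(0, 2)] [(0, 0)] (by decide +kernel)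
  (by decide +kernel) (by decide +kernel)

theorem InS2 : InS 4 M (P 2) := InS_of (by decide +kernel)
  [(8, 0), (7, 2), (1, 2), (0, 0), (7, 2), (8, 0)] [(8, 0), (7, 2), (1, 0), (0, 1), (7, 2), (8, 0)]
  [(8, 0), (7, 2), (1, 1), (0, 2), (7, 2), (8, 0)] (by decide +kernel) (by decide +kernel) (by decide +kernel)

theorem InSP : ∀ k < 65, InS 4 M (P k) := by
  intro k
  induction k using Nat.strong_induction_on with
  | _ k ih =>
    intro hk
    by_cases h0 : k = 0
    · subst h0; exact InS0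
    by_cases h1 : k = 1
    · subst h1; exact InS1
    by_cases h2 : k = 2
    · subst h2; exact InS2
    obtain ⟨k, rfl⟩ : ∃ m, k = m + 3 := ⟨k - 3, by omega⟩
    have h := pchk_all k (by omega)
    unfold pchk at h
    simp only [Bool.and_eq_true, Bool.not_eq_true', decide_eq_false_iff_not, decide_eq_true_eq, Nat.blt_eq] at h
    obtain ⟨⟨⟨⟨h3, h4⟩, h5⟩, h6⟩, h7⟩ := h
    have h8 := InS.line (by rfl) (ih _ h3 (by omega)) (ih _ h4 (by omega)) h5 (par.getD k (0, 0, 0, 0)).2.2.1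
      (par.getD k (0, 0, 0, 0)).2.2.2 (by rw [← h6]; exact h7)
    rw [← h6] at h8
    exact h8

private noncomputable def _root_.Cfsg.Agent.LsF.f37324c_16 : {f // @Cfsg.Agent.H931.K1SU.PL = f} := ⟨_, by first | (delta Cfsg.Agent.H931.K1SU.PL; rewrite [Cfsg.Agent.LsF.vecCons_eq]; exact rfl) | exact rfl⟩
private noncomputable def _root_.Cfsg.Agent.LsF.f37324c_17 : {f // @Cfsg.Agent.H931.K1SU.P = f} := ⟨_, by first | (delta Cfsg.Agent.H931.K1SU.P; rewrite [Cfsg.Agent.LsF.f37324c_16.2, Cfsg.Agent.LsF.getD_eq]; exact rfl) | exact rfl⟩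
private noncomputable def _root_.Cfsg.Agent.LsF.f37324c_18 : {f // @Cfsg.Agent.H931.K1F16.instDecidableEqF16.decEq = f} := ⟨_, by first | (delta Cfsg.Agent.H931.K1F16.instDecidableEqF16.decEq; rewrite [Cfsg.Agent.LsF.dite_eq]; (try delta Cfsg.Agent.H931.K1F16.instDecidableEqF16.decEq.match_1); (try delta Cfsg.Agent.H931.K1F16.F16.casesOn); exact rfl) | exact rfl⟩
private noncomputable def _root_.Cfsg.Agent.LsF.f37324c_19 : {f // @Cfsg.Agent.H931.K1F16.instDecidableEqF16 = f} := ⟨_, by first | (delta Cfsg.Agent.H931.K1F16.instDecidableEqF16; rewrite [Cfsg.Agent.LsF.f37324c_18.2]; exact rfl) | exact rfl⟩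
private noncomputable def _root_.Cfsg.Agent.LsF.f37324c_21 : {f // @Cfsg.Agent.H931.K1F16.F16.instFintype = f} := ⟨_, by first | (delta Cfsg.Agent.H931.K1F16.F16.instFintype; rewrite [Cfsg.Agent.LsF.prodFintype_eq]; exact rfl) | exact rfl⟩
/-- every normalised isotropic vector is in the list -/
theorem cover1 : ∀ y t : F16, hermForm 3 F16 4 ![1, y, t] ![1, y, t] = 0 → ∃ k < 65, P k = ![1, y, t] := by
  (refine of_decide_eq_true ?_; (try (delta Cfsg.hermForm; rewrite [Cfsg.Agent.LsF.f37324c_17.2, Cfsg.Agent.LsF.f37324c_19.2, Cfsg.Agent.LsF.f37324c_21.2, Cfsg.Agent.LsF.vecCons_eq, Cfsg.Agent.LsF.finFintype_eq, Cfsg.Agent.LsF.dForall_eq, Cfsg.Agent.LsF.dPi_eq, Cfsg.Agent.LsF.fsum_eq, Cfsg.Agent.LsF.dExistsLT_eq, Cfsg.Agent.LsF.decide_eq])); decide +kernel)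
theorem cover2 : ∀ t : F16, hermForm 3 F16 4 ![0, 1, t] ![0, 1, t] = 0 → ∃ k < 65, P k = ![0, 1, t] := by
  decide +kernel
theorem cover3 : hermForm 3 F16 4 ![0, 0, 1] ![0, 0, 1] ≠ 0 := by decide +kernel

theorem InS_all (u : Fin 3 → F16) (hu : hermForm 3 F16 4 u u = 0) : InS 4 M u := by
  have key : ∀ (a : F16) (u' : Fin 3 → F16), a ≠ 0 → u = a • u' → hermForm 3 F16 4 u' u' = 0 := by
    intro a u' ha he
    rw [he, Cfsg.Agent.LieClassical.HermBasic.herm_smul_left, Cfsg.Agent.LieClassical.HermBasic.herm_smul_right] at hu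
    rcases mul_eq_zero.1 hu with h | h
    · exact absurd h ha
    · rcases mul_eq_zero.1 h with h | h
      · exact absurd (eq_zero_of_pow_eq_zero h) ha
      · exact h
  by_cases h0 : u 0 = 0
  · by_cases h1 : u 1 = 0
    · by_cases h2 : u 2 = 0
      · have : u = 0 := by
          funext i
          fin_cases i
          · exact h0
          · exact h1
          · exact h2
        have h3 := InS.smul (by rfl) InS0 0
        rw [zero_smul] at h3
        rw [this]
        exact h3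
      · exfalso
        have he : u = u 2 • ![0, 0, 1] := by
          funext i
          fin_cases i
          · simpa using h0
          · simpa using h1
          · simp
        exact cover3 (key _ _ h2 he)
    · have he : u = u 1 • ![0, 1, u 2 / u 1] := by
        funext i
        fin_cases i
        · simpa using h0
        · simp
        · simp [mul_div_cancel₀ _ h1]
      obtain ⟨k, hk, hP⟩ := cover2 _ (key _ _ h1 he)
      have h3 := InS.smul (by rfl) (InSP k hk) (u 1)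
      rw [hP, ← he] at h3
      exact h3
  · have he : u = u 0 • ![1, u 1 / u 0, u 2 / u 0] := by
      funext i
      fin_cases i
      · simp
      · simp [mul_div_cancel₀ _ h0]
      · simp [mul_div_cancel₀ _ h0]
    obtain ⟨k, hk, hP⟩ := cover1 _ _ (key _ _ h0 he)
    have h3 := InS.smul (by rfl) (InSP k hk) (u 0)
    rw [hP, ← he] at h3
    exact h3

theorem res_su_mem (A : SU 3 F16 4) : res (suGL 3 F16 4 A) ∈ L :=
  su_le (by rfl) le_rfl (by decide) InS_all (suGL_mem A)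

/-- `SU₃(4) → G₂(4)` -/
noncomputable def f : SU 3 F16 4 →* L := (res.comp (suGL 3 F16 4)).codRestrict L res_su_mem

theorem f_injective : Function.Injective f := by
  intro A B h
  have h1 : res (suGL 3 F16 4 A) = res (suGL 3 F16 4 B) := congrArg Subtype.val h
  have h2 := res_injective h1
  apply Subtype.ext
  exact Matrix.SpecialLinearGroup.toGL_injective h2

theorem act_f (A : SU 3 F16 4) (x : Vec) :
    act (f A : GL6) x = S (Cfsg.Agent.LieClassical.HermSiegel.act A (S.symm x)) := act_res _ _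

/-! ### The Frobenius automorphism -/

/-- the Frobenius map on vectors -/
def fv (u : Fin 3 → F16) : Fin 3 → F16 := fun i => F16.fr (u i)

/-- the Frobenius map on `F4⁶` -/
def gv (x : Vec) : Vec := fun i => K1Psi.fr (x i)

theorem fv_add (u u' : Fin 3 → F16) : fv (u + u') = fv u + fv u' := by
  funext i; exact map_add F16.fr _ _

theorem gv_add (x x' : Vec) : gv (x + x') = gv x + gv x' := by
  funext i; exact map_add K1Psi.fr _ _

theorem gv_gv (x : Vec) : gv (gv x) = x := by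
  funext i; exact K1Psi.fr_fr _

theorem act_sg (g : GL6) (x : Vec) : act (K1Psi.sg g) (gv x) = gv (act g x) := by
  funext i
  show ∑ j, K1Psi.fr ((g : Mat) i j) * K1Psi.fr (x j) = K1Psi.fr (∑ j, (g : Mat) i j * x j)
  rw [map_sum]
  exact Finset.sum_congr rfl fun j _ => (map_mul _ _ _).symm

theorem phi_chk : ∀ (i : Fin 6) (x : F4), S (fv (S.symm (Pi.single i x))) =
    (matOf (xc 11 2)).mulVec ((matOf (xc 7 2)).mulVec (gv (Pi.single i x))) := by (refine of_decide_eq_true ?_; (try (rewrite [Cfsg.Agent.LsF.f37324c_11.2, Cfsg.Agent.LsF.f37324c_12.2, Cfsg.Agent.LsF.finFintype_eq, Cfsg.Agent.LsF.dForall_eq, Cfsg.Agent.LsF.dPi_eq, Cfsg.Agent.LsF.mulVec_eq, Cfsg.Agent.LsF.dFinEq_eq, Cfsg.Agent.LsF.dForallFin_eq, Cfsg.Agent.LsF.decide_eq])); decide +kernel)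

theorem act_g0w (x : Vec) : act (ev K1Psi.g0w) x = (matOf (xc 11 2)).mulVec ((matOf (xc 7 2)).mulVec x) := by
  have h : ev K1Psi.g0w = gx 11 2 * gx 7 2 := by simp [ev, K1Psi.g0w]
  rw [h, act_mul]
  rfl

theorem phi (x : Vec) : S (fv (S.symm x)) = act (ev K1Psi.g0w) (gv x) := by
  let α : Vec →+ Vec := AddMonoidHom.mk' (fun x => S (fv (S.symm x))) (fun x y => by
    rw [map_add, fv_add, map_add])
  let β : Vec →+ Vec := AddMonoidHom.mk' (fun x => act (ev K1Psi.g0w) (gv x)) (fun x y => by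
    rw [gv_add, act_add])
  have h : α = β := by
    refine AddMonoidHom.functions_ext' _ _ _ fun i => ?_
    ext x : 1
    show S (fv (S.symm (Pi.single i x))) = act (ev K1Psi.g0w) (gv (Pi.single i x))
    rw [act_g0w]
    exact phi_chk i x
  exact DFunLike.congr_fun h x

/-- the Frobenius automorphism of `SU₃(4)` -/
noncomputable def frS : MulAut (SU 3 F16 4) := Cfsg.Agent.ClassicalGeometry.PSUAutCount.semiConj 1 F16.fr

open Cfsg.Agent.ClassicalGeometry.PSUAutCount in
theorem act_frS (A : SU 3 F16 4) (x : Fin 3 → F16) :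
    Cfsg.Agent.LieClassical.HermSiegel.act (frS A) (fv x) = fv (Cfsg.Agent.LieClassical.HermSiegel.act A x) := by
  have h := act_semiConj (1 : Cfsg.GU 3 F16 4) F16.fr A x
  rw [gm_one, Matrix.one_mulVec, Matrix.one_mulVec] at h
  exact h

theorem tau_f (A : SU 3 F16 4) : K1Psi.tau (f A) = f (frS A) := by
  apply Subtype.ext
  rw [K1Psi.tau_coe, mul_inv_eq_iff_eq_mul]
  apply act_ext
  intro x
  rw [← gv_gv x, act_mul, act_sg, act_mul, ← phi, ← phi, act_f, act_f, LinearEquiv.symm_apply_apply,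
    LinearEquiv.symm_apply_apply]
  congr 1
  exact (act_frS A _).symm

end Cfsg.Agent.H931.K1SU
end

private theorem dce_46181488f515 : _root_.True := by
  try have : _root_.True := by simp only [_root_.Cfsg.Agent.H1.K3.N.eq_8]
  try have : _root_.True := by simp only [_root_.Cfsg.Agent.H1.K3.N.eq_4]
  try have : _root_.True := by simp only [_root_.Cfsg.Agent.H1.K3.Lt.eq_7]
  try have : _root_.True := by simp only [_root_.Cfsg.Agent.H1.K3.N.eq_23]
  try have : _root_.True := by simp only [_root_.Cfsg.Agent.H1.K3.N.eq_16]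
  try have : _root_.True := by simp only [_root_.Cfsg.Agent.H1.K3.lg.eq_1]
  try have : _root_.True := by simp only [_root_.Cfsg.Agent.H1.K3.N.eq_2]
  try have : _root_.True := by simp only [_root_.Cfsg.Agent.H1.K3.gh.eq_1]
  try have : _root_.True := by simp only [_root_.Cfsg.Agent.H1.K3.pwp.eq_1]
  try have : _root_.True := by simp only [_root_.Cfsg.Agent.H1.K3.N.eq_17]
  try have : _root_.True := by simp only [_root_.Cfsg.Agent.H1.K3.Lt.eq_3]
  try have : _root_.True := by simp only [_root_.Cfsg.Agent.H1.K3.N.eq_3]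
  try have : _root_.True := by simp only [_root_.Cfsg.Agent.H1.K3.N.eq_19]
  try have : _root_.True := by simp only [_root_.Cfsg.Agent.H1.K3.N.eq_6]
  try have : _root_.True := by simp only [_root_.Cfsg.Agent.H1.K3.gw.eq_1]
  try have : _root_.True := by simp only [_root_.Cfsg.Agent.H1.K3.gx.eq_1]
  try have : _root_.True := by simp only [_root_.Cfsg.Agent.H1.K3.N.eq_14]
  try have : _root_.True := by simp only [_root_.Cfsg.Agent.H1.K3.Lt.eq_5]
  try have : _root_.True := by simp only [_root_.Cfsg.Agent.H931.K1Psi.g0w.eq_1]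
  try have : _root_.True := by simp only [_root_.Cfsg.Agent.H1.K3.N.eq_12]
  try have : _root_.True := by simp only [_root_.Cfsg.Agent.H1.K3.he.eq_1]
  try have : _root_.True := by simp only [_root_.Cfsg.Agent.H1.K3.N.eq_5]
  try have : _root_.True := by simp only [_root_.Cfsg.Agent.H1.K3.N.eq_9]
  try have : _root_.True := by simp only [_root_.Cfsg.Agent.H1.K3.N.eq_7]
  try have : _root_.True := by simp only [_root_.Cfsg.Agent.H931.K1Psi.cl.eq_1]
  try have : _root_.True := by simp only [_root_.Cfsg.Agent.H1.K3.N.eq_13]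
  try have : _root_.True := by simp only [_root_.Cfsg.Agent.H1.K3.N.eq_20]
  try have : _root_.True := by simp only [_root_.Cfsg.Agent.H1.K3.N.eq_10]
  try have : _root_.True := by simp only [_root_.Cfsg.Agent.H1.K3.N.eq_21]
  try have : _root_.True := by simp only [_root_.Cfsg.Agent.H1.K3.N.eq_18]
  try have : _root_.True := by simp only [_root_.Cfsg.Agent.H1.K3.pwp.eq_2]
  try have : _root_.True := by simp only [_root_.Cfsg.Agent.H931.K1Psi.nn.eq_1]
  try have : _root_.True := by simp only [_root_.Cfsg.Agent.H1.K3.N.eq_15]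
  try have : _root_.True := by simp only [_root_.Cfsg.Agent.H1.K3.N.eq_1]
  try have : _root_.True := by simp only [_root_.Cfsg.Agent.H1.K3.Lt.eq_1]
  try have : _root_.True := by simp only [_root_.Cfsg.Agent.H1.K3.N.eq_22]
  try have : _root_.True := by simp only [_root_.Cfsg.Agent.H1.K3.Lt.eq_2]
  try have : _root_.True := by simp only [_root_.Cfsg.Agent.H1.K3.N.eq_11]
  try have : _root_.True := by simp only [_root_.Cfsg.Agent.H1.K3.gz.eq_1]
  try have : _root_.True := by simp only [_root_.Cfsg.Agent.H1.K3.pwp.eq_def]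
  try have : _root_.True := by simp only [_root_.Cfsg.Agent.H1.K3.Lt.eq_6]
  try have : _root_.True := by simp only [_root_.Cfsg.Agent.H1.K3.Lt.eq_4]
  exact _root_.True.intro
end

-- part: H931/K1Grp
section
set_option linter.all false
open scoped Cfsg.Agent.FastGrp

/-!
# The subgroup `SU₃(4)` of `Co₁` and its perfect lift to `Co₀` (helper931)
-/

set_option autoImplicit false

namespace Cfsg.Agent.H931.K1Grp

open Cfsg Cfsg.Agent.SporRec Cfsg.Agent.SporRec.GF4 Cfsg.Agent.StdG24.Mod6 Cfsg.Agent.StdG24.Ord6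
  Cfsg.Agent.SporadicA.Co0Basic Cfsg.Agent.CoOneType.CoEval Cfsg.Agent.H931.K1F16 Cfsg.Agent.H931.K1SU
  Cfsg.Agent.H931.K1Psi Cfsg.Agent.H931.K1Red

/-- the six-dimensional `G₂(4)` is simple -/
theorem simple_L : IsSimpleGroup L := by
  obtain ⟨E⟩ := Cfsg.Agent.StdG24.Iso6.equiv_chev F4 F4.card_F4
  haveI := (Cfsg.Agent.S1055.result (F := F4) ⟨F4.w, by decide, by decide⟩).1
  exact E.isSimpleGroup

theorem pr_eq_iff (g h : Co0) : pr g = pr h ↔ g = h ∨ g = negCo0 * h := by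
  constructor
  · intro H
    have h1 : g * h⁻¹ ∈ Subgroup.center Co0 := by
      rw [← QuotientGroup.eq_one_iff]
      show pr (g * h⁻¹) = 1
      rw [pr, map_mul, map_inv]
      show pr g * (pr h)⁻¹ = 1
      rw [H, mul_inv_cancel]
    rcases eq_one_or_neg_of_mem_center h1 with h2 | h2
    · left; exact mul_inv_eq_one.1 h2
    · right; rw [← h2]; group
  · rintro (rfl | rfl)
    · rfl
    · rw [pr, map_mul]
      show pr negCo0 * pr h = pr h
      rw [pr_neg, one_mul]

/-- the projection as a homomorphism -/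
def prH : Co0 →* Spor.Co1 := QuotientGroup.mk' (Subgroup.center Co0)

theorem prH_surjective : Function.Surjective prH := QuotientGroup.mk'_surjective _

theorem prH_neg : prH negCo0 = 1 := pr_neg

theorem psi_ne : psi ⟨B 1, B_mem 1⟩ ≠ 1 := by
  rw [psi_B]
  intro h
  have h1 := (pr_eq_iff (K1Co.e 1) 1).1 (h.trans (map_one prH).symm)
  have h2 : (2 : ℚ) ≠ 0 := by norm_num
  have h3 := trace_e1 (F := ℚ) h2
  rcases h1 with h1 | h1
  · rw [h1, rmat_one h2, Matrix.trace_one] at h3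
    have : Fintype.card GolayPt = 24 := by decide
    rw [this] at h3
    norm_num at h3
  · rw [h1, mul_one, rmat_neg h2, Matrix.trace_neg, Matrix.trace_one] at h3
    have : Fintype.card GolayPt = 24 := by decide
    rw [this] at h3
    norm_num at h3

theorem psi_injective : Function.Injective psi := by
  haveI := simple_L
  rw [← MonoidHom.ker_eq_bot_iff]
  rcases IsSimpleGroup.eq_bot_or_eq_top_of_normal psi.ker inferInstance with h | h
  · exact h
  · exfalso
    have h1 : (⟨B 1, B_mem 1⟩ : L) ∈ psi.ker := by rw [h]; trivial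
    exact psi_ne h1

/-- `SU₃(4) → Co₁` -/
noncomputable def ph : SU 3 F16 4 →* Spor.Co1 := psi.comp f

theorem ph_injective : Function.Injective ph := psi_injective.comp f_injective

/-- elements of `Co₀` above `G₂(4)` commute with `I` and `J` -/
theorem comm_of_range : ∀ (l : L) (g : Co0), prH g = psi l →
    g * K1Co.e 8 = K1Co.e 8 * g ∧ g * K1Co.e 9 = K1Co.e 9 * g := by
  have key : ∀ x : GL6, x ∈ Subgroup.closure (Set.range B) → ∀ hx : x ∈ L, ∀ g : Co0, prH g = psi ⟨x, hx⟩ →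
      g * K1Co.e 8 = K1Co.e 8 * g ∧ g * K1Co.e 9 = K1Co.e 9 * g := by
    have hneg : ∀ y : Co0, negCo0 * y = y * negCo0 := neg_comm
    have hm : ∀ {g x : Co0}, g * x = x * g → (negCo0 * g) * x = x * (negCo0 * g) := by
      intro g x h
      rw [mul_assoc, h, ← mul_assoc, hneg, mul_assoc]
    intro x hx
    induction hx using Subgroup.closure_induction with
    | mem x hx =>
      obtain ⟨i, rfl⟩ := hx
      intro _ g hg
      rw [psi_B] at hg
      rcases (pr_eq_iff g (K1Co.e i.val)).1 hg with rfl | rfl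
      · exact ⟨comm_I i, comm_J i⟩
      · exact ⟨hm (comm_I i), hm (comm_J i)⟩
    | one =>
      intro hx g hg
      have h1 : psi ⟨1, hx⟩ = 1 := map_one psi
      rw [h1] at hg
      rcases (pr_eq_iff g 1).1 (hg.trans (map_one prH).symm) with rfl | rfl
      · simp
      · rw [mul_one]; exact ⟨hneg _, hneg _⟩
    | mul a b ha hb iha ihb =>
      intro hx g hg
      rw [closure_B] at ha hb
      obtain ⟨ga, hga⟩ := prH_surjective (psi ⟨a, ha⟩)
      have h1 : prH (ga⁻¹ * g) = psi ⟨b, hb⟩ := by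
        rw [map_mul, map_inv, hga, hg]
        have : (⟨a * b, hx⟩ : L) = ⟨a, ha⟩ * ⟨b, hb⟩ := rfl
        rw [this, map_mul, inv_mul_cancel_left]
      obtain ⟨a1, a2⟩ := iha ha ga hga
      obtain ⟨b1, b2⟩ := ihb hb _ h1
      have h3 : g = ga * (ga⁻¹ * g) := by group
      rw [h3]
      generalize ga⁻¹ * g = gb at *
      refine ⟨?_, ?_⟩
      · rw [mul_assoc, b1, ← mul_assoc, a1, mul_assoc]
      · rw [mul_assoc, b2, ← mul_assoc, a2, mul_assoc]
    | inv a ha iha =>
      intro hx g hg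
      rw [closure_B] at ha
      have h1 : prH g⁻¹ = psi ⟨a, ha⟩ := by
        rw [map_inv, hg]
        have : (⟨a⁻¹, hx⟩ : L) = ⟨a, ha⟩⁻¹ := rfl
        rw [this, map_inv, inv_inv]
      obtain ⟨a1, a2⟩ := iha ha _ h1
      exact ⟨(Commute.inv_left_iff.1 a1 : _), (Commute.inv_left_iff.1 a2 : _)⟩
  rintro ⟨x, hx⟩ g hg
  exact key x (by rw [closure_B]; exact hx) hx g hg

end Cfsg.Agent.H931.K1Grp
end

-- part: H931/K1Aut
section
set_option linter.all false
open scoped Cfsg.Agent.FastGrp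

/-!
# Automorphisms of `SU₃(4)` (helper931)
-/

set_option autoImplicit false

namespace Cfsg.Agent.H931.K1Aut

open Cfsg Matrix Cfsg.Agent.H931.K1F16 Cfsg.Agent.H931.K1SU Cfsg.Agent.SporRec.GF4
open Cfsg.Agent.ClassicalGeometry.PSUAutCount Cfsg.Agent.LieClassical.HermSiegel
open Cfsg.Agent.ClassicalGeometry.PSUAutBasic (pr pr_surjective pr_eq_one_iff)

/-- the group -/
abbrev SU34 := SU 3 F16 4

theorem center_bot : Subgroup.center SU34 = ⊥ := Cfsg.Agent.TwoFusion.U34Sylow.center_eq_bot (F := F16) F16.card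

theorem perfect : commutator SU34 = ⊤ :=
  LieClassical.HermPerfect.commutator_SU_eq_top (F := F16) (q := 4) (by rfl) (n := 3) (by norm_num) (by norm_num)

theorem pr_injective : Function.Injective (pr 3 F16 4) := by
  rw [injective_iff_map_eq_one]
  intro g hg
  have h := pr_eq_one_iff.1 hg
  rw [center_bot] at h
  exact h

/-- `PSU₃(4) ≃* SU₃(4)` -/
noncomputable def equiv : SU34 ≃* PSU 3 F16 4 := MulEquiv.ofBijective (pr 3 F16 4) ⟨pr_injective, pr_surjective⟩

theorem simple : IsSimpleGroup SU34 := by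
  have : IsSimpleGroup (PSU 3 F16 4) := Cfsg.Agent.S0283.result (by rfl) 3 le_rfl (by decide)
  exact equiv.isSimpleGroup

/-- the generator -/
def gt : F16 := ⟨F4.z, F4.o⟩

theorem pow_gt : ∀ x : F16, x = 0 ∨ ∃ k < 15, x = gt ^ k := by decide +kernel

theorem root_gt : ∀ x : F16, x * x * x * x + x + 1 = 0 → x = gt ∨ x = F16.fr gt ∨ x = F16.fr (F16.fr gt) ∨
    x = F16.fr (F16.fr (F16.fr gt)) := by decide +kernel

theorem gt_root : gt * gt * gt * gt + gt + 1 = 0 := by decide +kernel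

/-- the automorphisms of the field are powers of the Frobenius automorphism -/
theorem aut_field (ρ : F16 ≃+* F16) : ∃ i : ℕ, ρ = F16.fr ^ i := by
  have h1 : ρ gt * ρ gt * ρ gt * ρ gt + ρ gt + 1 = 0 := by
    rw [← map_mul, ← map_mul, ← map_mul, ← map_add, ← map_one ρ, ← map_add, gt_root, map_zero]
  have key : ∀ σ : F16 ≃+* F16, ρ gt = σ gt → ρ = σ := by
    intro σ h
    ext x : 1
    rcases pow_gt x with rfl | ⟨k, _, rfl⟩
    · rw [map_zero, map_zero]
    · rw [map_pow, map_pow, h]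
  rcases root_gt _ h1 with h | h | h | h
  · exact ⟨0, key _ (by rw [h]; rfl)⟩
  · exact ⟨1, key _ (by rw [h, pow_one])⟩
  · exact ⟨2, key _ (by rw [h]; rfl)⟩
  · exact ⟨3, key _ (by rw [h]; rfl)⟩

theorem act_frS_pow (i : ℕ) (g : SU34) (x : Fin 3 → F16) :
    act ((frS ^ i : MulAut SU34) g) (fun j => (F16.fr ^ i) (x j)) = fun j => (F16.fr ^ i) (act g x j) := by
  induction i generalizing g x with
  | zero => rfl
  | succ i ih =>
    have h1 : (frS ^ (i + 1) : MulAut SU34) g = (frS ^ i : MulAut SU34) (frS g) := by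
      rw [pow_succ]; rfl
    have h2 : ∀ y : F16, (F16.fr ^ (i + 1)) y = (F16.fr ^ i) (F16.fr y) := by
      intro y; rw [pow_succ]; rfl
    rw [h1]
    simp only [h2]
    rw [show (fun j => (F16.fr ^ i) (F16.fr (x j))) = fun j => (F16.fr ^ i) (fv x j) from rfl, ih (frS g) (fv x),
      act_frS]
    rfl

/-- the automorphisms of `SU₃(4)` -/
theorem aut_su (α : MulAut SU34) : ∃ (C : SU34) (i : ℕ), ∀ g, α g = C * ((frS ^ i : MulAut SU34) g) * C⁻¹ := by
  -- transfer to `PSU`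
  let α' : MulAut (PSU 3 F16 4) := (equiv.symm.trans α).trans equiv
  obtain ⟨A, ρ, hα⟩ := Cfsg.Agent.ClassicalGeometry.PSUAutMain.exists_toAut (F := F16) (q := 4) (by rfl) le_rfl (by decide) α'
  obtain ⟨i, rfl⟩ := aut_field ρ
  have h1 : ∀ g, α g = semiConj A (F16.fr ^ i) g := by
    intro g
    apply pr_injective
    have h2 : α' (pr 3 F16 4 g) = pr 3 F16 4 (α g) := by
      show equiv (α (equiv.symm (equiv g))) = _
      rw [MulEquiv.symm_apply_apply]; rfl
    rw [← h2, hα]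
    rfl
  -- scale
  set d := (gm A).det with hd
  have hd5 : d ^ 5 = 1 := by
    have h := congrArg Units.val (Cfsg.Agent.ClassicalGeometry.HermParabolic.det_GU_pow (F := F16) (q := 4) (by rfl) A)
    exact h
  set c := d ^ 3 with hc
  -- `c = (d²)⁻¹`
  have hc5 : c * c ^ 4 = 1 := by
    have : c * c ^ 4 = (d ^ 5) ^ 3 := by rw [hc]; ring
    rw [this, hd5, one_pow]
  have hdet : (c • gm A).det = 1 := by
    rw [Matrix.det_smul, Fintype.card_fin, ← hd]
    have : c ^ 3 * d = (d ^ 5) ^ 2 := by rw [hc]; ring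
    rw [this, hd5, one_pow]
  let C : SU34 := ⟨⟨c • gm A, hdet⟩, (LieClassical.SUBasic.mem_SU_iff _).2 (by
    intro u v
    show hermForm 3 F16 4 ((c • gm A) *ᵥ u) ((c • gm A) *ᵥ v) = _
    rw [Matrix.smul_mulVec, Matrix.smul_mulVec, LieClassical.HermBasic.herm_smul_left,
      LieClassical.HermBasic.herm_smul_right, herm_gm, ← mul_assoc, hc5, one_mul])⟩
  have hC : ∀ x, act C x = c • (gm A *ᵥ x) := fun x => Matrix.smul_mulVec _ _ _
  refine ⟨C, i, fun g => ?_⟩
  rw [h1 g, eq_mul_inv_iff_mul_eq]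
  apply ext_act
  intro x
  rw [act_mul, act_mul]
  have hx : x = fun j => (F16.fr ^ i) ((fun k => (F16.fr ^ i).symm (x k)) j) := by
    funext j
    exact ((F16.fr ^ i).apply_symm_apply (x j)).symm
  rw [hx]
  generalize (fun k => (F16.fr ^ i).symm (x k)) = y
  rw [hC, act_smul, act_semiConj, act_frS_pow, hC]

end Cfsg.Agent.H931.K1Aut
end

-- part: H931/K1Lift
section
set_option linter.all false
open scoped Cfsg.Agent.FastGrp

/-!
# The perfect lift of `SU₃(4)` to `Co₀` and its action in dimension twelve (helper931)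
-/

set_option autoImplicit false

namespace Cfsg.Agent.H931.K1Lift

open Cfsg Cfsg.Geo Cfsg.Agent.SporRec Cfsg.Agent.SporRec.GF4 Cfsg.Agent.StdG24.Mod6 Cfsg.Agent.StdG24.Ord6
  Cfsg.Agent.SporadicA.Co0Basic Cfsg.Agent.CoOneType.CoEval Cfsg.Agent.H931.K1F16 Cfsg.Agent.H931.K1SU
  Cfsg.Agent.H931.K1Psi Cfsg.Agent.H931.K1Red Cfsg.Agent.H931.K1Grp Cfsg.Agent.H931.K1Aut Cfsg.Agent.H931.K1Quat
  Cfsg.Agent.H915.LD
open scoped commutatorElement

/-! ### A transvection -/

theorem res_of_tchk {u : Fin 3 → F16} {c : F16} {wd : Wd} (h : tchk u c wd = true) {g : GL (Fin 3) F16}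
    (hg : ∀ x, (g : Matrix (Fin 3) (Fin 3) F16).mulVec x = x + (c * hermForm 3 F16 4 x u) • u) : res g = ev wd := by
  apply Units.ext
  apply mat_ext
  intro p hp
  have h2 := of_decide_eq_true (List.all_eq_true.1 h p (List.mem_range.2 hp))
  have h3 : ((res g : GL6) : Mat).mulVec (dec (4 ^ p)) = S ((g : Matrix (Fin 3) (Fin 3) F16).mulVec (S.symm (dec (4 ^ p)))) :=
    act_res g _
  rw [h3, hg, h2]
  exact (isCode_ev wd).spec _ (by interval_cases p <;> norm_num)

/-- the element of `SU₃(4)` mapped to the letter `B 1` -/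
theorem exists_A1 : ∃ A : SU34, f A = ⟨B 1, B_mem 1⟩ := by
  have h0 : (1 : F16) + 1 ^ 4 = 0 := by decide +kernel
  obtain ⟨A, hA⟩ := Cfsg.Agent.H876.exists_suGL_eq
    (Cfsg.Agent.H876.uGL_mem (F := F16) (q := 4) (by rfl) (v := P 0) (c := 1) InS0.1 h0)
  refine ⟨A, Subtype.ext ?_⟩
  show res (Cfsg.Agent.H876.suGL 3 F16 4 A) = B 1
  have hB : B 1 = ev [(11, 0)] := rfl
  rw [hB]
  refine res_of_tchk (u := P 0) (c := 1) (by decide +kernel) fun x => ?_
  rw [hA]
  exact Cfsg.Agent.H876.uGL_mulVec _ _ _ _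

/-! ### The lift -/

/-- the preimage of `SU₃(4)` in `Co₀` -/
noncomputable def St : Subgroup Co0 := (ph.range).comap prH

/-- its commutator subgroup -/
noncomputable def Dd : Subgroup Co0 := ⁅St, St⁆

theorem Dd_le : Dd ≤ St := Subgroup.commutator_le_self _

theorem prH_eq_iff (g h : Co0) : prH g = prH h ↔ g = h ∨ g = negCo0 * h := pr_eq_iff g h

theorem exists_lift (A : SU34) : ∃ g ∈ Dd, prH g = ph A := by
  have h1 : Dd.map prH = ph.range := by
    have h2 : St.map prH = ph.range := Subgroup.map_comap_eq_self_of_surjective prH_surjective _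
    unfold Dd
    rw [Subgroup.map_commutator, h2, MonoidHom.range_eq_map, ← Subgroup.map_commutator]
    have h3 : ⁅(⊤ : Subgroup SU34), (⊤ : Subgroup SU34)⁆ = ⊤ := perfect
    rw [h3]
  have h4 : ph A ∈ Dd.map prH := by rw [h1]; exact ⟨A, rfl⟩
  obtain ⟨g, hg, he⟩ := h4
  exact ⟨g, hg, he⟩

theorem exists_fac {x : Co0} (hx : x ∈ St) : ∃ d ∈ Dd, x = d ∨ x = negCo0 * d := by
  obtain ⟨A, hA⟩ := hx
  obtain ⟨d, hd, he⟩ := exists_lift A
  exact ⟨d, hd, (prH_eq_iff x d).1 (by rw [← hA, he])⟩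

theorem comm_neg_left (x y : Co0) : ⁅negCo0 * x, y⁆ = ⁅x, y⁆ := by
  rw [commutatorElement_def, commutatorElement_def, mul_inv_rev]
  have h : negCo0⁻¹ = negCo0 := inv_eq_of_mul_eq_one_left neg_sq
  rw [h]
  calc negCo0 * x * y * (x⁻¹ * negCo0) * y⁻¹ = negCo0 * (x * y * x⁻¹) * negCo0 * y⁻¹ := by simp only [mul_assoc]
    _ = x * y * x⁻¹ * y⁻¹ := by rw [neg_comm, mul_assoc (x * y * x⁻¹), neg_sq, mul_one]

theorem comm_neg_right (x y : Co0) : ⁅x, negCo0 * y⁆ = ⁅x, y⁆ := by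
  rw [← commutatorElement_inv, comm_neg_left, commutatorElement_inv]

theorem Dd_perfect : ⁅Dd, Dd⁆ = Dd := by
  apply le_antisymm (Subgroup.commutator_le_self _)
  conv_lhs => unfold Dd
  rw [Subgroup.commutator_le]
  intro x hx y hy
  obtain ⟨d, hd, h1⟩ := exists_fac hx
  obtain ⟨d', hd', h1'⟩ := exists_fac hy
  have h2 : ⁅x, y⁆ = ⁅d, d'⁆ := by
    rcases h1 with rfl | rfl
    · rcases h1' with rfl | rfl
      · rfl
      · exact comm_neg_right _ _
    · rcases h1' with rfl | rfl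
      · exact comm_neg_left _ _
      · rw [comm_neg_left, comm_neg_right]
  rw [h2]
  exact Subgroup.commutator_mem_commutator hd hd'

/-- the centraliser of `I, J` in `Co₀` -/
def Cq : Subgroup Co0 where
  carrier := {g | g * K1Co.e 8 = K1Co.e 8 * g ∧ g * K1Co.e 9 = K1Co.e 9 * g}
  one_mem' := by constructor <;> rw [one_mul, mul_one]
  mul_mem' := by
    rintro x y ⟨hx1, hx2⟩ ⟨hy1, hy2⟩
    refine ⟨?_, ?_⟩
    · rw [mul_assoc, hy1, ← mul_assoc, hx1, mul_assoc]
    · rw [mul_assoc, hy2, ← mul_assoc, hx2, mul_assoc]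
  inv_mem' := by
    rintro x ⟨hx1, hx2⟩
    exact ⟨(Commute.inv_left_iff.2 (hx1 : Commute _ _) : _), (Commute.inv_left_iff.2 (hx2 : Commute _ _) : _)⟩

/-- the preimage of `G₂(4)` -/
noncomputable def G6 : Subgroup Co0 := (psi.range).comap prH

theorem G6_le : G6 ≤ Cq := by
  rintro g ⟨l, hl⟩
  exact comm_of_range l g hl.symm

theorem St_le : St ≤ G6 := by
  rintro g ⟨A, hA⟩
  exact ⟨f A, hA⟩

theorem Dd_le_Cq : Dd ≤ Cq := Dd_le.trans (St_le.trans G6_le)

/-! ### The representation -/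

section rep

variable {F : Type*} [Field F] {ι : Type} [Fintype ι] [DecidableEq ι]

/-- the data of the twelve-dimensional module -/
structure Dt (F : Type*) [Field F] (ι : Type) [Fintype ι] [DecidableEq ι] where
  /-- characteristic not two -/
  h2 : (2 : F) ≠ 0
  /-- a field element -/
  a : F
  /-- a field element -/
  b : F
  /-- the relation -/
  hab : a * a + b * b = -1
  /-- the inclusion -/
  T : Matrix GolayPt ι F
  /-- the projection -/
  R : Matrix ι GolayPt F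
  /-- they compose to the identity -/
  hRT : R * T = 1
  /-- they factorise the idempotent -/
  hTR : T * R = Pm (Im F) (Jm F) a b

theorem exists_sq_add_sq [Finite F] (h2 : (2 : F) ≠ 0) : ∃ a b : F, a * a + b * b = -1 := by
  have := Fintype.ofFinite F
  have h3 : Polynomial.degree (Polynomial.X ^ 2 : Polynomial F) = 2 := Polynomial.degree_X_pow 2
  have h4 : Polynomial.degree (Polynomial.X ^ 2 + 1 : Polynomial F) = 2 := by
    have := Polynomial.degree_X_pow_add_C (R := F) (n := 2) (by norm_num) 1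
    simpa using this
  have hodd : Fintype.card F % 2 = 1 := by
    apply FiniteField.odd_card_of_char_ne_two
    intro hc
    apply h2
    have : CharP F 2 := ringChar.of_eq hc
    exact_mod_cast CharP.cast_eq_zero F 2
  obtain ⟨a, b, h⟩ := FiniteField.exists_root_sum_quadratic h3 h4 hodd
  refine ⟨a, b, ?_⟩
  simp only [Polynomial.eval_pow, Polynomial.eval_X, Polynomial.eval_add, Polynomial.eval_one] at h
  linear_combination h

theorem exists_Dt [Finite F] (h2 : (2 : F) ≠ 0) (hι : Fintype.card ι = 12) : Nonempty (Dt F ι) := by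
  obtain ⟨a, b, hab⟩ := exists_sq_add_sq h2
  have hc : 2 * Fintype.card ι = Fintype.card GolayPt := by
    rw [hι]; decide
  obtain ⟨T, R, h1, h3⟩ := K1Quat.exists_factor h2 (quat h2) hab hc
  exact ⟨⟨h2, a, b, hab, T, R, h1, h3⟩⟩

theorem rho_mem (h2 : (2 : F) ≠ 0) {g : Co0} (hg : g ∈ Cq) : rho h2 g ∈ Z (Im F) (Jm F) := by
  refine ⟨?_, ?_⟩
  · rw [rho_val, K1Red.Im, ← rmat_mul h2, hg.1, rmat_mul h2]
  · rw [rho_val, K1Red.Jm, ← rmat_mul h2, hg.2, rmat_mul h2]

/-- the restriction of `rho` -/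
noncomputable def rZ (h2 : (2 : F) ≠ 0) : Cq →* Z (Im F) (Jm F) :=
  ((rho h2).comp Cq.subtype).codRestrict _ fun g => rho_mem h2 g.2

/-- the representation of degree twelve -/
noncomputable def rr (D : Dt F ι) : Cq →* GL ι F := (rW D.hTR D.hRT).comp (rZ D.h2)

theorem rr_val (D : Dt F ι) (g : Cq) : ((rr D g : GL ι F) : Matrix ι ι F) = D.R * rmat F g.1 * D.T := rfl

theorem neg_mem_Cq : negCo0 ∈ Cq := ⟨neg_comm _, neg_comm _⟩

theorem rr_neg (D : Dt F ι) : ((rr D ⟨negCo0, neg_mem_Cq⟩ : GL ι F) : Matrix ι ι F) = (-1 : F) • 1 := by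
  rw [rr_val, rmat_neg D.h2, Matrix.mul_neg, Matrix.mul_one, Matrix.neg_mul, D.hRT, neg_smul, one_smul]

theorem e1_mem : K1Co.e 1 ∈ Cq := ⟨comm_I 1, comm_J 1⟩

theorem rr_e1 (D : Dt F ι) (c : F) : ((rr D ⟨K1Co.e 1, e1_mem⟩ : GL ι F) : Matrix ι ι F) ≠ c • 1 := by
  intro h
  rw [rr_val] at h
  have hm := rho_mem D.h2 e1_mem
  have h1 := eq_smul_of_r D.h2 (quat D.h2) D.hab D.hTR D.hRT hm.1 hm.2 h
  rw [rho_val] at h1
  have h3 := trace_e1 D.h2
  have h4 := rmat_orth D.h2 (K1Co.e 1)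
  rw [h1] at h3 h4
  rw [Matrix.trace_smul, Matrix.trace_one] at h3
  have : Fintype.card GolayPt = 24 := by decide
  rw [this, smul_eq_mul] at h3
  push_cast at h3
  rw [Matrix.transpose_smul, Matrix.transpose_one, smul_mul_smul_comm, one_mul] at h4
  obtain ⟨i⟩ : Nonempty GolayPt := Fintype.card_pos_iff.1 (by rw [this]; norm_num)
  have h5 := congrFun (congrFun h4 i) i
  rw [Matrix.smul_apply, Matrix.one_apply_eq, smul_eq_mul, mul_one] at h5
  have h6 : (2 : F) ^ 9 = 0 := by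
    have : (c * 24) ^ 2 = (-8) ^ 2 := by rw [h3]
    have h7 : (c * 24) ^ 2 = (c * c) * 576 := by ring
    rw [h7, h5] at this
    linear_combination this
  exact D.h2 (pow_eq_zero_iff (by norm_num) |>.1 h6)

/-- elements above `G₂(4)` acting as scalars -/
theorem prH_of_scalar (D : Dt F ι) {x : Cq} (hx : prH x.1 ∈ psi.range) (hs : rr D x ∈ scalars ι F) :
    prH x.1 = 1 := by
  let N : Subgroup L :=
    { carrier := {l | ∃ x : Cq, prH x.1 = psi l ∧ rr D x ∈ scalars ι F}
      one_mem' := ⟨1, by rw [map_one]; rfl, by rw [map_one]; exact one_mem _⟩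
      mul_mem' := by
        rintro a b ⟨x, h1, h2⟩ ⟨y, h3, h4⟩
        exact ⟨x * y, by rw [Subgroup.coe_mul, map_mul, map_mul, h1, h3], by rw [map_mul]; exact mul_mem h2 h4⟩
      inv_mem' := by
        rintro a ⟨x, h1, h2⟩
        exact ⟨x⁻¹, by rw [Subgroup.coe_inv, map_inv, map_inv, h1], by rw [map_inv]; exact inv_mem h2⟩ }
  have hN : N.Normal := by
    constructor
    rintro n ⟨x, h1, h2⟩ g
    obtain ⟨y, hy⟩ := prH_surjective (psi g)
    have hyC : y ∈ Cq := comm_of_range g y hy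
    refine ⟨⟨y, hyC⟩ * x * ⟨y, hyC⟩⁻¹, ?_, ?_⟩
    · show prH (y * x.1 * y⁻¹) = _
      rw [map_mul, map_mul, map_inv, map_mul, map_mul, map_inv, h1, hy]
    · rw [map_mul, map_mul, map_inv]
      obtain ⟨c, hc⟩ := (mem_scalars_iff _).1 h2
      refine (mem_scalars_iff _).2 ⟨c, ?_⟩
      rw [Units.val_mul, Units.val_mul, hc, Matrix.mul_smul, Matrix.mul_one, Matrix.smul_mul, Units.mul_inv]
  obtain ⟨l, hl⟩ := hx
  have hmem : l ∈ N := ⟨x, hl.symm, hs⟩
  have := simple_L
  rcases IsSimpleGroup.eq_bot_or_eq_top_of_normal N hN with h | h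
  · rw [h, Subgroup.mem_bot] at hmem
    rw [← hl, hmem, map_one]
  · exfalso
    have h1 : (⟨B 1, B_mem 1⟩ : L) ∈ N := by rw [h]; trivial
    obtain ⟨y, hy, hys⟩ := h1
    rw [psi_B] at hy
    obtain ⟨c, hc⟩ := (mem_scalars_iff _).1 hys
    rcases (pr_eq_iff y.1 (K1Co.e 1)).1 hy with h3 | h3
    · have : y = ⟨K1Co.e 1, e1_mem⟩ := Subtype.ext h3
      rw [this] at hc
      exact rr_e1 D _ hc
    · have : y = ⟨negCo0, neg_mem_Cq⟩ * ⟨K1Co.e 1, e1_mem⟩ := Subtype.ext h3
      rw [this, map_mul, Units.val_mul, rr_neg, Matrix.smul_mul, Matrix.one_mul] at hc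
      refine rr_e1 D (-c) ?_
      rw [neg_smul, ← hc, neg_smul, one_smul, neg_neg]

end rep

end Cfsg.Agent.H931.K1Lift
end

-- part: H931/K1Norm
section
set_option linter.all false
open scoped Cfsg.Agent.FastGrp

/-!
# `SU₃(4)` is not normalised by `G₂(4)`; the outer element (helper931)
-/

set_option autoImplicit false
set_option maxRecDepth 20000

namespace Cfsg.Agent.H931.K1Norm

open Cfsg Cfsg.Geo Cfsg.Agent.SporRec Cfsg.Agent.SporRec.GF4 Cfsg.Agent.StdG24.Mod6 Cfsg.Agent.StdG24.Ord6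
  Cfsg.Agent.SporadicA.Co0Basic Cfsg.Agent.CoOneType.CoEval Cfsg.Agent.H931.K1F16 Cfsg.Agent.H931.K1SU
  Cfsg.Agent.H931.K1Psi Cfsg.Agent.H931.K1Red Cfsg.Agent.H931.K1Grp Cfsg.Agent.H931.K1Aut Cfsg.Agent.H931.K1Quat
  Cfsg.Agent.H931.K1Lift Cfsg.Agent.H915.LD
open scoped commutatorElement
open Cfsg.Agent.SporRec.G24Code (app)

theorem B2_chk : S (gt • S.symm (dec (app (cw (bw 2)) 1))) ≠ dec (app (cw (bw 2)) 7) := by decide +kernel

theorem dec7 : dec 7 = S (gt • S.symm (dec 1)) := by decide +kernel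

theorem B2_not_mem : ¬ ∃ A : SU34, f A = ⟨B 2, B_mem 2⟩ := by
  rintro ⟨A, hA⟩
  have hA' : (f A : GL6) = ev (bw 2) := congrArg Subtype.val hA
  have hs1 : act (ev (bw 2)) (dec 1) = dec (app (cw (bw 2)) 1) := ((isCode_ev (bw 2)).spec 1 (by norm_num)).symm
  have hs7 : act (ev (bw 2)) (dec 7) = dec (app (cw (bw 2)) 7) := ((isCode_ev (bw 2)).spec 7 (by norm_num)).symm
  have h1 := act_f A (dec 1)
  have h7 := act_f A (dec 7)
  rw [hA', hs1] at h1
  rw [hA', hs7, dec7, LinearEquiv.symm_apply_apply, Cfsg.Agent.LieClassical.HermSiegel.act_smul] at h7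
  have h3 : Cfsg.Agent.LieClassical.HermSiegel.act A (S.symm (dec 1)) = S.symm (dec (app (cw (bw 2)) 1)) := by
    rw [h1, LinearEquiv.symm_apply_apply]
  rw [h3] at h7
  exact B2_chk h7.symm

theorem not_normal (h : ∀ (l : L) (A : SU34), ∃ A' : SU34, l * f A * l⁻¹ = f A') : False := by
  have hN : (f.range).Normal := by
    constructor
    rintro n ⟨A, rfl⟩ g
    obtain ⟨A', hA'⟩ := h g A
    exact ⟨A', hA'.symm⟩
  have := simple_L
  rcases IsSimpleGroup.eq_bot_or_eq_top_of_normal _ hN with h | h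
  · obtain ⟨A, hA⟩ := exists_A1
    have h1 : f A ∈ f.range := ⟨A, rfl⟩
    rw [h, Subgroup.mem_bot, hA] at h1
    apply psi_ne
    rw [h1, map_one]
  · have h1 : (⟨B 2, B_mem 2⟩ : L) ∈ f.range := by rw [h]; trivial
    exact B2_not_mem h1

/-- what the maximality argument gives is impossible -/
theorem false_of_norm {F : Type*} [Field F] {ι : Type} [Fintype ι] [DecidableEq ι] (D : Dt F ι)
    (h : ∀ g ∈ G6, ∀ d ∈ Dd, ∀ hg : g ∈ Cq, ∀ hd : d ∈ Cq, ∃ d' ∈ Dd, ∃ hd' : d' ∈ Cq,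
      rr D (⟨g, hg⟩ * ⟨d, hd⟩ * ⟨g, hg⟩⁻¹) = rr D ⟨d', hd'⟩) : False := by
  refine not_normal fun l A => ?_
  obtain ⟨g, hg⟩ := prH_surjective (psi l)
  obtain ⟨d, hd, he⟩ := exists_lift A
  have hgG : g ∈ G6 := ⟨l, hg.symm⟩
  obtain ⟨d', hd', hdC', h1⟩ := h g hgG d hd (G6_le hgG) (Dd_le_Cq hd)
  have hdG : d ∈ G6 := (Dd_le.trans St_le) hd
  have hdG' : d' ∈ G6 := (Dd_le.trans St_le) hd'
  have h2 : prH (g * d * g⁻¹ * d'⁻¹) = 1 := by
    have h3 := prH_of_scalar D (x := ⟨g, G6_le hgG⟩ * ⟨d, Dd_le_Cq hd⟩ * ⟨g, G6_le hgG⟩⁻¹ * ⟨d', hdC'⟩⁻¹)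
      (by
        have : g * d * g⁻¹ * d'⁻¹ ∈ G6 :=
          mul_mem (mul_mem (mul_mem hgG hdG) (inv_mem hgG)) (inv_mem hdG')
        exact this)
      (by rw [map_mul, map_inv, h1, mul_inv_cancel]; exact one_mem _)
    exact h3
  have h4 := Dd_le hd'
  obtain ⟨A', hA'⟩ := h4
  refine ⟨A', psi_injective ?_⟩
  rw [map_mul, map_mul, map_inv, ← hg]
  have h5 : prH d = psi (f A) := he
  have h6 : psi (f A') = prH d' := hA'
  rw [h6, ← h5, ← map_inv, ← map_mul, ← map_mul, ← mul_inv_eq_one, ← map_inv, ← map_mul]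
  exact h2

/-! ### The outer element -/

theorem e6_St {x : Co0} (hx : x ∈ St) : K1Co.e 6 * x * (K1Co.e 6)⁻¹ ∈ St := by
  obtain ⟨A, hA⟩ := hx
  refine ⟨frS A, ?_⟩
  have h1 : prH (K1Co.e 6) = nn := rfl
  rw [map_mul, map_mul, map_inv, ← hA, h1]
  show psi (f (frS A)) = nn * psi (f A) * nn⁻¹
  rw [psi_tau, tau_f]

end Cfsg.Agent.H931.K1Norm
end

-- part: H931/K1Core
section
set_option linter.all false
open scoped Cfsg.Agent.FastGrp

/-!
# The core of degree twelve isomorphic to `SU₃(4)` in the model (helper931)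
-/

set_option autoImplicit false
set_option maxRecDepth 20000

namespace Cfsg.Agent.H931.K1Core

open Cfsg Cfsg.Geo Cfsg.Agent.SporRec Cfsg.Agent.SporRec.GF4 Cfsg.Agent.StdG24.Mod6 Cfsg.Agent.StdG24.Ord6
  Cfsg.Agent.SporadicA.Co0Basic Cfsg.Agent.CoOneType.CoEval Cfsg.Agent.H931.K1F16 Cfsg.Agent.H931.K1SU
  Cfsg.Agent.H931.K1Psi Cfsg.Agent.H931.K1Red Cfsg.Agent.H931.K1Grp Cfsg.Agent.H931.K1Aut Cfsg.Agent.H931.K1Quat
  Cfsg.Agent.H931.K1Lift Cfsg.Agent.H931.K1Norm Cfsg.Agent.H915.LD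
open scoped commutatorElement

theorem exists_equiv {X A B : Type*} [Group X] [Group A] [Group B] (a : X →* A) (b : X →* B)
    (ha : Function.Surjective a) (hb : Function.Surjective b) (h : ∀ x, a x = 1 ↔ b x = 1) :
    ∃ e : A ≃* B, ∀ x, e (a x) = b x := by
  have hk : a.ker = b.ker := by
    ext x
    rw [MonoidHom.mem_ker, MonoidHom.mem_ker]
    exact h x
  refine ⟨(QuotientGroup.quotientKerEquivOfSurjective a ha).symm.trans
    ((QuotientGroup.quotientMulEquivOfEq hk).trans (QuotientGroup.quotientKerEquivOfSurjective b hb)), fun x => ?_⟩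
  have h1 : (QuotientGroup.quotientKerEquivOfSurjective a ha).symm (a x) = (x : X ⧸ a.ker) := by
    rw [MulEquiv.symm_apply_eq]; rfl
  rw [MulEquiv.trans_apply, h1]
  rfl

/-- the lift inside the centraliser -/
noncomputable def X : Subgroup Cq := Dd.subgroupOf Cq

theorem X_perfect : ⁅X, X⁆ = X := by
  apply Subgroup.map_injective Cq.subtype_injective
  rw [Subgroup.map_commutator]
  have h : X.map Cq.subtype = Dd := Subgroup.map_subgroupOf_eq_of_le Dd_le_Cq
  rw [h, Dd_perfect]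

/-- projection -/
noncomputable def th : X →* SU34 := (MonoidHom.ofInjective ph_injective).symm.toMonoidHom.comp
   ((prH.comp (Cq.subtype.comp X.subtype)).codRestrict ph.range (fun x => Dd_le x.2))

theorem ph_th (x : X) : ph (th x) = prH x.1.1 := by
  have h := (MonoidHom.ofInjective ph_injective).apply_symm_apply
    (((prH.comp (Cq.subtype.comp X.subtype)).codRestrict ph.range (fun x => Dd_le x.2)) x)
  exact congrArg Subtype.val h

theorem th_surjective : Function.Surjective th := by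
  intro A
  obtain ⟨g, hg, he⟩ := exists_lift A
  refine ⟨⟨⟨g, Dd_le_Cq hg⟩, hg⟩, ph_injective ?_⟩
  rw [ph_th]
  exact he

theorem th_eq_one_iff (x : X) : th x = 1 ↔ prH x.1.1 = 1 := by
  rw [← ph_th, ← map_one ph, ph_injective.eq_iff]

section rep

variable {F : Type*} [Field F] {ι : Type} [Fintype ι] [DecidableEq ι]

/-- the group of matrices -/
noncomputable def Pp (D : Dt F ι) : Subgroup (GL ι F) := X.map (rr D)

theorem Pp_perfect (D : Dt F ι) : ⁅Pp D, Pp D⁆ = Pp D := by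
  unfold Pp
  rw [← Subgroup.map_commutator, X_perfect]

/-- the map to the quotient -/
noncomputable def q1 (D : Dt F ι) : X →* Soc (Pp D) := (QuotientGroup.mk' _).comp ((rr D).subgroupMap X)

theorem q1_surjective (D : Dt F ι) : Function.Surjective (q1 D) :=
  (QuotientGroup.mk'_surjective _).comp ((rr D).subgroupMap_surjective X)

theorem rr_scalar_of_prH (D : Dt F ι) {x : Cq} (hx : prH x.1 = 1) : rr D x ∈ scalars ι F := by
  rcases (prH_eq_iff x.1 1).1 (hx.trans (map_one prH).symm) with h | h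
  · have : x = 1 := Subtype.ext h
    rw [this, map_one]
    exact one_mem _
  · rw [mul_one] at h
    have : x = ⟨negCo0, neg_mem_Cq⟩ := Subtype.ext h
    rw [this]
    exact (mem_scalars_iff _).2 ⟨-1, by rw [rr_neg]; rfl⟩

theorem q1_eq_one_iff (D : Dt F ι) (x : X) : q1 D x = 1 ↔ th x = 1 := by
  rw [th_eq_one_iff]
  have h1 : q1 D x = 1 ↔ rr D x.1 ∈ scalars ι F := by
    show (QuotientGroup.mk _ : Soc (Pp D)) = 1 ↔ _
    rw [QuotientGroup.eq_one_iff]
    exact Subgroup.mem_subgroupOf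
  rw [h1]
  constructor
  · intro h
    exact prH_of_scalar D ((Dd_le.trans St_le) x.2) h
  · exact rr_scalar_of_prH D

/-- the simple group -/
theorem exists_soc (D : Dt F ι) : ∃ e : Soc (Pp D) ≃* SU34, ∀ x : X, e (q1 D x) = th x :=
  exists_equiv (q1 D) th (q1_surjective D) th_surjective (q1_eq_one_iff D)

theorem SU34_nonabelian : ¬ IsMulCommutative SU34 := by
  intro h
  have h1 : commutator SU34 = ⊥ := by
    rw [commutator_def, Subgroup.commutator_eq_bot_iff_le_centralizer]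
    intro x _ y _
    exact (h.is_comm.comm _ _)
  rw [perfect] at h1
  have := simple
  exact top_ne_bot h1

theorem core (D : Dt F ι) (ha : ActsAbsolutelyIrreducibly (matrixSet (Pp D)))
    (hs : ∀ F₀ : Subfield F, F₀ = ⊤) : Core (Pp D) := by
  obtain ⟨e, -⟩ := exists_soc D
  refine ⟨Pp_perfect D, ?_, ?_, ha, fun F₀ h => absurd (hs F₀) h⟩
  · have := simple
    exact e.isSimpleGroup
  · intro h
    apply SU34_nonabelian
    constructor
    constructor
    intro a b
    apply e.symm.injective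
    rw [map_mul, map_mul]
    exact h.is_comm.comm _ _

/-! ### The splitting -/

theorem neg_not_mem (D : Dt F ι) (hb : (scalars ι F).subgroupOf (Pp D) = ⊥) : negCo0 ∉ Dd := by
  intro h
  have h1 : rr D ⟨negCo0, neg_mem_Cq⟩ ∈ Pp D := ⟨⟨negCo0, neg_mem_Cq⟩, h, rfl⟩
  have h2 : (⟨rr D ⟨negCo0, neg_mem_Cq⟩, h1⟩ : Pp D) ∈ (scalars ι F).subgroupOf (Pp D) :=
    rr_scalar_of_prH D prH_neg
  rw [hb, Subgroup.mem_bot] at h2
  have h3 := congrArg (fun g : Pp D => ((g : GL ι F) : Matrix ι ι F)) h2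
  simp only [rr_neg] at h3
  have h4 : ((1 : Pp D) : GL ι F) = 1 := rfl
  rw [h4, Units.val_one] at h3
  -- `-1 = 1`
  have h5 : D.R * ((-1 : F) • (1 : Matrix GolayPt GolayPt F)) * D.T = (1 : F) • 1 := by
    rw [Matrix.mul_smul, Matrix.mul_one, Matrix.smul_mul, D.hRT, h3, one_smul]
  have h6 := eq_smul_of_r D.h2 (quat D.h2) D.hab D.hTR D.hRT (m := (-1 : F) • 1) (by simp) (by simp) h5
  have : Fintype.card GolayPt = 24 := by decide
  obtain ⟨i⟩ : Nonempty GolayPt := Fintype.card_pos_iff.1 (by rw [this]; norm_num)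
  have h7 := congrFun (congrFun h6 i) i
  rw [Matrix.smul_apply, Matrix.smul_apply, Matrix.one_apply_eq, smul_eq_mul, smul_eq_mul, mul_one, mul_one] at h7
  exact D.h2 (by linear_combination -h7)

theorem th_injective (hneg : negCo0 ∉ Dd) : Function.Injective th := by
  rw [injective_iff_map_eq_one]
  intro x hx
  rw [th_eq_one_iff] at hx
  rcases (prH_eq_iff x.1.1 1).1 (hx.trans (map_one prH).symm) with h | h
  · exact Subtype.ext (Subtype.ext h)
  · rw [mul_one] at h
    exact absurd (h ▸ x.2) hneg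

end rep

end Cfsg.Agent.H931.K1Core
end

-- part: H931/K1Big
section
set_option linter.all false
open scoped Cfsg.Agent.FastGrp

/-!
# The overgroup: `Co₀` and the quaternions (helper931)
-/

set_option autoImplicit false
set_option maxRecDepth 20000

namespace Cfsg.Agent.H931.K1Big

open Cfsg Cfsg.Geo Matrix Cfsg.Agent.SporadicA.Co0Basic Cfsg.Agent.H931.K1Red Cfsg.Agent.H931.K1Quat
  Cfsg.Agent.H931.K1Lift

variable {F : Type*} [Field F]

/-- the basis of the quaternions -/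
noncomputable def bv (F : Type*) [Field F] : Fin 4 → Matrix GolayPt GolayPt F :=
  ![1, K1Red.Im F, K1Red.Jm F, K1Red.Im F * K1Red.Jm F]

/-- the quaternions -/
noncomputable def Qa (F : Type*) [Field F] : Submodule F (Matrix GolayPt GolayPt F) :=
  Submodule.span F (Set.range (bv F))

theorem bv_mem (i : Fin 4) : bv F i ∈ Qa F := Submodule.subset_span ⟨i, rfl⟩

theorem one_mem_Qa : (1 : Matrix GolayPt GolayPt F) ∈ Qa F := bv_mem 0
theorem I_mem_Qa : K1Red.Im F ∈ Qa F := bv_mem 1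
theorem J_mem_Qa : K1Red.Jm F ∈ Qa F := bv_mem 2
theorem IJ_mem_Qa : K1Red.Im F * K1Red.Jm F ∈ Qa F := bv_mem 3

theorem mul_I_mem (h2 : (2 : F) ≠ 0) {x : Matrix GolayPt GolayPt F} (hx : x ∈ Qa F) : x * K1Red.Im F ∈ Qa F := by
  have hQ := quat h2
  refine Submodule.span_induction (p := fun x _ => x * K1Red.Im F ∈ Qa F) ?_ ?_ ?_ ?_ hx
  · rintro _ ⟨i, rfl⟩
    fin_cases i
    · show 1 * K1Red.Im F ∈ Qa F
      rw [one_mul]; exact I_mem_Qa
    · show K1Red.Im F * K1Red.Im F ∈ Qa F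
      rw [hQ.II]; exact Submodule.neg_mem _ one_mem_Qa
    · show K1Red.Jm F * K1Red.Im F ∈ Qa F
      rw [hQ.JI]; exact Submodule.neg_mem _ IJ_mem_Qa
    · show K1Red.Im F * K1Red.Jm F * K1Red.Im F ∈ Qa F
      rw [mul_assoc, hQ.JI, mul_neg, ← mul_assoc, hQ.II, neg_one_mul, neg_neg]; exact J_mem_Qa
  · rw [zero_mul]; exact Submodule.zero_mem _
  · intro x y _ _ hx hy
    rw [add_mul]; exact Submodule.add_mem _ hx hy
  · intro c x _ hx
    rw [smul_mul_assoc]; exact Submodule.smul_mem _ _ hx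

theorem mul_J_mem (h2 : (2 : F) ≠ 0) {x : Matrix GolayPt GolayPt F} (hx : x ∈ Qa F) : x * K1Red.Jm F ∈ Qa F := by
  have hQ := quat h2
  refine Submodule.span_induction (p := fun x _ => x * K1Red.Jm F ∈ Qa F) ?_ ?_ ?_ ?_ hx
  · rintro _ ⟨i, rfl⟩
    fin_cases i
    · show 1 * K1Red.Jm F ∈ Qa F
      rw [one_mul]; exact J_mem_Qa
    · exact IJ_mem_Qa
    · show K1Red.Jm F * K1Red.Jm F ∈ Qa F
      rw [hQ.JJ]; exact Submodule.neg_mem _ one_mem_Qa
    · show K1Red.Im F * K1Red.Jm F * K1Red.Jm F ∈ Qa F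
      rw [mul_assoc, hQ.JJ, mul_neg, mul_one]; exact Submodule.neg_mem _ I_mem_Qa
  · rw [zero_mul]; exact Submodule.zero_mem _
  · intro x y _ _ hx hy
    rw [add_mul]; exact Submodule.add_mem _ hx hy
  · intro c x _ hx
    rw [smul_mul_assoc]; exact Submodule.smul_mem _ _ hx

theorem mul_mem_Qa (h2 : (2 : F) ≠ 0) {x y : Matrix GolayPt GolayPt F} (hx : x ∈ Qa F) (hy : y ∈ Qa F) :
    x * y ∈ Qa F := by
  refine Submodule.span_induction (p := fun y _ => x * y ∈ Qa F) ?_ ?_ ?_ ?_ hy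
  · rintro _ ⟨i, rfl⟩
    fin_cases i
    · show x * 1 ∈ Qa F
      rw [mul_one]; exact hx
    · exact mul_I_mem h2 hx
    · exact mul_J_mem h2 hx
    · show x * (K1Red.Im F * K1Red.Jm F) ∈ Qa F
      rw [← mul_assoc]; exact mul_J_mem h2 (mul_I_mem h2 hx)
  · rw [mul_zero]; exact Submodule.zero_mem _
  · intro y z _ _ hy hz
    rw [mul_add]; exact Submodule.add_mem _ hy hz
  · intro c y _ hy
    rw [mul_smul_comm]; exact Submodule.smul_mem _ _ hy

theorem comm_Qa {m : GL GolayPt F} (hm : m ∈ Z (K1Red.Im F) (K1Red.Jm F)) {x : Matrix GolayPt GolayPt F}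
    (hx : x ∈ Qa F) : (m : Matrix GolayPt GolayPt F) * x = x * m := by
  refine Submodule.span_induction (p := fun x _ => (m : Matrix GolayPt GolayPt F) * x = x * m) ?_ ?_ ?_ ?_ hx
  · rintro _ ⟨i, rfl⟩
    fin_cases i
    · show (m : Matrix GolayPt GolayPt F) * 1 = 1 * m
      rw [mul_one, one_mul]
    · exact hm.1
    · exact hm.2
    · show (m : Matrix GolayPt GolayPt F) * (K1Red.Im F * K1Red.Jm F) = K1Red.Im F * K1Red.Jm F * m
      rw [← mul_assoc, hm.1, mul_assoc, hm.2, ← mul_assoc]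
  · rw [mul_zero, zero_mul]
  · intro y z _ _ hy hz
    rw [mul_add, add_mul, hy, hz]
  · intro c y _ hy
    rw [mul_smul_comm, smul_mul_assoc, hy]

/-- the units of the quaternions -/
noncomputable def Qg (h2 : (2 : F) ≠ 0) : Subgroup (GL GolayPt F) where
  carrier := {q | (q : Matrix GolayPt GolayPt F) ∈ Qa F ∧ ((q⁻¹ : GL GolayPt F) : Matrix GolayPt GolayPt F) ∈ Qa F}
  one_mem' := ⟨by rw [Units.val_one]; exact one_mem_Qa, by rw [inv_one, Units.val_one]; exact one_mem_Qa⟩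
  mul_mem' := by
    rintro x y ⟨hx1, hx2⟩ ⟨hy1, hy2⟩
    exact ⟨by rw [Units.val_mul]; exact mul_mem_Qa h2 hx1 hy1,
      by rw [_root_.mul_inv_rev, Units.val_mul]; exact mul_mem_Qa h2 hy2 hx2⟩
  inv_mem' := by
    rintro x ⟨hx1, hx2⟩
    exact ⟨hx2, by rw [inv_inv]; exact hx1⟩

theorem comm_Qg (h2 : (2 : F) ≠ 0) {m q : GL GolayPt F} (hm : m ∈ Z (K1Red.Im F) (K1Red.Jm F)) (hq : q ∈ Qg h2) :
    m * q = q * m := Units.ext (comm_Qa hm hq.1)

/-- the overgroup -/
noncomputable def MM (h2 : (2 : F) ≠ 0) : Subgroup (Z (K1Red.Im F) (K1Red.Jm F)) where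
  carrier := {m | ∃ n : Co0, ∃ q ∈ Qg h2, (m : GL GolayPt F) = rho h2 n * q}
  one_mem' := ⟨1, 1, one_mem _, by rw [map_one, mul_one]; rfl⟩
  mul_mem' := by
    rintro m m' ⟨n, q, hq, h⟩ ⟨n', q', hq', h'⟩
    refine ⟨n * n', q' * q, mul_mem hq' hq, ?_⟩
    rw [Subgroup.coe_mul, map_mul]
    calc (m : GL GolayPt F) * m' = rho h2 n * (q * (m' : GL GolayPt F)) := by rw [h, mul_assoc]
      _ = rho h2 n * ((m' : GL GolayPt F) * q) := by rw [comm_Qg h2 m'.2 hq]
      _ = rho h2 n * rho h2 n' * (q' * q) := by rw [h']; simp only [mul_assoc]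
  inv_mem' := by
    rintro m ⟨n, q, hq, h⟩
    refine ⟨n⁻¹, q⁻¹, inv_mem hq, ?_⟩
    have h1 : rho h2 n = (m : GL GolayPt F) * q⁻¹ := by rw [h, mul_inv_cancel_right]
    rw [map_inv, h1, _root_.mul_inv_rev, inv_inv, Subgroup.coe_inv, ← comm_Qg h2 (inv_mem m.2) hq,
      mul_inv_cancel_right]

theorem card_Qa_le [Finite F] : Nat.card (Qa F) ≤ Nat.card F ^ 4 := by
  have h1 : Nat.card (Fin 4 → F) = Nat.card F ^ 4 := by rw [Nat.card_fun, Nat.card_fin]
  rw [← h1]
  let g : (Fin 4 → F) → Qa F := fun c => ⟨∑ i, c i • bv F i, Submodule.sum_mem _ fun i _ =>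
    Submodule.smul_mem _ _ (bv_mem i)⟩
  refine Nat.card_le_card_of_surjective g ?_
  rintro ⟨x, hx⟩
  obtain ⟨c, hc⟩ := (Submodule.mem_span_range_iff_exists_fun F).1 hx
  exact ⟨c, Subtype.ext hc⟩

theorem card_MM_le [Finite F] (h2 : (2 : F) ≠ 0) : Nat.card (MM h2) ≤ 8315553613086720000 * Nat.card F ^ 4 := by
  have hfin : Finite Co0 := by
    apply Nat.finite_of_card_ne_zero
    rw [Cfsg.Agent.S0397.result]
    norm_num
  have hfQ : Finite (Qa F) := inferInstance
  have h1 : ∀ m : MM h2, ∃ p : Co0 × Qa F, ((m.1 : GL GolayPt F) : Matrix GolayPt GolayPt F) = rmat F p.1 * p.2 := by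
    rintro ⟨m, n, q, hq, h⟩
    exact ⟨⟨n, ⟨_, hq.1⟩⟩, by
      show ((m : GL GolayPt F) : Matrix GolayPt GolayPt F) = _
      rw [h, Units.val_mul]; rfl⟩
  choose p hp using h1
  have hinj : Function.Injective p := by
    intro m m' h
    apply Subtype.ext
    apply Subtype.ext
    apply Units.ext
    rw [hp, hp, h]
  have h3 := Nat.card_le_card_of_injective p hinj
  rw [Nat.card_prod, Cfsg.Agent.S0397.result] at h3
  exact h3.trans (Nat.mul_le_mul_left _ card_Qa_le)

theorem rZ_mem (h2 : (2 : F) ≠ 0) (x : Cq) : rZ h2 x ∈ MM h2 := ⟨x.1, 1, one_mem _, by rw [mul_one]; rfl⟩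

theorem u0_mem (h2 : (2 : F) ≠ 0) : u0 h2 ∈ Qg h2 := by
  have h : K1Red.Jm F - K1Red.Im F * K1Red.Jm F ∈ Qa F := Submodule.sub_mem _ J_mem_Qa IJ_mem_Qa
  exact ⟨h, Submodule.smul_mem _ _ h⟩

theorem n0_mem_MM (h2 : (2 : F) ≠ 0) : (⟨n0 h2, n0_mem h2⟩ : Z (K1Red.Im F) (K1Red.Jm F)) ∈ MM h2 :=
  ⟨K1Co.e 6, u0 h2, u0_mem h2, rfl⟩

/-- the scalars -/
def sc (c : Fˣ) : GL GolayPt F := Units.map (Matrix.scalar GolayPt : F →+* Matrix GolayPt GolayPt F).toMonoidHom c

theorem sc_val (c : Fˣ) : (sc c : Matrix GolayPt GolayPt F) = (c : F) • 1 := by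
  rw [Matrix.smul_one_eq_diagonal]; rfl

theorem sc_inv_val (c : Fˣ) : (((sc c)⁻¹ : GL GolayPt F) : Matrix GolayPt GolayPt F) = ((c⁻¹ : Fˣ) : F) • 1 := by
  have : (sc c)⁻¹ = sc c⁻¹ := (map_inv _ _).symm
  rw [this, sc_val]

theorem sc_mem_Z (c : Fˣ) : sc c ∈ Z (K1Red.Im F) (K1Red.Jm F) := by
  constructor <;> rw [sc_val, smul_mul_assoc, one_mul, mul_smul_comm, mul_one]

theorem sc_mem_MM (h2 : (2 : F) ≠ 0) (c : Fˣ) : (⟨sc c, sc_mem_Z c⟩ : Z (K1Red.Im F) (K1Red.Jm F)) ∈ MM h2 :=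
  ⟨1, sc c, ⟨by rw [sc_val]; exact Submodule.smul_mem _ _ one_mem_Qa,
    by rw [sc_inv_val]; exact Submodule.smul_mem _ _ one_mem_Qa⟩, by rw [map_one, one_mul]⟩

section rep

variable {ι : Type} [Fintype ι] [DecidableEq ι]

/-- the overgroup in dimension twelve -/
noncomputable def MW (D : Dt F ι) : Subgroup (GL ι F) := (MM D.h2).map (rW D.hTR D.hRT)

theorem card_MW_le [Finite F] (D : Dt F ι) : Nat.card (MW D) ≤ 8315553613086720000 * Nat.card F ^ 4 := by
  refine le_trans ?_ (card_MM_le D.h2)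
  have hf : Finite (MM D.h2) := inferInstance
  exact Nat.card_le_card_of_surjective _ ((rW D.hTR D.hRT).subgroupMap_surjective (MM D.h2))

theorem rr_mem (D : Dt F ι) (x : Cq) : rr D x ∈ MW D := ⟨rZ D.h2 x, rZ_mem D.h2 x, rfl⟩

/-- the outer element in dimension twelve -/
noncomputable def Nn (D : Dt F ι) : GL ι F := rW D.hTR D.hRT ⟨n0 D.h2, n0_mem D.h2⟩

theorem Nn_mem (D : Dt F ι) : Nn D ∈ MW D := ⟨_, n0_mem_MM D.h2, rfl⟩

theorem scalar_mem (D : Dt F ι) {s : GL ι F} (hs : s ∈ scalars ι F) : s ∈ MW D := by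
  obtain ⟨c, hc⟩ := (mem_scalars_iff _).1 hs
  refine ⟨⟨sc c, sc_mem_Z c⟩, sc_mem_MM D.h2 c, ?_⟩
  apply Units.ext
  rw [rW_val, hc]
  show D.R * (sc c : Matrix GolayPt GolayPt F) * D.T = _
  rw [sc_val, Matrix.mul_smul, Matrix.mul_one, Matrix.smul_mul, D.hRT]

/-! ### The outer automorphism -/

theorem e6_Dd {x : Co0} (hx : x ∈ Dd) : K1Co.e 6 * x * (K1Co.e 6)⁻¹ ∈ Dd := by
  have h : Dd ≤ Dd.comap (MulAut.conj (K1Co.e 6)).toMonoidHom := by
    conv_lhs => unfold Dd
    rw [Subgroup.commutator_le]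
    intro a ha b hb
    show MulAut.conj (K1Co.e 6) _ ∈ Dd
    rw [commutatorElement_def, map_mul, map_mul, map_mul, map_inv, map_inv]
    exact Subgroup.commutator_mem_commutator (K1Norm.e6_St ha) (K1Norm.e6_St hb)
  exact h hx

theorem Nn_conj (D : Dt F ι) (x : Cq) (y : Cq) (hy : y.1 = K1Co.e 6 * x.1 * (K1Co.e 6)⁻¹) :
    Nn D * rr D x * (Nn D)⁻¹ = rr D y := by
  unfold Nn rr
  rw [MonoidHom.comp_apply, MonoidHom.comp_apply, ← map_inv, ← map_mul, ← map_mul]
  congr 1
  apply Subtype.ext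
  show n0 D.h2 * rho D.h2 x.1 * (n0 D.h2)⁻¹ = rho D.h2 y.1
  have hx : rho D.h2 x.1 ∈ Z (K1Red.Im F) (K1Red.Jm F) := rho_mem D.h2 x.2
  rw [hy, map_mul, map_mul, map_inv]
  unfold n0
  rw [_root_.mul_inv_rev, mul_assoc (rho D.h2 (K1Co.e 6)), ← u0_comm D.h2 hx]
  group

end rep

end Cfsg.Agent.H931.K1Big

private theorem dce_de0dfa4b6d3f : _root_.True := by
  try have : _root_.True := by simp only [_root_.Cfsg.Agent.H931.K1Red.u0.congr_simp]
  try have : _root_.True := by simp only [_root_.Cfsg.Agent.H931.K1Red.rho.congr_simp]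
  exact _root_.True.intro
end

-- part: H931/K1Main
section
set_option linter.all false
open scoped Cfsg.Agent.FastGrp

/-!
# `U₃(4)` in `Sp₁₂(p)` is not maximal (helper931)
-/

set_option autoImplicit false
set_option maxRecDepth 20000

namespace Cfsg.Agent.H931.K1Main

open Cfsg Cfsg.Geo Matrix Cfsg.Agent.SporadicA.Co0Basic Cfsg.Agent.H931.K1Red Cfsg.Agent.H931.K1Quat
  Cfsg.Agent.H931.K1Lift Cfsg.Agent.H931.K1Core Cfsg.Agent.H931.K1Big Cfsg.Agent.H931.K1Grp Cfsg.Agent.H931.K1Aut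
  Cfsg.Agent.H931.K1SU Cfsg.Agent.H931.K1F16 Cfsg.Agent.H931.K1Norm

section rep

variable {F : Type*} [Field F] {ι : Type} [Fintype ι] [DecidableEq ι]

/-- the lift of `SU₃(4)` -/
noncomputable def lam (hneg : negCo0 ∉ Dd) : SU34 ≃* X :=
  (MulEquiv.ofBijective th ⟨th_injective hneg, th_surjective⟩).symm

theorem th_lam (hneg : negCo0 ∉ Dd) (A : SU34) : th (lam hneg A) = A :=
  (MulEquiv.ofBijective th ⟨th_injective hneg, th_surjective⟩).apply_symm_apply A

theorem lam_th (hneg : negCo0 ∉ Dd) (x : X) : lam hneg (th x) = x :=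
  (MulEquiv.ofBijective th ⟨th_injective hneg, th_surjective⟩).symm_apply_apply x

/-- the representation of `SU₃(4)` in the model -/
noncomputable def rp (D : Dt F ι) (hneg : negCo0 ∉ Dd) : SU34 →* GL ι F :=
  (rr D).comp (X.subtype.comp (lam hneg).toMonoidHom)

theorem rp_apply (D : Dt F ι) (hneg : negCo0 ∉ Dd) (A : SU34) : rp D hneg A = rr D (lam hneg A).1 := rfl

theorem rp_th (D : Dt F ι) (hneg : negCo0 ∉ Dd) (x : X) : rp D hneg (th x) = rr D x.1 := by
  rw [rp_apply, lam_th]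

theorem rp_mem_MW (D : Dt F ι) (hneg : negCo0 ∉ Dd) (A : SU34) : rp D hneg A ∈ MW D := rr_mem D _

theorem Nn_rp (D : Dt F ι) (hneg : negCo0 ∉ Dd) (A : SU34) :
    Nn D * rp D hneg A * (Nn D)⁻¹ = rp D hneg (frS A) := by
  set x : X := lam hneg A with hx
  have h1 : K1Co.e 6 * x.1.1 * (K1Co.e 6)⁻¹ ∈ Dd := e6_Dd x.2
  let y : X := ⟨⟨K1Co.e 6 * x.1.1 * (K1Co.e 6)⁻¹, Dd_le_Cq h1⟩, h1⟩
  have h2 : th y = frS A := by
    apply ph_injective
    rw [ph_th]
    show prH (K1Co.e 6 * x.1.1 * (K1Co.e 6)⁻¹) = K1Psi.psi (f (frS A))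
    rw [map_mul, map_mul, map_inv, ← ph_th, hx, th_lam, ← tau_f, ← K1Psi.psi_tau]
    rfl
  rw [← h2, rp_th, rp_apply, ← hx]
  exact Nn_conj D x.1 y.1 rfl

theorem Nn_pow_rp (D : Dt F ι) (hneg : negCo0 ∉ Dd) (i : ℕ) (A : SU34) :
    Nn D ^ i * rp D hneg A * (Nn D ^ i)⁻¹ = rp D hneg ((frS ^ i : MulAut SU34) A) := by
  induction i generalizing A with
  | zero => simp
  | succ i ih =>
    have h1 : (frS ^ (i + 1) : MulAut SU34) A = (frS ^ i : MulAut SU34) (frS A) := by
      rw [pow_succ]; rfl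
    rw [h1, ← ih, ← Nn_rp, pow_succ]
    group

end rep

/-! ### The form -/

section form

variable {F : Type*} [Field F]

/-- the index type -/
abbrev I12 := Fin 6 ⊕ Fin 6

theorem mem_sp_iff {g : GL I12 F} : g ∈ spGL 6 F ↔
    (g : Matrix I12 I12 F)ᵀ * Matrix.J (Fin 6) F * (g : Matrix I12 I12 F) = Matrix.J (Fin 6) F := by
  have h1 : ∀ u v : I12 → F, sympForm 6 F ((g : Matrix I12 I12 F) *ᵥ u) ((g : Matrix I12 I12 F) *ᵥ v) =
      u ⬝ᵥ (((g : Matrix I12 I12 F)ᵀ * Matrix.J (Fin 6) F * (g : Matrix I12 I12 F)) *ᵥ v) := by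
    intro u v
    show ((g : Matrix I12 I12 F) *ᵥ u) ⬝ᵥ (Matrix.J (Fin 6) F *ᵥ ((g : Matrix I12 I12 F) *ᵥ v)) = _
    rw [Matrix.mul_assoc, ← Matrix.mulVec_mulVec, Matrix.dotProduct_mulVec u, Matrix.vecMul_transpose,
      Matrix.mulVec_mulVec]
  constructor
  · intro h
    ext i j
    have h2 := h1 (Pi.single i 1) (Pi.single j 1)
    have h3 : sympForm 6 F ((g : Matrix I12 I12 F) *ᵥ Pi.single i 1) ((g : Matrix I12 I12 F) *ᵥ Pi.single j 1) =
      sympForm 6 F (Pi.single i 1) (Pi.single j 1) := h _ _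
    rw [h3] at h2
    have h4 : sympForm 6 F (Pi.single i 1) (Pi.single j 1) =
      (Pi.single i 1 : I12 → F) ⬝ᵥ (Matrix.J (Fin 6) F *ᵥ Pi.single j 1) := rfl
    rw [h4] at h2
    simp only [Matrix.mulVec_single_one, single_one_dotProduct, Matrix.col_apply] at h2
    exact h2.symm
  · intro h u v
    show sympForm 6 F ((g : Matrix I12 I12 F) *ᵥ u) ((g : Matrix I12 I12 F) *ᵥ v) = _
    rw [h1, h]
    rfl

theorem form_eq {P : Subgroup (GL I12 F)} (ha : ActsAbsolutelyIrreducibly (matrixSet P)) (hP : P ≤ spGL 6 F)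
    {B : Matrix I12 I12 F} (hB : ∀ x ∈ P, (x : Matrix I12 I12 F)ᵀ * B * (x : Matrix I12 I12 F) = B) :
    ∃ c : F, B = c • Matrix.J (Fin 6) F := by
  have hJJ : Matrix.J (Fin 6) F * -Matrix.J (Fin 6) F = 1 := by
    rw [mul_neg, Matrix.J_squared, neg_neg]
  have hJJ' : -Matrix.J (Fin 6) F * Matrix.J (Fin 6) F = 1 := by
    rw [neg_mul, Matrix.J_squared, neg_neg]
  have h1 : ∀ s ∈ matrixSet P, (-Matrix.J (Fin 6) F * B) * s = s * (-Matrix.J (Fin 6) F * B) := by
    rintro _ ⟨x, hx, rfl⟩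
    show (-Matrix.J (Fin 6) F * B) * (x : Matrix I12 I12 F) = (x : Matrix I12 I12 F) * (-Matrix.J (Fin 6) F * B)
    have h2 := mem_sp_iff.1 (hP hx)
    have h3 := hB x hx
    have h4 : (-Matrix.J (Fin 6) F * (x : Matrix I12 I12 F)ᵀ * Matrix.J (Fin 6) F) * (x : Matrix I12 I12 F) = 1 := by
      calc _ = -Matrix.J (Fin 6) F * ((x : Matrix I12 I12 F)ᵀ * Matrix.J (Fin 6) F * (x : Matrix I12 I12 F)) := by
            simp only [Matrix.mul_assoc]
        _ = 1 := by rw [h2, hJJ']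
    have h5 := mul_eq_one_comm.1 h4
    have h6 : (x : Matrix I12 I12 F) * -Matrix.J (Fin 6) F * (x : Matrix I12 I12 F)ᵀ = -Matrix.J (Fin 6) F := by
      calc (x : Matrix I12 I12 F) * -Matrix.J (Fin 6) F * (x : Matrix I12 I12 F)ᵀ =
          ((x : Matrix I12 I12 F) * (-Matrix.J (Fin 6) F * (x : Matrix I12 I12 F)ᵀ * Matrix.J (Fin 6) F)) *
            -Matrix.J (Fin 6) F := by
            simp only [Matrix.mul_assoc]
            rw [hJJ, Matrix.mul_one]
        _ = -Matrix.J (Fin 6) F := by rw [h5, Matrix.one_mul]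
    symm
    calc (x : Matrix I12 I12 F) * (-Matrix.J (Fin 6) F * B) =
        (x : Matrix I12 I12 F) * -Matrix.J (Fin 6) F * (x : Matrix I12 I12 F)ᵀ * B * (x : Matrix I12 I12 F) := by
          conv_lhs => rw [← h3]
          simp only [Matrix.mul_assoc]
      _ = _ := by rw [h6]
  obtain ⟨c, hc⟩ := ha.2 _ h1
  refine ⟨c, ?_⟩
  calc B = Matrix.J (Fin 6) F * -Matrix.J (Fin 6) F * B := by rw [hJJ, Matrix.one_mul]
    _ = c • Matrix.J (Fin 6) F := by rw [Matrix.mul_assoc, hc, Matrix.mul_smul, Matrix.mul_one]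

/-- the transported form -/
noncomputable def Bj (D : Dt F I12) (J0 : GL I12 F) : Matrix I12 I12 F :=
  (J0 : Matrix I12 I12 F)ᵀ * Bf (K1Red.Im F) (K1Red.Jm F) D.a D.b D.T * (J0 : Matrix I12 I12 F)

theorem Bj_inv (D : Dt F I12) (J0 : GL I12 F) (g : Cq) :
    ((J0⁻¹ * rr D g * J0 : GL I12 F) : Matrix I12 I12 F)ᵀ * Bj D J0 *
      ((J0⁻¹ * rr D g * J0 : GL I12 F) : Matrix I12 I12 F) = Bj D J0 := by
  set r : Matrix I12 I12 F := ((rr D g : GL I12 F) : Matrix I12 I12 F) with hr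
  set x : Matrix I12 I12 F := ((J0⁻¹ * rr D g * J0 : GL I12 F) : Matrix I12 I12 F) with hx
  have h1 : (J0 : Matrix I12 I12 F) * x = r * J0 := by
    rw [hx, hr, ← Units.val_mul, ← Units.val_mul]
    congr 1
    group
  have h2 : rᵀ * Bf (K1Red.Im F) (K1Red.Jm F) D.a D.b D.T * r = Bf (K1Red.Im F) (K1Red.Jm F) D.a D.b D.T := by
    have hm := rho_mem D.h2 g.2
    exact Bf_inv D.hTR D.hRT hm.1 hm.2 (rmat_orth D.h2 g.1)
  unfold Bj
  calc xᵀ * ((J0 : Matrix I12 I12 F)ᵀ * Bf (K1Red.Im F) (K1Red.Jm F) D.a D.b D.T * (J0 : Matrix I12 I12 F)) * x =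
      ((J0 : Matrix I12 I12 F) * x)ᵀ * Bf (K1Red.Im F) (K1Red.Jm F) D.a D.b D.T * ((J0 : Matrix I12 I12 F) * x) := by
        rw [Matrix.transpose_mul]
        simp only [Matrix.mul_assoc]
    _ = (J0 : Matrix I12 I12 F)ᵀ * (rᵀ * Bf (K1Red.Im F) (K1Red.Jm F) D.a D.b D.T * r) * (J0 : Matrix I12 I12 F) := by
        rw [h1, Matrix.transpose_mul]
        simp only [Matrix.mul_assoc]
    _ = _ := by rw [h2]

theorem Bj_ne (D : Dt F I12) (J0 : GL I12 F) : Bj D J0 ≠ 0 := by
  intro h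
  have h1 : Bf (K1Red.Im F) (K1Red.Jm F) D.a D.b D.T = 0 := by
    have h2 : ((J0⁻¹ : GL I12 F) : Matrix I12 I12 F)ᵀ * Bj D J0 * ((J0⁻¹ : GL I12 F) : Matrix I12 I12 F) =
        Bf (K1Red.Im F) (K1Red.Jm F) D.a D.b D.T := by
      have h3 : ((J0⁻¹ : GL I12 F) : Matrix I12 I12 F)ᵀ * (J0 : Matrix I12 I12 F)ᵀ = 1 := by
        rw [← Matrix.transpose_mul, ← Units.val_mul, mul_inv_cancel, Units.val_one, Matrix.transpose_one]
      have h4 : (J0 : Matrix I12 I12 F) * ((J0⁻¹ : GL I12 F) : Matrix I12 I12 F) = 1 := by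
        rw [← Units.val_mul, mul_inv_cancel, Units.val_one]
      unfold Bj
      calc _ = ((J0⁻¹ : GL I12 F) : Matrix I12 I12 F)ᵀ * (J0 : Matrix I12 I12 F)ᵀ *
            Bf (K1Red.Im F) (K1Red.Jm F) D.a D.b D.T *
            ((J0 : Matrix I12 I12 F) * ((J0⁻¹ : GL I12 F) : Matrix I12 I12 F)) := by
              simp only [Matrix.mul_assoc]
        _ = _ := by rw [h3, h4, Matrix.one_mul, Matrix.mul_one]
    rw [← h2, h, Matrix.mul_zero, Matrix.zero_mul]
  have h5 := Bf_unit D.h2 (quat D.h2) D.hab (Im_transpose D.h2) (Jm_transpose D.h2) D.hTR D.hRT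
  rw [h1, Matrix.zero_mul] at h5
  have h6 := congrFun (congrFun h5 (Sum.inl 0)) (Sum.inl 0)
  rw [Matrix.one_apply_eq] at h6
  exact zero_ne_one h6

end form

/-! ### The final argument -/

section final

variable {F : Type*} [Field F]

theorem card_sp_gt [Finite F] (h3 : 3 ≤ Nat.card F) :
    8315553613086720000 * Nat.card F ^ 4 < Nat.card (spGL 6 F) := by
  rw [Cfsg.Agent.H955.card_spGL]
  set q := Nat.card F with hq
  have h1 : ∀ i : ℕ, 1 ≤ q ^ (2 * (i + 1)) - 1 := by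
    intro i
    have : 2 ≤ q ^ (2 * (i + 1)) := by
      calc 2 ≤ 3 := by norm_num
        _ ≤ q := h3
        _ ≤ q ^ (2 * (i + 1)) := Nat.le_self_pow (by omega) q
    omega
  have h2 : ∀ i : ℕ, q ^ (2 * i + 1) ≤ q ^ (2 * (i + 1)) - 1 := by
    intro i
    have h4 : q ^ (2 * (i + 1)) = q ^ (2 * i + 1) * q := by
      rw [← pow_succ]; ring_nf
    have h5 : 1 ≤ q ^ (2 * i + 1) := Nat.one_le_pow _ _ (by omega)
    rw [h4]
    have h6 : q ^ (2 * i + 1) * 3 ≤ q ^ (2 * i + 1) * q := Nat.mul_le_mul_left _ h3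
    omega
  have h4 : q ^ 36 ≤ ∏ i ∈ Finset.range 6, (q ^ (2 * (i + 1)) - 1) := by
    calc q ^ 36 = ∏ i ∈ Finset.range 6, q ^ (2 * i + 1) := by
          rw [Finset.prod_pow_eq_pow_sum]
          rfl
      _ ≤ _ := Finset.prod_le_prod' fun i _ => h2 i
  have h5 : 8315553613086720000 < q ^ 68 := by
    calc 8315553613086720000 < 3 ^ 68 := by norm_num
      _ ≤ q ^ 68 := Nat.pow_le_pow_left h3 _
  calc 8315553613086720000 * q ^ 4 < q ^ 68 * q ^ 4 := Nat.mul_lt_mul_of_pos_right h5 (by positivity)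
    _ = q ^ (6 ^ 2) * q ^ 36 := by rw [← pow_add, ← pow_add]; norm_num
    _ ≤ _ := Nat.mul_le_mul_left _ h4

theorem main [Finite F] {H P : Subgroup (GL I12 F)} (hH : IsMaximalIn (spGL 6 F) H) (hR : IsResidualCore H P)
    (D : Dt F I12) (hneg : negCo0 ∉ Dd) (ρ : SU34 →* GL I12 F) (hρ : ρ.range = P) (hinj : Function.Injective ρ)
    (J0 : GL I12 F) (hJ : ∀ A, rp D hneg A = J0 * ρ A * J0⁻¹) : False := by
  have hJ' : ∀ A, ρ A = J0⁻¹ * rp D hneg A * J0 := by
    intro A
    rw [hJ]; group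
  have h3 : 3 ≤ Nat.card F := by
    have := Fintype.ofFinite F
    rw [Nat.card_eq_fintype_card]
    have h2 : 2 ≤ Fintype.card F := Fintype.one_lt_card
    rcases h2.lt_or_eq with h | h
    · exact h
    · exfalso
      apply D.h2
      have := FiniteField.cast_card_eq_zero F
      rw [← h] at this
      exact_mod_cast this
  -- the overgroup
  let M1 : Subgroup (GL I12 F) := spGL 6 F ⊓ (MW D).comap (MulAut.conj J0).toMonoidHom
  have hM1 : ∀ x, x ∈ M1 ↔ x ∈ spGL 6 F ∧ J0 * x * J0⁻¹ ∈ MW D := fun x => Iff.rfl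
  have hPmem : ∀ A, ρ A ∈ P := fun A => by rw [← hρ]; exact ⟨A, rfl⟩
  have hHM : H ≤ M1 := by
    intro h hh
    rw [hM1]
    refine ⟨hH.1.le hh, ?_⟩
    -- the automorphism
    have hn : ∀ A, h * ρ A * h⁻¹ ∈ ρ.range := by
      intro A
      rw [hρ]
      exact hR.normal h hh _ (hPmem A)
    let α₀ : SU34 →* SU34 := (MonoidHom.ofInjective hinj).symm.toMonoidHom.comp
      (((MulAut.conj h).toMonoidHom.comp ρ).codRestrict ρ.range hn)
    have hα₀ : ∀ A, ρ (α₀ A) = h * ρ A * h⁻¹ := by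
      intro A
      have h1 := (MonoidHom.ofInjective hinj).apply_symm_apply
        ((((MulAut.conj h).toMonoidHom.comp ρ).codRestrict ρ.range hn) A)
      exact congrArg Subtype.val h1
    have hα₀i : Function.Injective α₀ := by
      rw [injective_iff_map_eq_one]
      intro A hA
      have h1 := hα₀ A
      rw [hA, map_one] at h1
      have h4 : ρ A = 1 := by
        have h5 : h⁻¹ * (h * ρ A * h⁻¹) * h = h⁻¹ * 1 * h := by rw [← h1]
        simpa [mul_assoc] using h5
      exact hinj (h4.trans (map_one ρ).symm)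
    let α : MulAut SU34 := MulEquiv.ofBijective α₀ (Finite.injective_iff_bijective.1 hα₀i)
    obtain ⟨C, i, hC⟩ := aut_su α
    set y := J0 * h * J0⁻¹ with hy
    have h5 : ∀ A, y * rp D hneg A * y⁻¹ = rp D hneg (α₀ A) := by
      intro A
      rw [hJ A, hJ (α₀ A), hα₀, hy]
      group
    set g := rp D hneg C * Nn D ^ i with hg
    have h6 : ∀ A, g * rp D hneg A * g⁻¹ = rp D hneg (α₀ A) := by
      intro A
      have h7 : α₀ A = C * ((frS ^ i : MulAut SU34) A) * C⁻¹ := hC A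
      rw [h7, map_mul, map_mul, map_inv, ← Nn_pow_rp, hg]
      group
    have h8 : J0⁻¹ * (g⁻¹ * y) * J0 ∈ scalars I12 F := by
      apply Cfsg.Agent.H920.mem_scalars_of_comm' hR.absIrred
      intro x hx
      rw [← hρ] at hx
      obtain ⟨A, rfl⟩ := hx
      rw [hJ' A]
      have h9 : g⁻¹ * y * rp D hneg A = rp D hneg A * (g⁻¹ * y) := by
        have h10 : y * rp D hneg A * y⁻¹ = g * rp D hneg A * g⁻¹ := by rw [h5, h6]
        have h11 : y * rp D hneg A = g * rp D hneg A * g⁻¹ * y := by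
          rw [← h10]; group
        rw [mul_assoc, h11]; group
      calc J0⁻¹ * (g⁻¹ * y) * J0 * (J0⁻¹ * rp D hneg A * J0) = J0⁻¹ * (g⁻¹ * y * rp D hneg A) * J0 := by group
        _ = J0⁻¹ * rp D hneg A * J0 * (J0⁻¹ * (g⁻¹ * y) * J0) := by rw [h9]; group
    have h12 : g⁻¹ * y ∈ scalars I12 F := by
      obtain ⟨c, hc⟩ := (mem_scalars_iff _).1 h8
      refine (mem_scalars_iff _).2 ⟨c, ?_⟩
      have h13 : g⁻¹ * y = J0 * (J0⁻¹ * (g⁻¹ * y) * J0) * J0⁻¹ := by group
      rw [h13, Units.val_mul, Units.val_mul, hc, Matrix.mul_smul, Matrix.mul_one, Matrix.smul_mul, Units.mul_inv]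
    have h14 : y = g * (g⁻¹ * y) := by group
    rw [h14]
    exact mul_mem (mul_mem (rp_mem_MW D hneg C) (pow_mem (Nn_mem D) i)) (scalar_mem D h12)
  have hM1H : M1 = H := by
    rcases hH.2 M1 hHM inf_le_left with h | h
    · exact h
    · exfalso
      have h1 : Nat.card (spGL 6 F) ≤ Nat.card (MW D) := by
        have h4 : ∀ x : spGL 6 F, J0 * x.1 * J0⁻¹ ∈ MW D := by
          intro x
          have h5 : x.1 ∈ M1 := by rw [h]; exact x.2
          exact h5.2
        refine Nat.card_le_card_of_injective (fun x : spGL 6 F => (⟨J0 * x.1 * J0⁻¹, h4 x⟩ : MW D)) ?_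
        intro x y hxy
        have h5 := congrArg Subtype.val hxy
        simp only at h5
        exact Subtype.ext (mul_left_cancel (mul_right_cancel h5))
      have h4 := card_MW_le D
      have h5 := card_sp_gt h3
      omega
  -- the form
  have hsp : ∀ g : Cq, J0⁻¹ * rr D g * J0 ∈ spGL 6 F := by
    obtain ⟨c, hc⟩ := form_eq hR.absIrred (hR.le.trans hH.1.le) (B := Bj D J0) (by
      intro x hx
      rw [← hρ] at hx
      obtain ⟨A, rfl⟩ := hx
      rw [hJ', rp_apply]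
      exact Bj_inv D J0 _)
    have hc0 : c ≠ 0 := by
      rintro rfl
      rw [zero_smul] at hc
      exact Bj_ne D J0 hc
    intro g
    rw [mem_sp_iff]
    have h1 := Bj_inv D J0 g
    rw [hc, Matrix.mul_smul, Matrix.smul_mul] at h1
    exact smul_right_injective _ hc0 h1
  refine false_of_norm D fun g hg d hd hgC hdC => ?_
  have h1 : J0⁻¹ * rr D ⟨g, hgC⟩ * J0 ∈ H := by
    rw [← hM1H, hM1]
    refine ⟨hsp _, ?_⟩
    have : J0 * (J0⁻¹ * rr D ⟨g, hgC⟩ * J0) * J0⁻¹ = rr D ⟨g, hgC⟩ := by group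
    rw [this]
    exact rr_mem D _
  let x : X := ⟨⟨d, hdC⟩, hd⟩
  have h2 := hR.normal _ h1 _ (hPmem (th x))
  rw [← hρ] at h2
  obtain ⟨A', hA'⟩ := h2
  refine ⟨(lam hneg A').1.1, (lam hneg A').2, (lam hneg A').1.2, ?_⟩
  show _ = rp D hneg A'
  have hx : (x : Cq) = ⟨d, hdC⟩ := rfl
  rw [hJ, hA', hJ', rp_th, map_mul, map_mul, map_inv, hx]
  group

end final

end Cfsg.Agent.H931.K1Main

private theorem dce_5c4db09ecffb : _root_.True := by
  try have : _root_.True := by simp only [_root_.Cfsg.Agent.H931.K1Main.rp.congr_simp]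
  exact _root_.True.intro
end

-- part: H920/Sz12/KFour
section
set_option linter.all false
open scoped Cfsg.Agent.FastGrp

/-!
# K4: `2.G₂(4)` is not a core of a maximal subgroup of `Sp₁₂(3)` (helper920)
-/

set_option autoImplicit false
set_option linter.style.haveILetI false

namespace Cfsg.Agent.H920.Sz12

open Matrix Cfsg Cfsg.Geo
open Cfsg.Agent.H915.LD (Core Soc toSoc toSoc_surjective)

universe u

section cover

variable {ι : Type} [Fintype ι] [DecidableEq ι] {F : Type u} [Field F] [Finite F] {P P' : Subgroup (GL ι F)}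

/-- Two cores with the same simple quotient whose scalars make up the whole Schur multiplier are isomorphic. -/
theorem exists_iso (hC : Core P) (hC' : Core P') (e : Soc P ≃* Soc P') {n : ℕ}
    (hA : HasSchurMultiplier (Soc P) (Multiplicative (ZMod n))) (hn : Nat.card ((scalars ι F).subgroupOf P) = n)
    (hn' : Nat.card ((scalars ι F).subgroupOf P') = n) : Nonempty (P ≃* P') := by
  have hperf : ∀ {R : Subgroup (GL ι F)}, ⁅R, R⁆ = R → commutator R = ⊤ := by
    intro R h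
    apply Subgroup.map_injective R.subtype_injective
    rw [commutator_def, Subgroup.map_commutator, ← MonoidHom.range_eq_map, Subgroup.range_subtype, h]
  have hab : Nat.card (Abelianization (Soc P)) = 1 := by
    have h1 : commutator (Soc P) = ⊤ := by
      rw [commutator_def]
      have h2 : (⊤ : Subgroup (Soc P)) = (⊤ : Subgroup P).map (toSoc P) :=
        (Subgroup.map_top_of_surjective _ (toSoc_surjective P)).symm
      rw [h2, ← Subgroup.map_commutator, ← commutator_def, hperf hC.perfect]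
    have h3 : Nat.card (Abelianization (Soc P)) = (commutator (Soc P)).index := rfl
    rw [h3, h1, Subgroup.index_top]
  have hcop : Nat.Coprime (Nat.card (Abelianization (Soc P))) (Nat.card (Multiplicative (ZMod n))) := by
    rw [hab]; exact Nat.coprime_one_left _
  let σ₁ : P →* Soc P := toSoc P
  let σ₂ : P' →* Soc P := e.symm.toMonoidHom.comp (toSoc P')
  have hk₁ : σ₁.ker = (scalars ι F).subgroupOf P := QuotientGroup.ker_mk' _
  have hk₂ : σ₂.ker = (scalars ι F).subgroupOf P' := by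
    have : σ₂.ker = (toSoc P').ker := by
      ext x
      simp only [MonoidHom.mem_ker, σ₂, MonoidHom.comp_apply]
      exact e.symm.map_eq_one_iff
    rw [this]
    exact QuotientGroup.ker_mk' _
  have hs₁ : IsStemExtension σ₁ := by
    refine ⟨toSoc_surjective P, ?_, ?_⟩
    · rw [hk₁, scalars_eq_center hC.absIrred]
    · rw [hperf hC.perfect]; exact le_top
  have hs₂ : IsStemExtension σ₂ := by
    refine ⟨e.symm.surjective.comp (toSoc_surjective P'), ?_, ?_⟩
    · rw [hk₂, scalars_eq_center hC'.absIrred]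
    · rw [hperf hC'.perfect]; exact le_top
  have hcyc : ∀ {R : Subgroup (GL ι F)} {s : Subgroup R}, s = (scalars ι F).subgroupOf R → Core R → Nat.card s = n →
      Nonempty (s ≃* Multiplicative (ZMod n)) := by
    intro R s hs hR hcard
    subst hs
    haveI : Nonempty ι := hR.nonempty
    have hinj : Function.Injective (fun z : (scalars ι F).subgroupOf R =>
        (((z : R) : GL ι F) : Matrix ι ι F) (Classical.arbitrary ι) (Classical.arbitrary ι)) := by
      intro a b hab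
      obtain ⟨c, hc⟩ := Subgroup.mem_subgroupOf.1 a.2
      obtain ⟨d, hd⟩ := Subgroup.mem_subgroupOf.1 b.2
      have h1 : ∀ (c : Fˣ), ((Units.map (Matrix.scalar ι : F →+* Matrix ι ι F).toMonoidHom c : GL ι F) : Matrix ι ι F)
          (Classical.arbitrary ι) (Classical.arbitrary ι) = c := by
        intro c
        show (Matrix.scalar ι (c : F)) _ _ = _
        rw [Matrix.scalar_apply, Matrix.diagonal_apply_eq]
      have h2 : (c : F) = d := by
        rw [← h1 c, ← h1 d]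
        have h3 := hab
        simp only at h3
        rw [← hc, ← hd] at h3
        exact h3
      apply Subtype.ext
      apply Subtype.ext
      rw [← hc, ← hd, Units.ext h2]
    let θ : (scalars ι F).subgroupOf R →* F :=
      { toFun := fun z => (((z : R) : GL ι F) : Matrix ι ι F) (Classical.arbitrary ι) (Classical.arbitrary ι)
        map_one' := by
          show (1 : Matrix ι ι F) _ _ = 1
          rw [Matrix.one_apply_eq]
        map_mul' := by
          intro a b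
          obtain ⟨c, hc⟩ := Subgroup.mem_subgroupOf.1 a.2
          show ((((a : R) : GL ι F) : Matrix ι ι F) * (((b : R) : GL ι F) : Matrix ι ι F)) _ _ = _
          have h1 : (((a : R) : GL ι F) : Matrix ι ι F) = Matrix.scalar ι (c : F) :=
            (congrArg (fun g : GL ι F => (g : Matrix ι ι F)) hc).symm
          rw [h1, Matrix.scalar_apply, Matrix.diagonal_mul, Matrix.diagonal_apply_eq] }
    haveI : IsCyclic ((scalars ι F).subgroupOf R) := isCyclic_of_subgroup_isDomain θ hinj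
    exact ⟨(zmodCyclicMulEquiv inferInstance).symm.trans (MulEquiv.refl _) |>.trans
      (by rw [hcard])⟩
  obtain ⟨ψ, -⟩ := (Cfsg.Agent.S3974.result hA).2 hcop P P' σ₁ σ₂ hs₁ hs₂ 
    (hcyc hk₁ hC (by rw [hk₁]; exact hn)) (hcyc hk₂ hC' (by rw [hk₂]; exact hn'))
  exact ⟨ψ⟩

end cover

variable {F : Type u} [Field F] [Finite F]

/-- **K4.** `hZ`, `hU` : the results on `G₂(4)` in dimension `12`. -/
theorem k4 (hF : Nat.card F = 3) {H P : Subgroup (GL I12 F)} (hH : IsMaximalIn (spGL 6 F) H)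
    (hc : IsResidualCore H P) {K : Type} [Field K] [Fintype K] (hK : Fintype.card K = 4)
    (e : Soc P ≃* Cfsg.Lie.chevG2.group K)
    (hZ : ∀ R : Subgroup (GL I12 F), Core R → ∀ (E : Type) (_ : Field E) (_ : Fintype E), Fintype.card E = 4 →
      (Soc R ≃* Cfsg.Lie.chevG2.group E) → Nat.card ((scalars I12 F).subgroupOf R) = 2)
    (hU : ∀ R R' : Subgroup (GL I12 F), Core R → Core R' → ∀ (E : Type) (_ : Field E) (_ : Fintype E),
      Fintype.card E = 4 → (Soc R ≃* Cfsg.Lie.chevG2.group E) → ∀ (ψ : R ≃* R') (x : R),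
        (((ψ x : R') : GL I12 F) : Matrix I12 I12 F).trace = ((x : GL I12 F) : Matrix I12 I12 F).trace) : False := by
  have hC := H915.LD.core_of_residual hc
  haveI := Fintype.ofFinite F
  haveI hchar : CharP F 3 := by
    obtain ⟨p, hp⟩ := CharP.exists F
    obtain ⟨n, hpp, hn⟩ := FiniteField.card F p
    rw [← Nat.card_eq_fintype_card, hF] at hn
    have h1 : p ∣ 3 := by rw [hn]; exact dvd_pow_self p n.pos.ne'
    rwa [(Nat.prime_dvd_prime_iff_eq hpp Nat.prime_three).1 h1] at hp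
  let f : ZMod 3 →+* F := ZMod.castHom (dvd_refl 3) F
  -- the model
  have hC' := core_PF f hF
  obtain ⟨E, j1, j2, hE, ⟨e1⟩⟩ := A0_equiv
  obtain ⟨e2⟩ := soc_PF f
  have e3 : Soc (PF f) ≃* Cfsg.Lie.chevG2.group E := (e2.trans A1_equiv.symm).trans e1
  have σ : K ≃+* E := FiniteField.ringEquivOfCardEq (by rw [hK, hE])
  have e4 : Cfsg.Lie.chevG2.group K ≃* Cfsg.Lie.chevG2.group E :=
    Cfsg.Agent.H64.ChevField.groupCongr σ Cfsg.Lie.chevG2
  have e5 : Soc P ≃* Soc (PF f) := (e.trans e4).trans e3.symm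
  -- the two groups are isomorphic
  have hA : HasSchurMultiplier (Soc P) (Multiplicative (ZMod 2)) :=
    H487.HasSchurMultiplier.congr_left (Cfsg.Agent.S2102.result hK) e.symm
  obtain ⟨ψ⟩ := exists_iso hC hC' e5 hA (hZ P hC K _ _ hK e) (hZ _ hC' E _ _ hE e3)
  -- and conjugate
  have hadj : Algebra.adjoin F (Set.range fun x : PF f => ((PF f).subtype x : Matrix I12 I12 F)) = ⊤ := by
    have h1 := H919.adjoin_eq_top_of_absIrr hC'.absIrred
    rw [← h1]
    congr 1
    ext M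
    constructor
    · rintro ⟨x, rfl⟩
      exact ⟨x, x.2, rfl⟩
    · rintro ⟨x, hx, rfl⟩
      exact ⟨⟨x, hx⟩, rfl⟩
  obtain ⟨J, hJ⟩ := H920.exists_conj_of_trace (PF f).subtype (P.subtype.comp ψ.symm.toMonoidHom) hadj (fun x =>
    (hU (PF f) P hC' hC E _ _ hE e3 ψ.symm x).symm)
  refine kill_conj f hF hH hc (g := J) ?_ ?_ ?_
  · ext x
    constructor
    · intro hx
      obtain ⟨y, hy⟩ := ψ.symm.surjective ⟨x, hx⟩
      refine ⟨y, y.2, ?_⟩
      have h1 := hJ y
      have h2 : (P.subtype.comp ψ.symm.toMonoidHom) y = x := congrArg Subtype.val hy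
      rw [h2] at h1
      exact h1.symm
    · rintro ⟨y, hy, rfl⟩
      have h1 := hJ ⟨y, hy⟩
      have h2 : (P.subtype.comp ψ.symm.toMonoidHom) ⟨y, hy⟩ = J * y * J⁻¹ := h1
      show J * y * J⁻¹ ∈ P
      rw [← h2]
      exact (ψ.symm ⟨y, hy⟩).2
  · rw [H548.Crit.card_out_congr e]
    haveI : Fact (Nat.Prime 2) := ⟨Nat.prime_two⟩
    haveI : CharP K 2 := by
      obtain ⟨p, hp⟩ := CharP.exists K
      obtain ⟨n, hpp, hn⟩ := FiniteField.card K p
      rw [hK] at hn
      have h1 : p ∣ 2 ^ 2 := by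
        have : p ∣ 4 := by rw [hn]; exact dvd_pow_self p n.pos.ne'
        exact this
      rwa [(Nat.prime_dvd_prime_iff_eq hpp Nat.prime_two).1 (hpp.dvd_of_dvd_pow h1)] at hp
    rw [Cfsg.Agent.S2121.result 2 2 (F := K) (by rw [hK]; norm_num) (by norm_num), if_neg (by norm_num)]
  · rw [Nat.card_congr e.toEquiv, Cfsg.Agent.S1059.result hK]
    norm_num

end Cfsg.Agent.H920.Sz12
end

-- part: H931/K1Final
section
set_option linter.all false
open scoped Cfsg.Agent.FastGrp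

/-!
# `U₃(4)` is not maximal in `Sp₁₂(F)`, `F` of odd order (helper931)

`k1` : `H` maximal in `spGL 6 F`, `P` a residual core of `H`, `P / scalars ≃ PSU₃(4)`, `|F|` odd, is impossible
(`P` is contained in `2.G₂(4)`).
-/

set_option autoImplicit false

namespace Cfsg.Agent.H931.K1Final

open Cfsg Cfsg.Geo Matrix Cfsg.Agent.SporadicA.Co0Basic Cfsg.Agent.H931.K1Red Cfsg.Agent.H931.K1Quat
  Cfsg.Agent.H931.K1Lift Cfsg.Agent.H931.K1Core Cfsg.Agent.H931.K1Big Cfsg.Agent.H931.K1Grp Cfsg.Agent.H931.K1Aut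
  Cfsg.Agent.H931.K1SU Cfsg.Agent.H931.K1F16 Cfsg.Agent.H931.K1Norm Cfsg.Agent.H931.K1Main Cfsg.Agent.H915.LD

theorem card_F16 : Fintype.card F16 = 16 := by rfl

/-- the perfect lift is `SU₃(4)` -/
theorem neg_not_mem : negCo0 ∉ Dd := by
  intro hneg
  have hX : commutator X = ⊤ := by
    apply Subgroup.map_injective X.subtype_injective
    have h1 : (⊤ : Subgroup X).map X.subtype = X := by
      rw [← MonoidHom.range_eq_map, Subgroup.range_subtype]
    rw [commutator_def, Subgroup.map_commutator, h1, X_perfect]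
  have hs : Function.Surjective (K1Aut.equiv.toMonoidHom.comp th) := K1Aut.equiv.surjective.comp th_surjective
  have hc : (K1Aut.equiv.toMonoidHom.comp th).ker ≤ Subgroup.center X := by
    intro x hx
    have h1 : th x = 1 := K1Aut.equiv.injective (by rw [map_one]; exact hx)
    rw [th_eq_one_iff] at h1
    rw [Subgroup.mem_center_iff]
    intro y
    rcases (prH_eq_iff x.1.1 1).1 (h1.trans (map_one prH).symm) with h | h
    · have : x = 1 := Subtype.ext (Subtype.ext h)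
      rw [this, mul_one, one_mul]
    · rw [mul_one] at h
      apply Subtype.ext
      apply Subtype.ext
      show y.1.1 * x.1.1 = x.1.1 * y.1.1
      rw [h, neg_comm]
  have hi := Cfsg.Agent.H95.StemCover.injective_of_trivial (Cfsg.Agent.H881.U34.mult (K := F16) card_F16) hX _ hs hc
  let n : X := ⟨⟨negCo0, neg_mem_Cq⟩, hneg⟩
  have h1 : (K1Aut.equiv.toMonoidHom.comp th) n = 1 := by
    have : th n = 1 := (th_eq_one_iff n).2 prH_neg
    rw [MonoidHom.comp_apply, this, map_one]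
  have h2 : n = 1 := hi (h1.trans (map_one _).symm)
  have h3 : negCo0 = 1 := congrArg (fun x : X => x.1.1) h2
  have h4 : (2 : ℚ) ≠ 0 := by norm_num
  have h5 := rmat_neg h4
  rw [h3, rmat_one h4] at h5
  have : Fintype.card GolayPt = 24 := by decide
  obtain ⟨i⟩ : Nonempty GolayPt := Fintype.card_pos_iff.1 (by rw [this]; norm_num)
  have h6 := congrFun (congrFun h5 i) i
  rw [Matrix.neg_apply, Matrix.one_apply_eq] at h6
  norm_num at h6

section

variable {F : Type*} [Field F] {ι : Type} [Fintype ι] [DecidableEq ι]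

/-- a group of matrices as endomorphisms -/
noncomputable def toEnd (ρ : SU34 →* GL ι F) : SU34 →* Module.End F (ι → F) :=
  ((Matrix.toLinAlgEquiv' : Matrix ι ι F ≃ₐ[F] _) : Matrix ι ι F →* Module.End F (ι → F)).comp
    ((Units.coeHom (Matrix ι ι F)).comp ρ)

theorem toEnd_apply (ρ : SU34 →* GL ι F) (g : SU34) : toEnd ρ g = Matrix.toLin' (ρ g : Matrix ι ι F) := rfl

theorem trace_toEnd (ρ : SU34 →* GL ι F) (g : SU34) :
    LinearMap.trace F (ι → F) (toEnd ρ g) = (ρ g : Matrix ι ι F).trace := by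
  rw [toEnd_apply, Matrix.trace_toLin'_eq]

theorem toEnd_inj {ρ : SU34 →* GL ι F} (h : Function.Injective ρ) (g : SU34) (hg : toEnd ρ g = 1) : g = 1 := by
  apply h
  rw [map_one]
  apply Units.ext
  apply Matrix.toLin'.injective
  rw [← toEnd_apply, hg, Units.val_one, Matrix.toLin'_one]
  rfl

theorem trace_eq_trace (h2 : (2 : F) ≠ 0) {ρ ρ' : SU34 →* GL ι F} (h : Function.Injective ρ)
    (h' : Function.Injective ρ') (hn : Fintype.card ι = 12) (g : SU34) :
    (ρ g : Matrix ι ι F).trace = (ρ' g : Matrix ι ι F).trace := by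
  have hs := Cfsg.Agent.H881.U34.su3 (Cfsg.Agent.H881.U34.sig_fld (K := F16) card_F16)
  have h1 := Cfsg.Agent.H881.U34.trace_eq hs h2 (ρ := toEnd ρ) (toEnd_inj h) (by rw [Module.finrank_pi, hn]) g
  have h3 := Cfsg.Agent.H881.U34.trace_eq hs h2 (ρ := toEnd ρ') (toEnd_inj h') (by rw [Module.finrank_pi, hn]) g
  rw [← trace_toEnd, ← trace_toEnd, h1, h3]

theorem rp_injective (D : Dt F ι) (hneg : negCo0 ∉ Dd) : Function.Injective (rp D hneg) := by
  rw [injective_iff_map_eq_one]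
  intro A hA
  rw [rp_apply] at hA
  have h1 := prH_of_scalar D ((Dd_le.trans St_le) (lam hneg A).2) (by rw [hA]; exact one_mem _)
  have h3 := (th_eq_one_iff (lam hneg A)).2 h1
  rwa [th_lam] at h3

/-- the representation of `SU₃(4)` given by a core -/
theorem exists_rep {P : Subgroup (GL ι F)} (hC : Core P)
    (e : ∃ (K : Type) (_ : Field K) (_ : Fintype K), Fintype.card K = 4 ^ 2 ∧ Nonempty (Soc P ≃* PSU 3 K 4)) :
    ∃ ρ : SU34 →* GL ι F, ρ.range = P ∧ Function.Injective ρ := by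
  obtain ⟨K, _, _, hK, ⟨e⟩⟩ := e
  have hK' : Fintype.card K = 16 := by rw [hK]; norm_num
  obtain ⟨e', -⟩ := Cfsg.Agent.H881.U34.exists_equiv hK' hC e
  let k : F16 ≃+* K := FiniteField.ringEquivOfCardEq (by rw [card_F16, hK'])
  let E : SU34 ≃* P := (K1Aut.equiv.trans (Cfsg.Agent.LieClassical.FieldTransfer.psuCongr 3 4 k)).trans e'.symm
  refine ⟨P.subtype.comp E.toMonoidHom, ?_, ?_⟩
  · ext x
    constructor
    · rintro ⟨A, rfl⟩
      exact (E A).2
    · intro hx
      exact ⟨E.symm ⟨x, hx⟩, congrArg Subtype.val (E.apply_symm_apply ⟨x, hx⟩)⟩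
  · exact P.subtype_injective.comp E.injective

/-- **`U₃(4)` is not maximal in `Sp₁₂`.** -/
theorem k1' [Finite F] (h2 : (2 : F) ≠ 0) {H P : Subgroup (GL I12 F)} (hH : IsMaximalIn (spGL 6 F) H)
    (hR : IsResidualCore H P)
    (e : ∃ (K : Type) (_ : Field K) (_ : Fintype K), Fintype.card K = 4 ^ 2 ∧ Nonempty (Soc P ≃* PSU 3 K 4)) :
    False := by
  have hn : Fintype.card I12 = 12 := by decide
  obtain ⟨ρ, hρ, hinj⟩ := exists_rep (core_of_residual hR) e
  obtain ⟨D⟩ := exists_Dt (F := F) (ι := I12) h2 hn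
  have hadj : Algebra.adjoin F (Set.range fun g => (ρ g : Matrix I12 I12 F)) = ⊤ := by
    rw [← Cfsg.Agent.H920.adjoin_eq_top hR.absIrred]
    congr 1
    ext x
    constructor
    · rintro ⟨g, rfl⟩
      exact ⟨ρ g, by rw [← hρ]; exact ⟨g, rfl⟩, rfl⟩
    · rintro ⟨y, hy, rfl⟩
      rw [← hρ] at hy
      obtain ⟨g, rfl⟩ := hy
      exact ⟨g, rfl⟩
  obtain ⟨J0, hJ⟩ := Cfsg.Agent.H920.exists_conj_of_trace ρ (rp D neg_not_mem) hadj
    (trace_eq_trace h2 hinj (rp_injective D _) hn)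
  exact main hH hR D neg_not_mem ρ hρ hinj J0 hJ

/-- **`U₃(4)` is not maximal in `Sp₁₂`.** The hypothesis `e` is `H912.Bd.IsU 3 4 (Soc P)`. -/
theorem k1 [Finite F] (p : ℕ) [hp : Fact p.Prime] [CharP F p] (hp2 : p ≠ 2) {H P : Subgroup (GL (Fin 6 ⊕ Fin 6) F)}
    (hH : IsMaximalIn (spGL 6 F) H) (hR : IsResidualCore H P)
    (e : ∃ (K : Type) (_ : Field K) (_ : Fintype K), Fintype.card K = 4 ^ 2 ∧ Nonempty (Soc P ≃* PSU 3 K 4)) :
    False := by
  refine k1' ?_ hH hR e
  intro h0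
  have h1 : ((2 : ℕ) : F) = 0 := by exact_mod_cast h0
  rw [CharP.cast_eq_zero_iff F p, Nat.prime_dvd_prime_iff_eq hp.out Nat.prime_two] at h1
  exact hp2 h1

end

end Cfsg.Agent.H931.K1Final
end

-- part: H937/G24/Ctr
section
set_option linter.all false
open scoped Cfsg.Agent.FastGrp

/-!
# The centre of `2.G₂(4)` in dimension 12 (helper937)

`card_scalars` : a core with socle `G₂(4)` in dimension 12, odd characteristic, has exactly two scalars.
-/

set_option autoImplicit false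
set_option linter.unusedSectionVars false

namespace Cfsg.Agent.H937.G24

open Cfsg Cfsg.Lie Cfsg.Geo Cfsg.Agent.H148.Oct Function Cfsg.Agent.H915.LD
open Cfsg.Agent.H161.Oct (AutO)

universe u

section

variable {K : Type} [Field K] [Fintype K] [CharP K 2] {n : K} (h4 : Fintype.card K = 4) (hn : n ^ 2 + n + 1 = 0)
  {ι : Type} [Fintype ι] [DecidableEq ι] {F : Type u} [Field F] (h2 : (2 : F) ≠ 0)

include h4 hn h2

/-- `G₂(4)` has no faithful representation of degree 12 -/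
theorem no_rep {ρ : ↥(AutO K) →* GL ι F} (hρ : Injective ρ) : Fintype.card ι ≠ 12 := by
  classical
  intro h12
  let τ : ↥(LL n (1 : K)) →* GL ι F := ρ.comp (LL n (1 : K)).subtype
  have hτ : Injective τ := hρ.comp Subtype.val_injective
  have h1 := commutant (gE τ) (psi F h4) (heisL hn) (psi_primitive F h4 h2 hn) h2 h4 (nontriv hτ)
    (by rw [Module.finrank_pi, h12]) hL_one (T := gE ρ (qg 1 0 (n ^ 2) (n ^ 2))) (S := gE ρ (qg 0 1 n 1))
    (fun i => by
      change gE ρ _ * gE ρ (qk n i) = gE ρ (qk n i) * gE ρ _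
      rw [← map_mul, ← map_mul, xx_qk hn])
    (fun b => by
      change gE ρ _ * gE ρ (rt b) = gE ρ (rt b) * gE ρ _
      rw [← map_mul, ← map_mul, comm_rt (qg_QQ _ _ _ _).1])
    (fun b => by
      change gE ρ _ * gE ρ (rt b) = gE ρ (rt b) * gE ρ _
      rw [← map_mul, ← map_mul, comm_rt (qg_QQ _ _ _ _).1])
  rw [← map_mul, ← map_mul] at h1
  exact xx_xx hn (hρ (gE_inj h1)).symm

end

variable {K : Type} [Field K] [Fintype K] (hK : Fintype.card K = 4) {ι : Type} [Fintype ι] [DecidableEq ι]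
  {F : Type u} [Field F] [Finite F] (h2 : (2 : F) ≠ 0) {P P' : Subgroup (GL ι F)}

include hK h2

theorem exists_scalar (e : Soc P ≃* ↥(chevG2.group K)) (h12 : Fintype.card ι = 12) :
    ∃ z ∈ (scalars ι F).subgroupOf P, z ≠ 1 := by
  have := charP_two hK
  obtain ⟨n, hn⟩ := exists_root hK
  by_contra hcon
  push Not at hcon
  have hinj : Injective (phiP e) := by
    rw [injective_iff_map_eq_one]
    intro z hz
    exact hcon z ((phiP_eq_one e).1 hz)
  let f : P ≃* ↥(AutO K) := MulEquiv.ofBijective (phiP e) ⟨hinj, phiP_surj e⟩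
  exact no_rep hK hn h2 (ρ := P.subtype.comp f.symm.toMonoidHom) (Subtype.val_injective.comp f.symm.injective) h12

/-- a scalar different from 1 is `-1` -/
theorem scalar_neg (hC : Core P) (e : Soc P ≃* ↥(chevG2.group K)) (h12 : Fintype.card ι = 12) {z : P}
    (hz : z ∈ (scalars ι F).subgroupOf P) (hz1 : z ≠ 1) : ((z : GL ι F) : Matrix ι ι F) = (-1 : F) • 1 := by
  have h1 := core_scalar_sq hK h2 hC e h12 hz
  have hι : Nonempty ι := by
    rw [← Fintype.card_pos_iff, h12]; norm_num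
  rw [Subgroup.mem_subgroupOf, mem_scalars_iff] at hz
  obtain ⟨c, hc⟩ := hz
  have h3 : ((c : F) * c) • (1 : Matrix ι ι F) = (1 : F) • 1 := by
    have h5 : ((z : GL ι F) : Matrix ι ι F) * ((z : GL ι F) : Matrix ι ι F) = 1 := by
      rw [← Units.val_mul, ← Subgroup.coe_mul, h1]
      rfl
    rw [hc, smul_mul_smul_comm, mul_one] at h5
    rw [h5, one_smul]
  have h5 : (c : F) * c = 1 := smul_left_injective F (one_ne_zero (α := Matrix ι ι F)) h3
  have h6 : (c : F) ≠ 1 := by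
    intro h
    apply hz1
    apply Subtype.ext
    apply Units.ext
    rw [hc, h, one_smul]
    rfl
  have h7 : ((c : F) - 1) * ((c : F) + 1) = 0 := by linear_combination h5
  have h8 := (mul_eq_zero.1 h7).resolve_left (sub_ne_zero.2 h6)
  rw [hc, eq_neg_of_add_eq_zero_left h8]

/-- **there are two scalars** -/
theorem card_scalars (hC : Core P) (e : Soc P ≃* ↥(chevG2.group K)) (h12 : Fintype.card ι = 12) :
    Nat.card ((scalars ι F).subgroupOf P) = 2 := by
  obtain ⟨z, hz, hz1⟩ := exists_scalar hK h2 e h12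
  rw [Nat.card_eq_two_iff]
  refine ⟨1, ⟨z, hz⟩, fun h => hz1 (congrArg Subtype.val h).symm, ?_⟩
  rw [Set.eq_univ_iff_forall]
  rintro ⟨w, hw⟩
  by_cases h1 : w = 1
  · left
    exact Subtype.ext h1
  · right
    rw [Set.mem_singleton_iff]
    apply Subtype.ext
    apply Subtype.ext
    apply Units.ext
    exact (scalar_neg hK h2 hC e h12 hw h1).trans (scalar_neg hK h2 hC e h12 hz hz1).symm

end Cfsg.Agent.H937.G24
end

-- part: H937/S12Rows
section
set_option linter.all false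
open scoped Cfsg.Agent.FastGrp

/-!
# Three rows of S5869 (helper937)

* `row_g2` : the socle `G₂(4)`, `p` odd;
* `row_m12` : the socle `M₁₂` does not occur;
* `row_l33` : the socle `L₃(3)`, `p ≠ 3`, does not occur.
-/

set_option autoImplicit false
set_option linter.unusedSectionVars false

namespace Cfsg.Agent.H937.S12Rows

open Cfsg Cfsg.Geo Matrix Cfsg.Agent.H915.LD Cfsg.Agent.H922

universe u

variable {F : Type u} [Field F] [Fintype F] {p : ℕ} {H P : Subgroup (GL (Fin 6 ⊕ Fin 6) F)}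

/-! ### G₂(4) -/

theorem two_ne (h : S12.Cx p H P) (hp2 : p ≠ 2) : (2 : F) ≠ 0 := by
  have := h.char
  intro h0
  have h1 : ((2 : ℕ) : F) = 0 := by exact_mod_cast h0
  have h3 := (CharP.cast_eq_zero_iff F p 2).1 h1
  exact hp2 ((Nat.prime_dvd_prime_iff_eq h.prime Nat.prime_two).1 h3)

/-- **The row of `G₂(4)`** -/
theorem row_g2 (h : S12.Cx p H P) (hp2 : p ≠ 2) (hT : H912.Bd.IsG2 4 (Soc P)) : S12.Concl P p := by
  have := h.char
  have : Fact p.Prime := ⟨h.prime⟩
  obtain ⟨K, i1, i2, hK, ⟨e⟩⟩ := hT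
  have h2 := two_ne h hp2
  have h12 : Fintype.card (Fin 6 ⊕ Fin 6) = 12 := by simp
  have hfr := G24.core_fr hK h2 h.core e h12 p
  have hF := h.core.card_eq p hfr
  obtain ⟨g⟩ := Cfsg.Agent.H638.G2Iso.equiv (F := K)
  refine Or.inr (Or.inr (Or.inr (Or.inr (Or.inl ⟨⟨K, i1, i2, hK, ⟨e.trans g.symm⟩⟩, hF,
    h.prime.odd_of_ne_two hp2, ?_⟩))))
  rintro rfl
  refine H920.Sz12.k4 (by rw [Nat.card_eq_fintype_card, hF]) h.hH h.hc hK e ?_ ?_
  · intro R hR E j1 j2 hE eR
    exact G24.card_scalars hE h2 hR eR h12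
  · intro R R' hR _ E j1 j2 hE eR ψ x
    exact G24.core_trace hE h2 hR eR h12 ψ x

/-! ### M₁₂ -/

open Cfsg.Agent.H932.Mt in
/-- the sum of squares in the basis of the model -/
theorem fixQ_of_model {P : Subgroup (GL (Fin 12) F)} (h2 : (2 : F) ≠ 0) {φ : Γ →* P} (hφ : Function.Surjective φ)
    {b : Module.Basis (Fin 12) F (Fin 12 → F)} (hb : IsModel φ b) : FixQ P := by
  let Q : (Fin 12 → F) → F := fun v => ∑ i, b.repr v i ^ 2
  have hpol : ∀ v w, QuadraticMap.polar Q v w = 2 * ∑ i, b.repr v i * b.repr w i := by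
    intro v w
    simp only [QuadraticMap.polar, Q, map_add, Finsupp.add_apply]
    rw [← Finset.sum_sub_distrib, ← Finset.sum_sub_distrib, Finset.mul_sum]
    exact Finset.sum_congr rfl fun i _ => by ring
  refine ⟨Q, ⟨?_, ⟨?_, ?_, ?_, ?_⟩, ?_⟩, ?_⟩
  · intro c v
    simp only [Q, map_smul, Finsupp.smul_apply, smul_eq_mul, mul_pow, Finset.mul_sum]
  · intro x y v
    rw [hpol, hpol, hpol, ← mul_add, ← Finset.sum_add_distrib]
    congr 1
    exact Finset.sum_congr rfl fun i _ => by rw [map_add, Finsupp.add_apply]; ring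
  · intro c x v
    rw [hpol, hpol, mul_left_comm c, Finset.mul_sum (a := c)]
    congr 1
    exact Finset.sum_congr rfl fun i _ => by rw [map_smul, Finsupp.smul_apply, smul_eq_mul]; ring
  · intro v x y
    rw [hpol, hpol, hpol, ← mul_add, ← Finset.sum_add_distrib]
    congr 1
    exact Finset.sum_congr rfl fun i _ => by rw [map_add, Finsupp.add_apply]; ring
  · intro c v x
    rw [hpol, hpol, mul_left_comm c, Finset.mul_sum (a := c)]
    congr 1
    exact Finset.sum_congr rfl fun i _ => by rw [map_smul, Finsupp.smul_apply, smul_eq_mul]; ring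
  · intro v hv
    have h1 : ∃ i, b.repr v i ≠ 0 := by
      by_contra hne
      rw [not_exists] at hne
      apply hv
      apply b.repr.injective
      rw [map_zero]
      ext i
      exact not_not.1 (hne i)
    obtain ⟨i, hi⟩ := h1
    have h3 : ∀ w : Fin 12 → F, w = b i → ∑ k, b.repr v k * b.repr w k = b.repr v i := by
      rintro w rfl
      rw [Finset.sum_eq_single i]
      · rw [Module.Basis.repr_self, Finsupp.single_eq_same, mul_one]
      · intro k _ hk
        rw [Module.Basis.repr_self, Finsupp.single_eq_of_ne hk, mul_zero]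
      · intro h
        exact absurd (Finset.mem_univ i) h
    refine ⟨⟨b i, ?_⟩, ⟨b i, ?_⟩⟩
    · rw [hpol]
      have h4 : ∑ k, b.repr (b i) k * b.repr v k = b.repr v i := by
        rw [← h3 (b i) rfl]
        exact Finset.sum_congr rfl fun k _ => mul_comm _ _
      rw [h4]
      exact mul_ne_zero h2 hi
    · rw [hpol, h3 (b i) rfl]
      exact mul_ne_zero h2 hi
  · rintro _ ⟨g, hg, rfl⟩ v
    obtain ⟨y, hy⟩ := hφ ⟨g, hg⟩
    have hgy : g = (φ y : GL (Fin 12) F) := by rw [hy]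
    rw [hgy]
    have h5 : ((φ y : GL (Fin 12) F) : Matrix (Fin 12) (Fin 12) F) *ᵥ v =
        ∑ i, b.repr v i • (((sgn (y.1.1 (pos i)) : ℤ) : F) • b (idx (y.1.1 (pos i)))) := by
      conv_lhs => rw [← b.sum_repr v]
      rw [Matrix.mulVec_sum]
      exact Finset.sum_congr rfl fun i _ => by rw [Matrix.mulVec_smul, hb]
    have h6 : ∀ i, b.repr (((φ y : GL (Fin 12) F) : Matrix (Fin 12) (Fin 12) F) *ᵥ v) (lp y i) =
        b.repr v i * ((sgn (y.1.1 (pos i)) : ℤ) : F) := by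
      intro i
      rw [h5, map_sum, Finsupp.finsetSum_apply, Finset.sum_eq_single i]
      · rw [map_smul, map_smul, Finsupp.smul_apply, Finsupp.smul_apply, Module.Basis.repr_self]
        change _ • _ • (Finsupp.single (lp y i) (1 : F)) (lp y i) = _
        rw [Finsupp.single_eq_same, smul_eq_mul, smul_eq_mul, mul_one]
      · intro k _ hk
        rw [map_smul, map_smul, Finsupp.smul_apply, Finsupp.smul_apply, Module.Basis.repr_self]
        change _ • _ • (Finsupp.single (lp y k) (1 : F)) (lp y i) = _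
        rw [Finsupp.single_eq_of_ne (fun h => hk ((lp y).injective h).symm), smul_zero, smul_zero]
      · intro h
        exact absurd (Finset.mem_univ i) h
    have h7 : ∀ k : Fin 24, ((sgn k : ℤ) : F) ^ 2 = 1 := by
      intro k
      have : sgn k ^ 2 = 1 := by
        revert k
        decide
      exact_mod_cast congrArg (Int.cast : ℤ → F) this
    change ∑ i, _ = ∑ i, _
    rw [← Equiv.sum_comp (lp y)]
    refine Finset.sum_congr rfl fun i _ => ?_
    rw [h6, mul_pow, h7, mul_one]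

/-- **The socle `M₁₂` does not occur** -/
theorem row_m12 (h : S12.Cx p H P) (hT : Spor.IsoM12 (Soc P)) : False := by
  obtain ⟨e⟩ := hT
  have hC := h.coreR
  let e' : Soc (H912.Rx.re S12.e12 P) ≃* Spor.M12 := (H912.Rx.socEquiv S12.e12).symm.trans e
  obtain ⟨h2, h3⟩ := H932.Mt.two_three hC e'
  obtain ⟨φ, hφ, hφe⟩ := H932.Mt.exists_cover hC e'
  obtain ⟨b, hb⟩ := H932.Mt.exists_model h2 h3 hC e' hφ hφe
  exact h.not_fixQR (fixQ_of_model h2 hφ hb)

/-! ### L₃(3) -/

/-- **The socle `L₃(3)` does not occur for `p ≠ 3`** -/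
theorem row_l33 (h : S12.Cx p H P) (hp3 : p ≠ 3) (hT : H912.Bd.IsL 3 3 (Soc P)) : False := by
  have := h.char
  have : Fact p.Prime := ⟨h.prime⟩
  obtain ⟨K, i1, i2, hK, ⟨e⟩⟩ := hT
  have h12 : Fintype.card (Fin 6 ⊕ Fin 6) = 12 := by simp
  by_cases hp2 : p = 2
  · subst hp2
    exact h.hQ (H907.L33.two_main h.core hK e h12).2.2.2.1
  · have h2 := two_ne h hp2
    obtain ⟨-, ⟨φ⟩⟩ := H175.L33.exists_equiv h.core hK e
    obtain ⟨K', w, S⟩ := H175.L33.exists_sys h.core φ hp3 h12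
    exact S.not_fixA h12 h2 h.fixA

end Cfsg.Agent.H937.S12Rows
end

-- part: H922/S12/A7Double
section
set_option linter.all false
open scoped Cfsg.Agent.FastGrp

/-!
# `2.A₇` in degree twelve, characteristic different from two (helper922)

* **`a7_two`** : a core of degree twelve with `Soc P ≅ A₇` whose scalars have order two does not exist (`p ≠ 2`);
* **`a7_double`** : the same for a core fixing a symplectic form.

`PathC` : the statement on representations in characteristic three.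
-/

set_option autoImplicit false
set_option linter.unusedSectionVars false

namespace Cfsg.Agent.H922.S12

open Cfsg Cfsg.Geo Matrix Module Cfsg.Agent.H637.A7Main Cfsg.Agent.H637.A7Grp Cfsg.Agent.H637.A7Cov
  Cfsg.Agent.H915.LD Cfsg.Agent.H931.A7D

universe u

/-- `2.A₇` in degree twelve, characteristic three -/
def PathC : Prop :=
  ∀ {K : Type u} [Field K] [IsAlgClosed K] {V : Type u} [AddCommGroup V] [Module K V] [FiniteDimensional K V]
    {D : Type u} [Group D] {π : D →* alternatingGroup (Fin 7)} {g : Fin 5 → D} {z : D}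
    {β : D →* GL (Fin 4) (ZMod 7)} (_ : Cov π g z β) {σ : D →* Module.End K V},
    σ z = -1 → (2 : K) ≠ 0 → (3 : K) = 0 → Submodule.span K (Set.range σ) = ⊤ → finrank K V = 12 → False

variable {F : Type u} [Field F] {ι : Type} [Fintype ι] [DecidableEq ι] {P : Subgroup (GL ι F)}

theorem a7_two (hX : PathC.{u}) (hC : Core P) (e : Soc P ≃* alternatingGroup (Fin 7))
    (hZ : ∀ g ∈ P, g ∈ scalars ι F → g * g = 1) (hne : (scalars ι F).subgroupOf P ≠ ⊥) (h2 : (2 : F) ≠ 0)
    (hn : Fintype.card ι = 12) : False := by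
  classical
  set K := AlgebraicClosure F with hK
  have hι : Nonempty ι := hC.nonempty
  let π : P →* alternatingGroup (Fin 7) := e.toMonoidHom.comp (toSoc P)
  have hπ : Function.Surjective π := e.surjective.comp (toSoc_surjective P)
  have hker : π.ker = (scalars ι F).subgroupOf P := ker_comp e
  have hk : ∀ k, π k = 1 → (∀ g, k * g = g * k) ∧ k * k = 1 := by
    intro k hk
    have h1 : k ∈ (scalars ι F).subgroupOf P := by rw [← hker]; exact hk
    exact ⟨fun g => (Subgroup.mem_center_iff.1 (scalars_le_center h1) g).symm, Subtype.ext (hZ k k.2 h1)⟩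
  obtain ⟨D, g, z, H, hs, hgS, hzm⟩ := exists_good π hπ hk hC.commutator_top (S := Su hb3) (m := -1) (Su_cube hb3)
    (Su_sq hb3) (by rw [neg_mul_neg, one_mul]) (fun q => by rw [neg_one_mul, mul_neg_one])
  let α : D →* P := (MonoidHom.fst _ _).comp D.subtype
  let β : D →* GL (Fin 4) (ZMod 7) := (MonoidHom.snd _ _).comp D.subtype
  have hα : Function.Surjective α := hs
  have HC : Cov (π.comp α) g z β := { toGood := H, bg := fun i => congrArg Units.val (hgS i), bz := hzm }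
  -- the central element
  have hz1 : α z ∈ (scalars ι F).subgroupOf P := by
    rw [← hker]
    exact HC.pi_z
  obtain ⟨c, hc⟩ := (mem_scalars_iff _).1 (Subgroup.mem_subgroupOf.1 hz1)
  have hcc : (c : F) * c = 1 := by
    have h1 : ((α z * α z : P) : GL ι F) = 1 := by
      rw [← map_mul, HC.zz, map_one, Subgroup.coe_one]
    have h3 := congrArg (fun u : GL ι F => (u : Matrix ι ι F) (Classical.arbitrary ι) (Classical.arbitrary ι)) h1
    simp only [Subgroup.coe_mul, Units.val_mul, hc, Units.val_one, Matrix.mul_smul,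
      Matrix.smul_apply, Matrix.one_apply_eq, smul_eq_mul, mul_one] at h3
    exact h3
  have hcm : (c : F) = -1 := by
    rcases mul_self_eq_one_iff.1 hcc with h1 | h1
    · exfalso
      apply hne
      have hz0 : α z = 1 := by
        apply Subtype.ext
        apply Units.ext
        rw [hc, h1, one_smul]
        rfl
      rw [Subgroup.eq_bot_iff_forall]
      intro a ha
      obtain ⟨d, rfl⟩ := hα a
      have h3 : (π.comp α) d = 1 := by
        have h4 : α d ∈ π.ker := by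
          rw [hker]
          exact ha
        exact h4
      rcases HC.ker d h3 with h | h
      · rw [h, map_one]
      · rw [h, hz0]
    · exact h1
  -- the representation
  let σ : D →* Module.End K (ι → K) :=
    ((Matrix.toLinAlgEquiv' (R := K) (n := ι)).toAlgHom.toMonoidHom).comp ((mK K P).comp α)
  have hσ : ∀ d, σ d = Matrix.toLinAlgEquiv' (R := K) (n := ι) (mK K P (α d)) := fun d => rfl
  have hσz : σ z = -1 := by
    have h1 : mK K P (α z) = -1 := by
      show ((α z : GL ι F) : Matrix ι ι F).map (algebraMap F K) = -1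
      rw [hc, hcm]
      ext i j
      simp [Matrix.one_apply, apply_ite]
    rw [hσ, h1, map_neg, map_one]
  have hspan : Submodule.span K (Set.range σ) = ⊤ := by
    have h1 : Set.range σ = (Matrix.toLinAlgEquiv' (R := K) (n := ι)).toLinearMap '' (Set.range (mK K P)) := by
      ext x
      constructor
      · rintro ⟨d, rfl⟩
        exact ⟨_, ⟨α d, rfl⟩, rfl⟩
      · rintro ⟨_, ⟨a, rfl⟩, rfl⟩
        obtain ⟨d, rfl⟩ := hα a
        exact ⟨d, rfl⟩
    rw [h1, ← Submodule.map_span, span_mK K hC.absIrred, Submodule.map_top, LinearMap.range_eq_top]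
    exact (Matrix.toLinAlgEquiv' (R := K) (n := ι)).surjective
  have hfr : finrank K (ι → K) = 12 := by
    rw [Module.finrank_fintype_fun_eq_card, hn]
  have h2K : (2 : K) ≠ 0 := by
    intro h0
    apply h2
    apply (algebraMap F K).injective
    rw [map_ofNat, map_zero]
    exact h0
  by_cases h3 : (3 : K) = 0
  · exact hX HC hσz h2K h3 hspan hfr
  · by_cases h7 : (7 : K) = 0
    · refine HC.path_b hσz h2K h3 ?_ hspan hfr
      intro h5
      apply h2K
      linear_combination h7 - h5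
    · exact HC.path_a hσz h2K h3 h7 hspan hfr

/-- **`A₇` in `Sp₁₂`.** -/
theorem a7_double (hX : PathC.{u}) (hC : Core P) (e : Soc P ≃* alternatingGroup (Fin 7))
    (hn : Fintype.card ι = 12) (hZ : ∀ g ∈ P, g ∈ scalars ι F → g * g = 1) (hsd : SD P) (h2 : (2 : F) ≠ 0) : False := by
  by_cases hbot : (scalars ι F).subgroupOf P = ⊥
  · exact H906.A7T.a7_sd_simple hC hsd hn e hbot
  · exact a7_two hX hC e hZ hbot h2 hn

end Cfsg.Agent.H922.S12
end

-- part: H922/S12/Cross
section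
set_option linter.all false
open scoped Cfsg.Agent.FastGrp

/-!
# S5869: cross characteristic (helper922)

* **`cross`** (up to `PathC` : `2.A₇` in characteristic three).
-/

set_option autoImplicit false
set_option linter.unusedSectionVars false

namespace Cfsg.Agent.H922.S12

open Cfsg Cfsg.Geo Matrix Cfsg.Agent.H915.LD Cfsg.Agent.H912.Bd Cfsg.Agent.H912.Five
open Cfsg.Agent.H936.List12 (AltC LieC MultD SporC CandD)

universe u v

variable {F : Type u} [Field F] [Fintype F] {p : ℕ} {H P : Subgroup (GL (Fin 6 ⊕ Fin 6) F)}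

theorem row_u33 (h : Cx p H P) (hp3 : p ≠ 3) (hT : IsU 3 3 (Soc P)) : False := by
  obtain ⟨K, i1, i2, hK, he⟩ := hT
  have := Fact.mk h.prime
  have := h.char
  rcases H936.U33All.u33_all h.core p hp3 card12.le (K := K) (by rw [hK]; norm_num) he with ⟨h1, -⟩ | ⟨-, h1, -⟩
  · rw [card12] at h1
    omega
  · rw [card12] at h1
    omega

theorem row_u34 (h : Cx p H P) (hp2 : p ≠ 2) (hT : IsU 3 4 (Soc P)) : False := by
  have := Fact.mk h.prime
  have := h.char
  exact H931.K1Final.k1 p hp2 h.hH h.hc hT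

theorem row_u42 (h : Cx p H P) (hp2 : p ≠ 2) (hp3 : p ≠ 3) (hT : IsU 4 2 (Soc P)) : False := by
  obtain ⟨K, i1, i2, hK, ⟨e⟩⟩ := hT
  have := Fact.mk h.prime
  have := h.char
  have h1 := H659.Sp4.sd_six' h.core p hp2 hp3 card12.le (k := K) (by rw [hK]; norm_num) e h.sd
  rw [card12] at h1
  omega

theorem row_u52 (h : Cx p H P) (hp2 : p ≠ 2) (hT : IsU 5 2 (Soc P)) : False := by
  obtain ⟨K, i1, i2, hK, ⟨e⟩⟩ := hT
  have := Fact.mk h.prime
  have := h.char
  rcases H36.U52.t6 h.coreR p hp2 le_rfl (F₄ := K) (by rw [hK]; norm_num)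
    ((H912.Rx.socEquiv e12).symm.trans e) with ⟨h1, -⟩ | ⟨h1, -⟩
  · omega
  · omega

theorem row_u43 (h : Cx p H P) (hp3 : p ≠ 3) (hT : IsU 4 3 (Soc P)) : False := by
  obtain ⟨K, i1, i2, hK, ⟨e⟩⟩ := hT
  have := Fact.mk h.prime
  have := h.char
  have h1 := (H918.U43.u43_core h.core p hp3 (K := K) (by rw [hK]; norm_num) e card12.le).1
  rw [card12] at h1
  omega

theorem row_l34 (h : Cx p H P) (hp2 : p ≠ 2) (hT : IsL 3 4 (Soc P)) : False := by
  obtain ⟨K, i1, i2, hK, ⟨e⟩⟩ := hT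
  have := Fact.mk h.prime
  have := h.char
  exact h.not_dvd Nat.prime_three (by norm_num) (H906.T12.l34_twelve p h.core hp2 hK card12 e).2.1

theorem zero_or_one {K : Type v} [Field K] [Fintype K] (hK : Fintype.card K = 2) (x : K) : x = 0 ∨ x = 1 := by
  have h1 := FiniteField.pow_card x
  rw [hK] at h1
  have h2 : x * (x - 1) = 0 := by linear_combination h1
  rcases mul_eq_zero.1 h2 with h3 | h3
  · exact Or.inl h3
  · exact Or.inr (sub_eq_zero.1 h3)

theorem row_s62 (h : Cx p H P) (hp : p ≠ 2) (hT : IsS 3 2 (Soc P)) : False := by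
  obtain ⟨K, i1, i2, hK, ⟨e⟩⟩ := hT
  have h1 := H916.SpSix.spSix_dim (zero_or_one hK) h.core e (h.two_ne hp) (by rw [card12]; norm_num)
  rw [card12] at h1
  omega

theorem row_o82 (h : Cx p H P) (hp : p ≠ 2) (hT : IsOP 4 2 (Soc P)) : False := by
  obtain ⟨K, i1, i2, hK, ⟨e⟩⟩ := hT
  have h1 := H916.Om.omega_dim (zero_or_one hK) h.core e (h.two_ne hp) (by rw [card12]; norm_num)
  rw [card12] at h1
  omega

theorem row_sz (h : Cx p H P) (hp2 : p ≠ 2) (hT : IsSz8 (Soc P)) : False := by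
  have h1 := (H814.Sz8.core_sz8 h.core (h.two_ne hp2) card12.le hT).1
  rw [card12] at h1
  omega

theorem row_suz (h : Cx p H P) (hT : Spor.IsoSuz (Soc P)) : Concl P p := by
  have hpf := Fact.mk h.prime
  have := h.char
  obtain ⟨e⟩ := hT
  by_cases hp3 : p = 3
  · subst hp3
    have h1 := (H878.Sz.core_Suz_three h.core e card12.le).2.2.2.1
    exact Or.inr (Or.inr (Or.inr (Or.inr (Or.inr (Or.inr (Or.inl ⟨⟨e⟩, h.core.card_eq 3 h1⟩))))))
  · exact (H878.Sz.core_Suz_not_sd h.core e card12.le p hp3 h.sd).elim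

theorem row_j1 (h : Cx p H P) (hT : Spor.IsoJ1 (Soc P)) : False := by
  have hpf := Fact.mk h.prime
  have := h.char
  by_cases hp : p = 11
  · subst hp
    have h1 := H179.JOne.j1_le12_iso h.core hT (by exact_mod_cast CharP.cast_eq_zero F 11) card12.le
    rw [card12] at h1
    omega
  · exact H659.J1.not_core h.core hT p hp card12.le

/-- **`A₇`** -/
theorem row_a7 (O : PathC.{u}) (h : Cx p H P) (e : Soc P ≃* alternatingGroup (Fin 7)) : False := by
  have hpf := Fact.mk h.prime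
  have := h.char
  by_cases h2 : (2 : F) = 0
  · refine H906.A7T.a7_sd_simple h.core h.sd card12 e ?_
    rw [Subgroup.eq_bot_iff_forall]
    intro z hz
    apply Subtype.ext
    apply Units.ext
    rcases h.scalar_pm z.2 (Subgroup.mem_subgroupOf.1 hz) with h1 | h1
    · exact h1
    · rw [h1, Subgroup.coe_one, Units.val_one]
      ext i j
      rw [Matrix.neg_apply, neg_eq_iff_add_eq_zero, ← two_mul, h2, zero_mul]
  · refine a7_double O h.core e card12 (fun g hg hs => ?_) h.sd h2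
    apply Units.ext
    rw [Units.val_mul]
    rcases h.scalar_pm hg hs with h1 | h1
    · rw [h1, Matrix.one_mul, Units.val_one]
    · rw [h1, neg_mul_neg, Matrix.one_mul, Units.val_one]

/-- **Sporadic groups.** -/
theorem cross_spor (O : PathC.{u}) (h : Cx p H P) (hc : SporC (Soc P)) : Concl P p := by
  have hpf := Fact.mk h.prime
  have := h.char
  rcases hc with hT | hT | hT | hT | hT | hT | hT | hT | hT
  · exact (H114.O12.MEl.m11_twelve h.core p hT card12).elim
  · exact (H937.S12Rows.row_m12 h hT).elim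
  · by_cases hp2 : p = 2
    · subst hp2
      obtain ⟨e⟩ := hT
      have h1 := (H921.M22.six_of_sd e h.core card12.le h.sd).1
      rw [card12] at h1
      omega
    · exact (H114.O12.m22_twelve h.core p hp2 hT card12).elim
  · obtain ⟨e⟩ := hT
    have h1 := (H4.LDM.Stage.m23_low h.core e p card12.le).2.1
    rw [card12] at h1
    omega
  · obtain ⟨e⟩ := hT
    have h1 := (H4.LDM.Stage.m24_low h.core e p card12.le).2.1
    rw [card12] at h1
    omega
  · exact (row_j1 h hT).elim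
  · exact (H905.JD.J2_twelve_all h.core hT card12).elim
  · have h1 := (H95.JT.j3 p h.core hT card12.le).2.1
    rw [card12] at h1
    omega
  · exact row_suz h hT

/-- **Alternating groups.** -/
theorem cross_alt (O : PathC.{u}) (h : Cx p H P) (hc : AltC p 12 (Soc P)) (hL : ¬ IsLieTypeChar p (Soc P)) :
    Concl P p := by
  obtain ⟨m, h5, h14, -, -, -, ⟨e⟩⟩ := hc
  rcases (show m = 5 ∨ m = 6 ∨ m = 7 ∨ 8 ≤ m by omega) with rfl | rfl | rfl | h8
  · exact (row_a5 h e).elim
  · exact (row_a6 h e).elim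
  · exact (row_a7 O h e).elim
  · refine row_alt h h8 ?_ e
    rintro ⟨rfl, rfl⟩
    apply hL
    obtain ⟨e'⟩ := S0256.result (F := ZMod 2) (by simp)
    exact H936.List12.lie_of_isL (m := 4) (q := 2) (by norm_num) dvd_rfl (by norm_num) (by norm_num)
      ⟨ZMod 2, inferInstance, inferInstance, by simp, ⟨e.trans e'.symm⟩⟩

theorem cross_l2 (h : Cx p H P) {q : ℕ} (hq : q ∈ ({7, 8, 11, 13, 17, 19, 23, 25} : Finset ℕ)) (hpq : ¬ p ∣ q)
    (hT : IsL 2 q (Soc P)) : Concl P p := by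
  obtain ⟨K, iF, iT, hK, ⟨e⟩⟩ := hT
  have hq5 : 5 ≤ q ∧ q ≠ 9 := by
    simp only [Finset.mem_insert, Finset.mem_singleton] at hq
    omega
  exact row_l2 h (by omega) (by omega) (by rwa [hK]) e

/-- **Cross characteristic.** -/
theorem cross (O : PathC.{u}) (h : Cx p H P) (hk : IsKnownSimple' (Soc P)) (hL : ¬ IsLieTypeChar p (Soc P)) :
    Concl P p := by
  have hpf := Fact.mk h.prime
  have := h.char
  have hc : CandD p 12 (Soc P) := H936.List12.list card12.le h.core hk hL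
  rcases hc with hc | hc | hc | ⟨hp2, -, hT⟩ | hc
  · exact cross_alt O h hc hL
  · rcases hc with ⟨q, hq, hpq, -, hT⟩ | ⟨hp, -, hT⟩ | ⟨hp, -, hT⟩ | ⟨hp, -, hT⟩ | ⟨hp2, hp3, -, hT⟩ | ⟨hp, -, hT⟩ |
      ⟨hp, -, hT⟩ | ⟨hp, -, hT⟩ | ⟨hp, -, hT⟩
    · exact cross_l2 h hq hpq hT
    · exact (H937.S12Rows.row_l33 h hp hT).elim
    · exact (row_u33 h hp hT).elim
    · exact (row_u34 h hp hT).elim
    · exact (row_u42 h hp2 hp3 hT).elim
    · exact (row_u52 h hp hT).elim
    · exact row_s45 h hp hT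
    · exact (row_s62 h hp hT).elim
    · exact (row_o82 h hp hT).elim
  · rcases hc with ⟨hp, -, hT | hT | ⟨hp3, hT⟩ | hT | hT | hT⟩ | ⟨hp, -, hT⟩
    · refine cross_l2 h (q := 7) (by decide) ?_ hT
      intro h7
      exact hL (H936.List12.lie_of_isL (m := 2) (q := 7) h.prime h7 le_rfl (fun _ => by norm_num) hT)
    · exact (row_l34 h hp hT).elim
    · exact (row_u42 h hp hp3 hT).elim
    · exact (row_s62 h hp hT).elim
    · exact (row_o82 h hp hT).elim
    · exact H937.S12Rows.row_g2 h hp hT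
    · exact (row_u43 h hp hT).elim
  · exact (row_sz h hp2 hT).elim
  · exact cross_spor O h hc

end Cfsg.Agent.H922.S12
end

-- part: H922/S12/Final
section
set_option linter.all false

/-!
# S5869: the final theorem (helper922)
-/

set_option autoImplicit false
set_option linter.unusedSectionVars false

namespace Cfsg.Agent.H922.S12

open Cfsg Cfsg.Geo Matrix Cfsg.Agent.H915.LD

universe u

variable {F : Type u} [Field F] [Fintype F]

/-- **The conclusion for a core.** -/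
theorem concl (O : PathC.{u}) {p : ℕ} {H P : Subgroup (GL (Fin 6 ⊕ Fin 6) F)} (h : Cx p H P)
    (hk : IsKnownSimple' (Soc P)) : Concl P p := by
  by_cases hL : IsLieTypeChar p (Soc P)
  · exact Own.own_sp h hL
  · exact cross O h hk hL

theorem final (O : PathC.{u}) (hk : ∀ (T : Type u) [Group T] [Finite T] [IsSimpleGroup T], IsKnownSimple' T)
    {H : Subgroup (GL (Fin 6 ⊕ Fin 6) F)} (hH : IsMaximalIn (spGL 6 F) H) (hS : InSymplecticResidualClass H) :
    ∃ (P : Subgroup (GL (Fin 6 ⊕ Fin 6) F)) (p : ℕ), IsResidualCore H P ∧ p.Prime ∧ CharP F p ∧ Concl P p := by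
  obtain ⟨P, p, h⟩ := exists_cx hH hS
  have := h.core.simple
  exact ⟨P, p, h.hc, h.prime, h.char, concl O h (hk (Soc P))⟩

end Cfsg.Agent.H922.S12
end
end
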